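import Cfsg.Agent.Lib.Goldschmidt.ThreePrime.Data
import Cfsg.Agent.Lib.Involution.BaerSuzuki

/-!
# Members lie in `F*`; local groups are generated by `N(A)` and the moved components (owner: helper96)

* `mem_pCore_of_centralizes_layer` : a member centralising the layer lies in `O₂`
* `le_genFitting` : `A ≤ O₂(X) E(X)`
* `decomp` : the `decomp` field of `LocalFacts`
-/

set_option autoImplicit false
set_option linter.unusedSectionVars false
set_option linter.style.haveILetI false

namespace Cfsg.Agent.Goldschmidt.ThreePrime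

open Cfsg Subgroup Cfsg.Agent.Components
open scoped commutatorElement

universe u

variable {X : Type u} [Group X] [Finite X] {T : Set X} {A : Subgroup X}

theorem centralizer_pCore_inf_layer_le (hO : pPrimeCore 2 X = ⊥) :
    centralizer (pCore 2 X : Set X) ⊓ centralizer (Cfsg.layer X : Set X) ≤ pCore 2 X := by
  haveI : Fact (Nat.Prime 2) := ⟨Nat.prime_two⟩
  rw [← fitting_eq_pCore_of hO]
  refine le_trans ?_ centralizer_genFitting_le_fitting
  rw [le_centralizer_iff]
  exact sup_le (le_centralizer_iff.1 inf_le_right) (le_centralizer_iff.1 inf_le_left)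

/-- Members centralising the layer lie in `O₂`. -/
theorem mem_pCore_of_centralizes_layer (hO : pPrimeCore 2 X = ⊥) (hT : Goldschmidt.Elem T) {c : X}
    (hc : c ∈ T) (hcE : c ∈ centralizer (Cfsg.layer X : Set X)) : c ∈ pCore 2 X := by
  classical
  haveI : Fact (Nat.Prime 2) := ⟨Nat.prime_two⟩
  set Q := pCore 2 X with hQ
  haveI hQn : Q.Normal := Cores.pCore_normal 2 X
  have hQ2 : IsPGroup 2 ↥Q := Cores.isPGroup_pCore 2 X
  haveI hEn : (Cfsg.layer X).Normal := layer_normal
  -- each member centralising the layer stabilises `1 ≤ Q ∩ T ≤ Q`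
  have hser : ∀ d ∈ T, ∀ q ∈ Q, (q ∈ T → d * q * d⁻¹ = q) ∧
      (d * q * d⁻¹ * q⁻¹ ∈ T) := by
    intro d hd q hq
    have hR : IsPGroup 2 ↥(zpowers d ⊔ Q) :=
      IsPGroup.to_sup_of_normal_right (hT.isPGroup_zpowers hd) hQ2
    have hdR : d ∈ zpowers d ⊔ Q := mem_sup_left (mem_zpowers d)
    have hqR : q ∈ zpowers d ⊔ Q := mem_sup_right hq
    refine ⟨fun hqT => by rw [(hT.commute hR hdR hqR hd hqT).eq, mul_inv_cancel_right], ?_⟩
    rw [show d * q * d⁻¹ * q⁻¹ = d * (q * d⁻¹ * q⁻¹) by group]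
    exact hT.closed.mul _ hR d hdR _ (mul_mem (mul_mem hqR (inv_mem hdR)) (inv_mem hqR)) hd
      (hT.closed.conj q _ (hT.closed.inv_mem hd))
  -- the product of two of them is a 2-element
  have hpair : ∀ g : X, ∃ n : ℕ, (c * (g * c * g⁻¹)) ^ 2 ^ n = 1 := by
    intro g
    set d := g * c * g⁻¹ with hd
    have hdT : d ∈ T := hT.closed.conj g c hc
    have hdE : d ∈ centralizer (Cfsg.layer X : Set X) :=
      (inferInstance : (centralizer (Cfsg.layer X : Set X)).Normal).conj_mem c hcE g
    set z := c * d with hz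
    obtain ⟨k, m, hm, hnm⟩ := Nat.exists_eq_two_pow_mul_odd (orderOf_pos z).ne'
    refine ⟨k, ?_⟩
    set w := z ^ 2 ^ k with hw
    have hwm : w ^ m = 1 := by rw [hw, ← pow_mul, ← hnm, pow_orderOf_eq_one]
    have hwE : w ∈ centralizer (Cfsg.layer X : Set X) := pow_mem (mul_mem hcE hdE) _
    have hzser : ∀ q ∈ Q, (q ∈ T → z * q * z⁻¹ = q) ∧ z * q * z⁻¹ * q⁻¹ ∈ T := by
      intro q hq
      refine ⟨fun hqT => ?_, ?_⟩
      · rw [hz, show c * d * q * (c * d)⁻¹ = c * (d * q * d⁻¹) * c⁻¹ by group,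
          (hser d hdT q hq).1 hqT, (hser c hc q hq).1 hqT]
      · have h1 : d * q * d⁻¹ ∈ Q := hQn.conj_mem q hq d
        have h2 := (hser d hdT q hq).2
        have h3 := (hser c hc _ h1).2
        rw [hz, show c * d * q * (c * d)⁻¹ * q⁻¹
          = (c * (d * q * d⁻¹) * c⁻¹ * (d * q * d⁻¹)⁻¹) * (d * q * d⁻¹ * q⁻¹) by group]
        exact hT.closed.mul Q hQ2 _ (Q.mul_mem (hQn.conj_mem _ h1 c) (Q.inv_mem h1)) _
          (Q.mul_mem h1 (Q.inv_mem hq)) h3 h2
    have hwQ : w ∈ centralizer (Q : Set X) := by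
      refine mem_centralizer_iff.2 fun q hq => ?_
      set u := z * q * z⁻¹ * q⁻¹ with hu
      have huQ : u ∈ Q := Q.mul_mem (hQn.conj_mem q hq z) (Q.inv_mem hq)
      have huz : z * u * z⁻¹ = u := (hzser u huQ).1 (hzser q hq).2
      have hzq : z * q * z⁻¹ = u * q := by rw [hu, inv_mul_cancel_right]
      clear_value u
      have hiter : ∀ i : ℕ, z ^ i * q * (z ^ i)⁻¹ = u ^ i * q := by
        intro i
        induction i with
        | zero => simp
        | succ i ih =>
          have h1 : z * u ^ i * z⁻¹ = u ^ i := by rw [← conj_pow, huz]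
          calc z ^ (i + 1) * q * (z ^ (i + 1))⁻¹
              = z * (z ^ i * q * (z ^ i)⁻¹) * z⁻¹ := by rw [pow_succ']; group
            _ = z * (u ^ i * q) * z⁻¹ := by rw [ih]
            _ = (z * u ^ i * z⁻¹) * (z * q * z⁻¹) := by group
            _ = u ^ i * (u * q) := by rw [h1, hzq]
            _ = u ^ (i + 1) * q := by rw [pow_succ, mul_assoc]
      have h1 : w * q * w⁻¹ = u ^ 2 ^ k * q := by rw [hw]; exact hiter _
      rcases k with _ | k
      · have h0 : z ^ m * q * (z ^ m)⁻¹ = u ^ m * q := hiter m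
        rw [hw, pow_zero, pow_one] at hwm ⊢
        rw [hwm, one_mul, inv_one, mul_one] at h0
        obtain ⟨j, hj⟩ := hm
        rw [hj, pow_succ, pow_mul, pow_two, hT.sq u (hu ▸ (hzser q hq).2), one_pow, one_mul] at h0
        have hu1 : u = 1 := right_eq_mul.1 h0
        rw [hu] at hu1
        exact (mul_inv_eq_iff_eq_mul.1 (mul_inv_eq_one.1 hu1)).symm
      · rw [pow_succ', pow_mul, pow_two, hT.sq u (hu ▸ (hzser q hq).2), one_pow, one_mul] at h1
        exact (mul_inv_eq_iff_eq_mul.1 h1).symm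
    have hw2 : w ∈ Q := centralizer_pCore_inf_layer_le hO ⟨hwQ, hwE⟩
    obtain ⟨n, hn⟩ := hQ2 ⟨w, hw2⟩
    have hcop : Nat.Coprime m (2 ^ n) := Nat.Coprime.pow_right _ (Nat.coprime_two_right.2 hm)
    have := pow_gcd_eq_one.2 ⟨hwm, (congrArg Subtype.val hn : w ^ 2 ^ n = 1)⟩
    rwa [hcop.gcd_eq_one, pow_one] at this
  refine (Cores.le_pCore (Subgroup.normalClosure_normal (s := ({c} : Set X)))
    (Involution.baer_suzuki_element c fun g => ?_)) (subset_normalClosure (Set.mem_singleton c))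
  obtain ⟨n, hn⟩ := hpair g
  set d := g * c * g⁻¹ with hd
  have hd2 : d * d = 1 := hT.sq d (hT.closed.conj g c hc)
  have hP1 : IsPGroup 2 ↥(zpowers (c * d)) := by
    rw [IsPGroup.iff_card]
    obtain ⟨i, -, hi⟩ := (Nat.dvd_prime_pow Nat.prime_two).1 (orderOf_dvd_of_pow_eq_one hn)
    exact ⟨i, by rw [Nat.card_zpowers, hi]⟩
  have hcn : c ∈ normalizer (zpowers (c * d) : Set X) := by
    refine Coprime.mem_normalizer_of_forall fun y hy => ?_
    obtain ⟨i, rfl⟩ := mem_zpowers_iff.1 hy
    refine mem_zpowers_iff.2 ⟨-i, ?_⟩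
    rw [← conj_zpow, show c * (c * d) * c⁻¹ = (c * d)⁻¹ by
      rw [mul_inv_rev, hT.inv_eq hc, ← mul_assoc c c d, hT.sq c hc, one_mul,
        inv_eq_of_mul_eq_one_right hd2], inv_zpow, zpow_neg]
  refine (IsPGroup.to_sup_of_normal_right' (hT.isPGroup_zpowers hc) hP1 (zpowers_le.2 hcn)).to_le ?_
  rw [Subgroup.closure_le]
  rintro _ (rfl | rfl)
  · exact mem_sup_left (mem_zpowers _)
  · have h1 := mul_mem_sup (mem_zpowers c) (mem_zpowers (c * d))
    rwa [← mul_assoc c c d, hT.sq c hc, one_mul] at h1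

/-- Members lie in `F*`. -/
theorem le_genFitting (L : Local X T A)
    (hsz : ∀ (Y : Type u) [Group Y] [Finite Y], Cfsg.Lie.IsoSuzuki Y → ∃ q, SzFacts Y q) :
    A ≤ pCore 2 X ⊔ Cfsg.layer X := by
  classical
  have hT := L.elem
  intro a ha
  have key : ∀ s : Finset (Subgroup X), (∀ K ∈ s, Cfsg.IsComponent K) →
      ∃ e ∈ Cfsg.layer X, e * a ∈ A ∧ ∀ K ∈ s, e * a ∈ centralizer (K : Set X) := by
    intro s
    induction s using Finset.induction_on with
    | empty => exact fun _ => ⟨1, one_mem _, by rwa [one_mul], fun K hK => absurd hK (Finset.notMem_empty K)⟩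
    | insert K s hKs ih =>
      intro hs
      obtain ⟨e, he, heA, hec⟩ := ih fun J hJ => hs J (Finset.mem_insert_of_mem hJ)
      have hK := hs K (Finset.mem_insert_self K s)
      by_cases hM : K ≤ centralizer (A : Set X)
      · refine ⟨e, he, heA, fun J hJ => ?_⟩
        rcases Finset.mem_insert.1 hJ with rfl | hJ
        · exact mem_centralizer_iff.2 fun k hk => (mem_centralizer_iff.1 (hM hk) _ heA).symm
        · exact hec J hJ
      obtain ⟨q, hC⟩ := compData L hsz ⟨hK, hM⟩
      have hnorm : fixer A K ≤ normalizer ((A ⊓ K : Subgroup X) : Set X) := fun f hf =>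
        centralizer_le_normalizer _ (mem_centralizer_iff.2 fun y hy =>
          (hT.commute L.two hy.1 hf.1 (L.subset hy.1) (L.subset hf.1)).eq)
      obtain ⟨b, hb, f, hf, hbf⟩ := (Coprime.mem_sup_iff hnorm).1 (hC.sup.ge heA)
      refine ⟨b⁻¹ * e, mul_mem (inv_mem (IsComponent.le_layer hK hb.2)) he, ?_, fun J hJ => ?_⟩
      · rw [mul_assoc]; exact A.mul_mem (A.inv_mem hb.1) heA
      have hf' : b⁻¹ * e * a = f := by rw [mul_assoc, ← hbf, inv_mul_cancel_left]
      rw [hf']
      rcases Finset.mem_insert.1 hJ with rfl | hJ'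
      · exact hf.2
      · have hne : K ≠ J := fun h => hKs (h ▸ hJ')
        have hbJ : b ∈ centralizer (J : Set X) := by
          refine mem_centralizer_iff.2 fun j hj => ?_
          exact (commutatorElement_eq_one_iff_commute.1 (mem_bot.1
            (IsComponent.commutator_eq_bot hK (hs J hJ) hne ▸ commutator_mem_commutator hb.2 hj))).eq.symm
        rw [← hf', mul_assoc]
        exact mul_mem (inv_mem hbJ) (hec J hJ')
  obtain ⟨e, he, heA, hec⟩ := key (Set.toFinite {K : Subgroup X | Cfsg.IsComponent K}).toFinset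
    fun K hK => by simpa using hK
  have hlay : e * a ∈ centralizer (Cfsg.layer X : Set X) := by
    have h1 : Cfsg.layer X ≤ centralizer (zpowers (e * a) : Set X) :=
      layer_le fun K hK => le_centralizer_iff.1 (zpowers_le.2 (hec K (by simpa using hK)))
    exact le_centralizer_iff.1 h1 (mem_zpowers _)
  rw [show a = e⁻¹ * (e * a) by group]
  exact mul_mem (mem_sup_right (inv_mem he))
    (mem_sup_left (mem_pCore_of_centralizes_layer L.core hT (L.subset heA) hlay))

/-- A local group is generated by the normaliser of `A` and the moved components. -/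
theorem decomp (L : Local X T A)
    (hsz : ∀ (Y : Type u) [Group Y] [Finite Y], Cfsg.Lie.IsoSuzuki Y → ∃ q, SzFacts Y q) :
    ∀ M : Subgroup X, normalizer (A : Set X) ≤ M → (∀ K : Subgroup X, Moved A K → K ≤ M) → M = ⊤ := by
  intro M hN hK
  haveI : Fact (Nat.Prime 2) := ⟨Nat.prime_two⟩
  have hT := L.elem
  haveI hQn : (pCore 2 X).Normal := Cores.pCore_normal 2 X
  haveI hEn : (Cfsg.layer X).Normal := layer_normal
  set F := pCore 2 X ⊔ Cfsg.layer X with hF
  haveI : F.Normal := inferInstanceAs (pCore 2 X ⊔ Cfsg.layer X).Normal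
  have hconj : ∀ P : Subgroup X, IsPGroup 2 ↥P → A ≤ P → ∀ g ∈ normalizer (P : Set X),
      g ∈ normalizer (A : Set X) := by
    intro P hP hAP g hg
    refine Coprime.mem_normalizer_of_forall fun a ha => ?_
    exact L.max P hP hAP _ ((mem_normalizer_iff.1 hg a).1 (hAP ha)) (hT.closed.conj g a (L.subset ha))
  have hQM : pCore 2 X ≤ M := fun y hy => hN (hconj (A ⊔ pCore 2 X)
    (IsPGroup.to_sup_of_normal_right L.two (Cores.isPGroup_pCore 2 X)) le_sup_left y
    (le_normalizer (mem_sup_right hy)))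
  have hEM : Cfsg.layer X ≤ M := layer_le fun K hKc => by
    by_cases hm : K ≤ centralizer (A : Set X)
    · exact hm.trans ((centralizer_le_normalizer _).trans hN)
    · exact hK K ⟨hKc, hm⟩
  obtain ⟨P, hP⟩ := (L.two.comap_of_injective F.subtype F.subtype_injective).exists_le_sylow
  have hAP : A ≤ (P : Subgroup F).map F.subtype := fun a ha =>
    ⟨⟨a, le_genFitting L hsz ha⟩, hP ha, rfl⟩
  rw [eq_top_iff, ← Sylow.normalizer_sup_eq_top P]
  exact sup_le (fun g hg => hN (hconj _ (P.isPGroup'.map _) hAP g hg)) (sup_le hQM hEM)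

end Cfsg.Agent.Goldschmidt.ThreePrime
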