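import Cfsg.Agent.Lib.Goldschmidt.ThreePrime.Defs
import Cfsg.Agent.Lib.Goldschmidt.Structure
import Cfsg.Agent.Lib.Components.GenFitting

/-!
# Components of core-free local groups (owner: helper96)

* `compData` : the data of a component moved by `A`
* `balanced` : an odd subgroup centralised by `a ∈ A` and normalised by its centraliser is trivial
-/

set_option autoImplicit false
set_option linter.unusedSectionVars false
set_option linter.style.haveILetI false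

namespace Cfsg.Agent.Goldschmidt.ThreePrime

open Cfsg Subgroup Cfsg.Agent.Components
open scoped commutatorElement

universe u

variable {X : Type u} [Group X] [Finite X] {T : Set X} {A K : Subgroup X}

/-- An element fixing a quasisimple component modulo its centre centralises it. -/
theorem centralizes_of_mod_center (hK : Cfsg.IsComponent K) {a : X} (ha : a ∈ normalizer (K : Set X))
    (h : ∀ k : K, (⟨a * k * a⁻¹, (mem_normalizer_iff.1 ha k).1 k.2⟩ : K) * k⁻¹ ∈ center K) :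
    a ∈ centralizer (K : Set X) := by
  haveI : Group.IsPerfect K := hK.2.1
  let φ : K →* center K :=
    { toFun := fun k => ⟨_, h k⟩
      map_one' := Subtype.ext (Subtype.ext (by simp))
      map_mul' := fun k l => Subtype.ext (Subtype.ext (by
        have hc := congrArg Subtype.val (mem_center_iff.1 (h l) k)
        simp only [Subgroup.coe_mul, InvMemClass.coe_inv] at hc
        simp only [Subgroup.coe_mul, InvMemClass.coe_inv]
        symm
        calc a * k * a⁻¹ * (k : X)⁻¹ * (a * l * a⁻¹ * (l : X)⁻¹)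
            = a * k * a⁻¹ * (k : X)⁻¹ * ((k : X) * (a * l * a⁻¹ * (l : X)⁻¹)) * (k : X)⁻¹ := by
              rw [hc]; group
          _ = a * ((k : X) * l) * a⁻¹ * ((k : X) * l)⁻¹ := by group)) }
  haveI : Group.IsSolvable (center K) := Group.isSolvable_of_comm fun x y =>
    Subtype.ext (mem_center_iff.1 y.2 x)
  have h1 : ∀ k, φ k = 1 := by
    intro k
    haveI : Group.IsPerfect φ.range := Group.IsPerfect.ofSurjective φ.rangeRestrict_surjective
    have hs : Subsingleton φ.range := by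
      by_contra hn
      rw [not_subsingleton_iff_nontrivial] at hn
      exact Group.IsPerfect.not_isSolvable φ.range inferInstance
    exact congrArg Subtype.val (Subsingleton.elim (⟨φ k, k, rfl⟩ : φ.range) 1)
  refine mem_centralizer_iff.2 fun k hk => ?_
  have h2 : a * k * a⁻¹ * k⁻¹ = 1 := congrArg (fun z : center K => ((z : K) : X)) (h1 ⟨k, hk⟩)
  exact (mul_inv_eq_iff_eq_mul.1 (mul_inv_eq_one.1 h2)).symm

/-- Conjugation on a normalised subgroup. -/
noncomputable def compAut {a : X} (ha : a ∈ normalizer (K : Set X)) : MulAut K :=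
  { toFun := fun k => ⟨a * k * a⁻¹, (mem_normalizer_iff.1 ha k).1 k.2⟩
    invFun := fun k => ⟨a⁻¹ * k * a, (mem_normalizer_iff.1 ha _).2
      (by rw [show a * (a⁻¹ * (k : X) * a) * a⁻¹ = k by group]; exact k.2)⟩
    left_inv := fun k => Subtype.ext (by show a⁻¹ * (a * (k : X) * a⁻¹) * a = k; group)
    right_inv := fun k => Subtype.ext (by show a * (a⁻¹ * (k : X) * a) * a⁻¹ = k; group)
    map_mul' := fun k l => Subtype.ext (by
      show a * ((k : X) * l) * a⁻¹ = a * k * a⁻¹ * (a * l * a⁻¹); group) }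

/-- An element normalising a component acts on its central quotient. -/
noncomputable def quotAut {a : X} (ha : a ∈ normalizer (K : Set X)) : MulAut (↥K ⧸ center K) :=
  QuotientGroup.congr (center K) (center K) (compAut ha)
    (Subgroup.characteristic_iff_map_eq.1 inferInstance (compAut ha))

theorem quotAut_mk {a : X} (ha : a ∈ normalizer (K : Set X)) (k : K) :
    quotAut ha (QuotientGroup.mk' (center K) k) =
      QuotientGroup.mk' (center K) ⟨a * k * a⁻¹, (mem_normalizer_iff.1 ha k).1 k.2⟩ := rfl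

theorem quotAut_pow_eq_one {a : X} (ha : a ∈ normalizer (K : Set X)) {n : ℕ} (hn : a ^ n = 1) :
    quotAut ha ^ n = 1 := by
  have key : ∀ (i : ℕ) (k : K), ∃ h : a ^ i * (k : X) * (a ^ i)⁻¹ ∈ K,
      (quotAut ha ^ i) (QuotientGroup.mk' (center K) k) = QuotientGroup.mk' (center K) ⟨_, h⟩ := by
    intro i
    induction i with
    | zero => exact fun k => ⟨by simp, by simp⟩
    | succ i ih =>
      intro k
      obtain ⟨h, e⟩ := ih k
      have e' : a * (a ^ i * (k : X) * (a ^ i)⁻¹) * a⁻¹ = a ^ (i + 1) * k * (a ^ (i + 1))⁻¹ := by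
        rw [pow_succ']; group
      refine ⟨e' ▸ (mem_normalizer_iff.1 ha _).1 h, ?_⟩
      rw [pow_succ', MulAut.mul_apply, e, quotAut_mk]
      exact congrArg _ (Subtype.ext e')
  refine MulEquiv.ext fun q => ?_
  obtain ⟨k, rfl⟩ := QuotientGroup.mk'_surjective (center K) q
  obtain ⟨h, e⟩ := key n k
  rw [e, MulAut.one_apply]
  exact congrArg _ (Subtype.ext (by simp [hn]))

theorem centralizes_of_quotAut (hK : Cfsg.IsComponent K) {a : X} (ha : a ∈ normalizer (K : Set X))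
    (h : quotAut ha = 1) : a ∈ centralizer (K : Set X) := by
  refine centralizes_of_mod_center hK ha fun k => ?_
  have h1 : quotAut ha (QuotientGroup.mk' (center K) k) = QuotientGroup.mk' (center K) k := by
    rw [h, MulAut.one_apply]
  rw [quotAut_mk, QuotientGroup.mk'_apply, QuotientGroup.mk'_apply, QuotientGroup.eq] at h1
  -- `x⁻¹ k` central gives `x k⁻¹` central
  set x : K := ⟨a * k * a⁻¹, (mem_normalizer_iff.1 ha k).1 k.2⟩ with hx
  have h2 : (x⁻¹ * k)⁻¹ ∈ center K := inv_mem h1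
  rw [mul_inv_rev, inv_inv] at h2
  have h3 := mem_center_iff.1 h2 k
  have h4 : x * k⁻¹ = k⁻¹ * x := by
    calc x * k⁻¹ = k * (k⁻¹ * x) * k⁻¹ := by group
      _ = k⁻¹ * x * k * k⁻¹ := by rw [h3]
      _ = k⁻¹ * x := by group
  rwa [h4]

/-- A group element fixing all components and `O₂` and of odd order is trivial in a core-free group. -/
theorem eq_bot_of_centralizes (hO : pPrimeCore 2 X = ⊥) {D : Subgroup X} (hD : Odd (Nat.card D))
    (h2 : D ≤ centralizer (pCore 2 X : Set X))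
    (hc : ∀ K : Subgroup X, Cfsg.IsComponent K → D ≤ centralizer (K : Set X)) : D = ⊥ := by
  haveI : Fact (Nat.Prime 2) := ⟨Nat.prime_two⟩
  have hlay : Cfsg.layer X ≤ centralizer (D : Set X) :=
    layer_le fun K hK => le_centralizer_iff.1 (hc K hK)
  have hF : Cfsg.fittingSubgroup X ≤ centralizer (D : Set X) := by
    rw [fitting_eq_pCore_of hO]
    exact le_centralizer_iff.1 h2
  have hle : D ≤ pCore 2 X := by
    rw [← fitting_eq_pCore_of hO]
    exact le_trans (le_centralizer_iff.1 (sup_le hlay hF)) centralizer_genFitting_le_fitting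
  refine Subgroup.eq_bot_of_card_eq _ ?_
  obtain ⟨k, hk⟩ := ((Cores.isPGroup_pCore 2 X).to_le hle).exists_card_eq
  rw [hk] at hD ⊢
  rcases k with _ | k
  · rfl
  · exact absurd hD (by simp [pow_succ])

/-- The data attached to a component moved by `A`. -/
theorem compData (L : Local X T A)
    (hsz : ∀ (Y : Type u) [Group Y] [Finite Y], Cfsg.Lie.IsoSuzuki Y → ∃ q, SzFacts Y q)
    (hM : Moved A K) : ∃ q : ℕ, CompData A K q := by
  classical
  haveI : Fact (Nat.Prime 2) := ⟨Nat.prime_two⟩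
  obtain ⟨hK, hmov⟩ := hM
  have hT := L.elem
  haveI : IsSimpleGroup (↥K ⧸ center K) := hK.2.2
  have hncomm : ∃ x y : ↥K ⧸ center K, x * y ≠ y * x := by
    by_contra hno
    push Not at hno
    haveI : Group.IsSolvable (↥K ⧸ center K) := Group.isSolvable_of_comm hno
    haveI : Group.IsSolvable (center K) := Group.isSolvable_of_comm fun a b =>
      Subtype.ext (mem_center_iff.1 b.2 a)
    exact IsQuasisimple.not_isSolvable hK.2 (Group.isSolvable_of_ker_le_range (center K).subtype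
      (QuotientGroup.mk' (center K)) (by rw [QuotientGroup.ker_mk', range_subtype]))
  obtain ⟨q, F⟩ := hsz _ (L.sec K (center K) inferInstance hncomm)
  have hA : ∀ a ∈ A, a ∈ T := fun a ha => L.subset ha
  have hAcomm : ∀ a ∈ A, ∀ b ∈ A, Commute a b := fun a ha b hb =>
    hT.commute L.two ha hb (hA a ha) (hA b hb)
  have hn : ∀ a, a ∈ A → a ∈ normalizer (K : Set X) := fun a ha =>
    normalizes_component hT L.core hK (hA a ha)
  have hZ2 : IsPGroup 2 ↥(center K) := isPGroup_center_component L.core hK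
  set π := QuotientGroup.mk' (center K) with hπ
  have hπs := QuotientGroup.mk'_surjective (center K)
  -- members act as inner involutions
  have hinner : ∀ a : A, ∃ s : ↥K ⧸ center K, quotAut (hn a a.2) = MulAut.conj s := fun a =>
    F.inner _ ⟨1, quotAut_pow_eq_one _ (by rw [pow_one, pow_two]; exact hT.sq _ (hA _ a.2))⟩
  choose σ hσ using hinner
  have hconj : Function.Injective (MulAut.conj : ↥K ⧸ center K →* MulAut (↥K ⧸ center K)) := by
    refine (injective_iff_map_eq_one _).2 fun s hs => ?_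
    rw [← mem_bot, ← F.center, mem_center_iff]
    intro g
    have := MulEquiv.congr_fun hs g
    rw [MulAut.conj_apply, MulAut.one_apply, mul_inv_eq_iff_eq_mul] at this
    exact this.symm
  have hact : ∀ (a : A) (k : K),
      π ⟨a * k * (a : X)⁻¹, (mem_normalizer_iff.1 (hn a a.2) k).1 k.2⟩ = σ a * π k * (σ a)⁻¹ := by
    intro a k
    rw [hπ, ← quotAut_mk (hn a a.2) k, hσ, MulAut.conj_apply]
  have hmul : ∀ a b : A, σ (a * b) = σ a * σ b := by
    intro a b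
    refine hconj (MulEquiv.ext fun g => ?_)
    obtain ⟨k, rfl⟩ := hπs g
    rw [map_mul, MulAut.mul_apply, MulAut.conj_apply, MulAut.conj_apply, MulAut.conj_apply,
      ← hact, ← hact, ← hact]
    exact congrArg _ (Subtype.ext (by simp [mul_assoc]))
  let Sg : A →* ↥K ⧸ center K := MonoidHom.mk' σ hmul
  have hSg : ∀ a : A, Sg a = σ a := fun a => rfl
  have hsq1 : ∀ a : A, σ a * σ a = 1 := fun a => by
    rw [← hmul, show a * a = 1 from Subtype.ext (hT.sq _ (hA _ a.2))]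
    exact map_one Sg
  have hfix : ∀ a : A, σ a = 1 ↔ (a : X) ∈ fixer A K := by
    intro a
    refine ⟨fun h => ⟨a.2, centralizes_of_quotAut hK (hn a a.2) (by rw [hσ, h, map_one])⟩, fun h => ?_⟩
    refine hconj (MulEquiv.ext fun g => ?_)
    obtain ⟨k, rfl⟩ := hπs g
    rw [map_one, MulAut.one_apply, MulAut.conj_apply, ← hact]
    refine congrArg _ (Subtype.ext ?_)
    show (a : X) * k * (a : X)⁻¹ = k
    rw [← mem_centralizer_iff.1 h.2 k k.2, mul_inv_cancel_right]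
  obtain ⟨a₀, ha₀A, ha₀⟩ : ∃ a ∈ A, ¬ K ≤ centralizer ({a} : Set X) := by
    by_contra hno
    push Not at hno
    exact hmov fun k hk => mem_centralizer_iff.2 fun a ha =>
      (mem_centralizer_singleton_iff.1 (hno a ha hk)).symm
  have hσ0 : σ ⟨a₀, ha₀A⟩ ≠ 1 := fun h => ha₀ fun k hk => mem_centralizer_singleton_iff.2
    (mem_centralizer_iff.1 ((hfix _).1 h).2 k hk)
  -- the Sylow subgroup of `K / Z(K)`
  obtain ⟨Q, hQ⟩ := F.cent (σ ⟨a₀, ha₀A⟩) (orderOf_eq_prime (by rw [pow_two]; exact hsq1 _) hσ0)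
  have hσQ : ∀ a : A, σ a ∈ (Q : Subgroup (↥K ⧸ center K)) := fun a => by
    rw [← hQ, mem_centralizer_singleton_iff, ← hmul, ← hmul,
      show a * ⟨a₀, ha₀A⟩ = ⟨a₀, ha₀A⟩ * a from Subtype.ext (hAcomm _ a.2 _ ha₀A).eq]
  have hσC : ∀ a : A, σ a ∈ centre (Q : Subgroup (↥K ⧸ center K)) := fun a =>
    (F.omega Q _ (hσQ a)).1 (hsq1 a)
  set Qh : Subgroup X := ((Q : Subgroup (↥K ⧸ center K)).comap π).map K.subtype with hQh
  have hQhK : Qh ≤ K := map_subtype_le _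
  have hmemQh : ∀ (k : X) (hk : k ∈ K), k ∈ Qh ↔ π ⟨k, hk⟩ ∈ (Q : Subgroup (↥K ⧸ center K)) := by
    intro k hk
    constructor
    · rintro ⟨y, hy, rfl⟩
      exact hy
    · exact fun h => ⟨⟨k, hk⟩, h, rfl⟩
  have hQh2 : IsPGroup 2 ↥Qh :=
    ((Q.isPGroup').comap_of_ker_isPGroup π (by rw [hπ, QuotientGroup.ker_mk']; exact hZ2)).map _
  have hAQh : A ≤ normalizer (Qh : Set X) := fun a ha => by
    have hconjQ : ∀ k ∈ Qh, a * k * a⁻¹ ∈ Qh := fun k hk => by
      have hkK := hQhK hk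
      refine (hmemQh _ ((mem_normalizer_iff.1 (hn a ha) k).1 hkK)).2 ?_
      rw [hact ⟨a, ha⟩ ⟨k, hkK⟩]
      exact mul_mem (mul_mem (hσQ _) ((hmemQh k hkK).1 hk)) (inv_mem (hσQ _))
    refine mem_normalizer_iff.2 fun k => ⟨hconjQ k, fun hk => ?_⟩
    have h1 := hconjQ _ hk
    rwa [show a * (a * k * a⁻¹) * a⁻¹ = (a * a) * k * (a * a)⁻¹ by group, hT.sq a (hA a ha),
      one_mul, inv_one, mul_one] at h1
  have hTQ : ∀ x ∈ Qh, x ∈ T → x ∈ A := fun x hx hxT =>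
    L.max (A ⊔ Qh) (IsPGroup.to_sup_of_normal_right' L.two hQh2 hAQh) le_sup_left x
      (mem_sup_right hx) hxT
  -- members of `A` in `K` lie over the centre of `Q`
  have hAK : ∀ b, b ∈ A → ∀ hbK : b ∈ K, π ⟨b, hbK⟩ ∈ centre (Q : Subgroup (↥K ⧸ center K)) := by
    intro b hb hbK
    have hσb : ∀ a : A, σ a * π ⟨b, hbK⟩ = π ⟨b, hbK⟩ * σ a := fun a => by
      rw [← mul_inv_eq_iff_eq_mul, ← hact]
      exact congrArg _ (Subtype.ext (show (a : X) * b * (a : X)⁻¹ = b by rw [(hAcomm _ a.2 _ hb).eq, mul_inv_cancel_right]))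
    refine (F.omega Q _ ?_).1 ?_
    · show π ⟨b, hbK⟩ ∈ (Q : Subgroup (↥K ⧸ center K))
      rw [← hQ, mem_centralizer_singleton_iff]
      exact (hσb _).symm
    · rw [← map_mul, show (⟨b, hbK⟩ : K) * ⟨b, hbK⟩ = 1 from Subtype.ext (hT.sq b (hA b hb)), map_one]
  obtain ⟨v, hv, hvK, hvZ, hav⟩ := exists_noncentral hT L.core hK (hA a₀ ha₀A) ha₀
  have hv1 : π ⟨v, hvK⟩ ≠ 1 := fun h => hvZ ⟨⟨v, hvK⟩, (QuotientGroup.eq_one_iff _).1 h, rfl⟩
  have hvA : v ∈ A := by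
    refine hTQ v ((hmemQh v hvK).2 ?_) hv
    rw [← hQ, mem_centralizer_singleton_iff, eq_comm, ← mul_inv_eq_iff_eq_mul, ← hact]
    exact congrArg _ (Subtype.ext (show a₀ * v * a₀⁻¹ = v by rw [hav.eq, mul_inv_cancel_right]))
  -- the torus
  obtain ⟨hb, hbN, hbo, htrans, -⟩ := F.torus Q
  obtain ⟨kk, hkk, rfl⟩ := F.pow
  have hq8 : 8 ≤ 2 ^ (2 * kk + 1) := le_trans (by norm_num)
    (Nat.pow_le_pow_right (by norm_num : 1 ≤ 2) (show 3 ≤ 2 * kk + 1 by omega))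
  have hodd : Odd (orderOf hb) := by
    rw [hbo]
    exact Nat.Even.sub_odd (by omega) (Nat.even_pow.2 ⟨even_two, by omega⟩) odd_one
  obtain ⟨h, hho, hh⟩ : ∃ h : K, Odd (orderOf h) ∧ π h = hb := by
    obtain ⟨h₀, hh₀⟩ := hπs hb
    obtain ⟨k, m, hm, hnm⟩ := Nat.exists_eq_two_pow_mul_odd (orderOf_pos h₀).ne'
    obtain ⟨j, hj⟩ := exists_pow_eq_self_of_coprime (x := hb) (n := 2 ^ k)
      (Nat.Coprime.pow_left _ (Nat.coprime_two_left.2 hodd))
    refine ⟨(h₀ ^ 2 ^ k) ^ j, hm.of_dvd_nat ((orderOf_pow_dvd j).trans ?_),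
      by rw [map_pow, map_pow, hh₀, hj]⟩
    rw [orderOf_pow' h₀ (by positivity), hnm, Nat.gcd_eq_right (dvd_mul_right _ _),
      Nat.mul_div_cancel_left _ (by positivity)]
  have hbC : ∀ z ∈ centre (Q : Subgroup (↥K ⧸ center K)),
      hb * z * hb⁻¹ ∈ centre (Q : Subgroup (↥K ⧸ center K)) := fun z hz => by
    have hzQ : hb * z * hb⁻¹ ∈ (Q : Subgroup (↥K ⧸ center K)) := (mem_normalizer_iff.1 hbN z).1 hz.1
    refine (F.omega Q _ hzQ).1 ?_
    calc hb * z * hb⁻¹ * (hb * z * hb⁻¹) = hb * (z * z) * hb⁻¹ := by group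
      _ = 1 := by rw [(F.omega Q z hz.1).2 hz]; group
  have hbfpf : ∀ z ∈ centre (Q : Subgroup (↥K ⧸ center K)), hb * z * hb⁻¹ = z → z = 1 := by
    intro z hz hfix'
    by_contra hz1
    have hall : ∀ w ∈ centre (Q : Subgroup (↥K ⧸ center K)), w ≠ 1 → w = z := by
      intro w hw hw1
      obtain ⟨k, hk⟩ := htrans z hz w hw hz1 hw1
      rw [← hk, mul_inv_eq_iff_eq_mul]
      exact ((show Commute hb z from mul_inv_eq_iff_eq_mul.1 hfix').pow_left k).eq
    have hle : Nat.card ↥(centre (Q : Subgroup (↥K ⧸ center K))) ≤ 2 := by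
      calc Nat.card ↥(centre (Q : Subgroup (↥K ⧸ center K)))
          ≤ Nat.card ({1, z} : Set (↥K ⧸ center K)) :=
            Nat.card_le_card_of_injective (fun w => ⟨w.1, by
              by_cases hw : w.1 = 1
              · exact Or.inl hw
              · exact Or.inr (hall _ w.2 hw)⟩)
              fun a b e => Subtype.ext (congrArg Subtype.val e :)
        _ ≤ 2 := by
          rw [Nat.card_coe_set_eq]
          exact (Set.ncard_insert_le _ _).trans (by simp)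
    rw [F.card_centre Q] at hle
    omega
  have hbpow : ∀ k : ℕ, ∀ z ∈ centre (Q : Subgroup (↥K ⧸ center K)),
      hb ^ k * z * (hb ^ k)⁻¹ ∈ centre (Q : Subgroup (↥K ⧸ center K)) := by
    intro k
    induction k with
    | zero => simp
    | succ k ih =>
      intro z hz
      rw [show hb ^ (k + 1) * z * (hb ^ (k + 1))⁻¹ = hb * (hb ^ k * z * (hb ^ k)⁻¹) * hb⁻¹ by
        rw [pow_succ']; group]
      exact hbC _ (ih z hz)
  have hhA : ∀ b, b ∈ A → b ∈ K → (h : X) * b * (h : X)⁻¹ ∈ A := by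
    intro b hb' hbK
    refine hTQ _ ?_ (hT.closed.conj _ _ (hA b hb'))
    refine (hmemQh _ (mul_mem (mul_mem h.2 hbK) (inv_mem h.2))).2 ?_
    rw [show (⟨(h : X) * b * (h : X)⁻¹, _⟩ : K) = h * ⟨b, hbK⟩ * h⁻¹ from Subtype.ext (by simp),
      map_mul, map_mul, map_inv, hh]
    exact (hbC _ (hAK b hb' hbK)).1
  have hhApow : ∀ k : ℕ, ∀ b, b ∈ A → b ∈ K → (h : X) ^ k * b * ((h : X) ^ k)⁻¹ ∈ A := by
    intro k
    induction k with
    | zero => intro b hb' _; simpa using hb'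
    | succ k ih =>
      intro b hb' hbK
      rw [show (h : X) ^ (k + 1) * b * ((h : X) ^ (k + 1))⁻¹
        = (h : X) * ((h : X) ^ k * b * ((h : X) ^ k)⁻¹) * (h : X)⁻¹ by rw [pow_succ']; group]
      exact hhA _ (ih b hb' hbK) (mul_mem (mul_mem (pow_mem h.2 k) hbK) (inv_mem (pow_mem h.2 k)))
  -- `A ∩ K` maps onto the centre of `Q`
  have honto : ∀ z ∈ centre (Q : Subgroup (↥K ⧸ center K)), ∃ b, b ∈ A ∧ ∃ hbK : b ∈ K, π ⟨b, hbK⟩ = z := by
    intro z hz
    by_cases hz1 : z = 1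
    · exact ⟨1, A.one_mem, K.one_mem, by rw [hz1]; exact map_one π⟩
    obtain ⟨k, hk⟩ := htrans _ (hAK v hvA hvK) z hz hv1 hz1
    refine ⟨(h : X) ^ k * v * ((h : X) ^ k)⁻¹, hhApow k v hvA hvK,
      mul_mem (mul_mem (pow_mem h.2 k) hvK) (inv_mem (pow_mem h.2 k)), ?_⟩
    rw [← hk, ← hh, ← map_pow, ← map_inv, ← map_mul, ← map_mul]
    exact congrArg _ (Subtype.ext (by simp))
  have hσK : ∀ b, ∀ hb' : b ∈ A, ∀ hbK : b ∈ K, σ ⟨b, hb'⟩ = π ⟨b, hbK⟩ := by
    intro b hb' hbK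
    refine hconj (MulEquiv.ext fun g => ?_)
    obtain ⟨k, rfl⟩ := hπs g
    rw [MulAut.conj_apply, ← hact, MulAut.conj_apply, ← map_inv, ← map_mul, ← map_mul]
    exact congrArg _ (Subtype.ext (by simp))
  have hdec : ∀ a, a ∈ A → ∃ b, b ∈ A ∧ b ∈ K ∧ b⁻¹ * a ∈ fixer A K := by
    intro a ha
    obtain ⟨b, hb', hbK, e⟩ := honto _ (hσC ⟨a, ha⟩)
    refine ⟨b, hb', hbK, (hfix ⟨b⁻¹ * a, A.mul_mem (A.inv_mem hb') ha⟩).1 ?_⟩
    have h1 : Sg (⟨b, hb'⟩⁻¹ * ⟨a, ha⟩) = 1 := by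
      rw [map_mul, map_inv, hSg, hSg, hσK b hb' hbK, e, inv_mul_cancel]
    exact h1
  have hsup : (A ⊓ K) ⊔ fixer A K = A := by
    refine le_antisymm (sup_le inf_le_left inf_le_left) fun a ha => ?_
    obtain ⟨b, hb', hbK, hf⟩ := hdec a ha
    rw [show a = b * (b⁻¹ * a) by group]
    exact mul_mem_sup ⟨hb', hbK⟩ hf
  have hhfix : ∀ f ∈ fixer A K, (h : X) * f * (h : X)⁻¹ = f := fun f hf => by
    rw [(mem_centralizer_iff.1 hf.2 h h.2), mul_inv_cancel_right]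
  have hhnA : (h : X) ∈ normalizer (A : Set X) := by
    refine Coprime.mem_normalizer_of_forall fun a ha => ?_
    obtain ⟨b, hb', hbK, hf⟩ := hdec a ha
    rw [show a = b * (b⁻¹ * a) by group,
      show (h : X) * (b * (b⁻¹ * a)) * (h : X)⁻¹
        = ((h : X) * b * (h : X)⁻¹) * ((h : X) * (b⁻¹ * a) * (h : X)⁻¹) by group, hhfix _ hf]
    exact A.mul_mem (hhA b hb' hbK) hf.1
  have hconjA : ∀ a : A, (h : X) * a * (h : X)⁻¹ ∈ A := fun a => (mem_normalizer_iff.1 hhnA _).1 a.2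
  -- the complement `[A, h]`
  let φ : A →* A :=
    { toFun := fun a => ⟨(a : X) * ((h : X) * a * (h : X)⁻¹), A.mul_mem a.2 (hconjA a)⟩
      map_one' := Subtype.ext (by simp)
      map_mul' := fun a b => Subtype.ext (by
        show (a : X) * b * ((h : X) * ((a : X) * b) * (h : X)⁻¹) = _
        calc _ = (a : X) * ((b : X) * ((h : X) * a * (h : X)⁻¹)) * ((h : X) * b * (h : X)⁻¹) := by group
          _ = (a : X) * (((h : X) * a * (h : X)⁻¹) * b) * ((h : X) * b * (h : X)⁻¹) := by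
            rw [(hAcomm _ b.2 _ (hconjA a)).eq]
          _ = _ := by simp [mul_assoc]) }
  have hφfix : ∀ f : A, (f : X) ∈ fixer A K → φ f = 1 := fun f hf => Subtype.ext (by
    show (f : X) * ((h : X) * f * (h : X)⁻¹) = 1
    rw [hhfix _ hf]; exact hT.sq _ (hA _ f.2))
  have hφb : ∀ (b : X) (hb' : b ∈ A) (hbK : b ∈ K), ∃ hK' : ((φ ⟨b, hb'⟩ : A) : X) ∈ K,
      π ⟨_, hK'⟩ = π ⟨b, hbK⟩ * (hb * π ⟨b, hbK⟩ * hb⁻¹) := by
    intro b hb' hbK
    refine ⟨mul_mem hbK (mul_mem (mul_mem h.2 hbK) (inv_mem h.2)), ?_⟩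
    rw [← hh, ← map_inv, ← map_mul, ← map_mul, ← map_mul]
    exact congrArg _ (Subtype.ext rfl)
  have hcC : ∀ z ∈ centre (Q : Subgroup (↥K ⧸ center K)), z * (hb * z * hb⁻¹) = 1 → z = 1 := by
    intro z hz e
    refine hbfpf z hz ?_
    rw [eq_inv_of_mul_eq_one_right e]
    exact inv_eq_of_mul_eq_one_right ((F.omega Q z hz.1).2 hz)
  set Z : Subgroup X := φ.range.map A.subtype with hZdef
  have hZK : ∀ a : A, ((φ a : A) : X) ∈ K ∧ ∃ b : X, ∃ hb' : b ∈ A, b ∈ K ∧ φ a = φ ⟨b, hb'⟩ := by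
    intro a
    obtain ⟨b, hb', hbK, hf⟩ := hdec a a.2
    have e : φ a = φ ⟨b, hb'⟩ := by
      rw [show a = ⟨b, hb'⟩ * (⟨b, hb'⟩⁻¹ * a) by group, map_mul,
        hφfix (⟨b, hb'⟩⁻¹ * a) hf, mul_one]
    exact ⟨e ▸ (hφb b hb' hbK).1, b, hb', hbK, e⟩
  have hZle : Z ≤ A ⊓ K := by
    rintro _ ⟨_, ⟨a, rfl⟩, rfl⟩
    exact ⟨(φ a).2, (hZK a).1⟩
  have hZfix : Z ⊓ fixer A K = ⊥ := by
    refine (Subgroup.eq_bot_iff_forall _).2 ?_
    rintro _ ⟨⟨_, ⟨a, rfl⟩, rfl⟩, hf⟩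
    obtain ⟨hcK, b, hb', hbK, e⟩ := hZK a
    obtain ⟨hK', e'⟩ := hφb b hb' hbK
    have h1 : σ (φ a) = 1 := (hfix _).2 hf
    rw [hσK _ (φ a).2 hcK] at h1
    have h2 : π ⟨b, hbK⟩ = 1 := hcC _ (hAK b hb' hbK) (by
      rw [← e', ← h1]; exact congrArg _ (Subtype.ext (congrArg Subtype.val e).symm))
    have h3 : (b : X) ∈ fixer A K := (hfix ⟨b, hb'⟩).1 (by rw [hσK b hb' hbK, h2])
    show ((φ a : A) : X) = 1
    rw [e, hφfix ⟨b, hb'⟩ h3, OneMemClass.coe_one]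
  have hZonto : ∀ z ∈ centre (Q : Subgroup (↥K ⧸ center K)), ∃ c ∈ Z, ∃ hcK : c ∈ K, π ⟨c, hcK⟩ = z := by
    intro z hz
    let ψ : ↥(centre (Q : Subgroup (↥K ⧸ center K))) → ↥(centre (Q : Subgroup (↥K ⧸ center K))) :=
      fun w => ⟨w.1 * (hb * w.1 * hb⁻¹), mul_mem w.2 (hbC _ w.2)⟩
    have hψ : Function.Injective ψ := by
      intro w₁ w₂ e
      have e' : w₁.1 * (hb * w₁.1 * hb⁻¹) = w₂.1 * (hb * w₂.1 * hb⁻¹) := congrArg Subtype.val e
      have hcm : ∀ u v : ↥(centre (Q : Subgroup (↥K ⧸ center K))), u.1 * v.1 = v.1 * u.1 :=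
        fun u v => mem_centralizer_iff.1 v.2.2 _ u.2.1
      have hd := hcC (w₁.1⁻¹ * w₂.1) (mul_mem (inv_mem w₁.2) w₂.2) (by
        calc w₁.1⁻¹ * w₂.1 * (hb * (w₁.1⁻¹ * w₂.1) * hb⁻¹)
            = w₁.1⁻¹ * (w₂.1 * (hb * w₁.1 * hb⁻¹)⁻¹) * (hb * w₂.1 * hb⁻¹) := by group
          _ = w₁.1⁻¹ * ((hb * w₁.1 * hb⁻¹)⁻¹ * w₂.1) * (hb * w₂.1 * hb⁻¹) := by
            rw [hcm w₂ ⟨_, inv_mem (hbC _ w₁.2)⟩]
          _ = (hb * w₁.1 * hb⁻¹ * w₁.1)⁻¹ * (w₂.1 * (hb * w₂.1 * hb⁻¹)) := by group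
          _ = 1 := by rw [hcm ⟨_, hbC _ w₁.2⟩ w₁, ← e']; group)
      exact Subtype.ext (inv_mul_eq_one.1 hd)
    obtain ⟨w, hw⟩ := Finite.surjective_of_injective hψ ⟨z, hz⟩
    obtain ⟨b, hb', hbK, e⟩ := honto w.1 w.2
    obtain ⟨hK', e'⟩ := hφb b hb' hbK
    refine ⟨_, ⟨φ ⟨b, hb'⟩, ⟨_, rfl⟩, rfl⟩, hK', ?_⟩
    show π ⟨_, hK'⟩ = z
    rw [e', e]
    exact congrArg Subtype.val hw
  have hZsup : Z ⊔ fixer A K = A := by
    refine le_antisymm (sup_le (hZle.trans inf_le_left) inf_le_left) fun a ha => ?_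
    obtain ⟨c, hc, hcK, e⟩ := hZonto _ (hσC ⟨a, ha⟩)
    have hcA : c ∈ A := (hZle hc).1
    rw [show a = c * (c⁻¹ * a) by group]
    refine mul_mem_sup hc ((hfix ⟨c⁻¹ * a, A.mul_mem (A.inv_mem hcA) ha⟩).1 ?_)
    have h1 : Sg (⟨c, hcA⟩⁻¹ * ⟨a, ha⟩) = 1 := by
      rw [map_mul, map_inv, hSg, hSg, hσK c hcA hcK, e, inv_mul_cancel]
    exact h1
  have hhnZ : (h : X) ∈ normalizer (Z : Set X) := by
    refine Coprime.mem_normalizer_of_forall ?_
    rintro _ ⟨_, ⟨a, rfl⟩, rfl⟩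
    refine ⟨φ ⟨_, hconjA a⟩, ⟨_, rfl⟩, ?_⟩
    show (h : X) * a * (h : X)⁻¹ * ((h : X) * ((h : X) * a * (h : X)⁻¹) * (h : X)⁻¹) =
      (h : X) * ((a : X) * ((h : X) * a * (h : X)⁻¹)) * (h : X)⁻¹
    group
  refine ⟨2 ^ (2 * kk + 1), ⟨F, fun a ha => hn a ha, hZ2, hsup, ?_, ?_, ?_⟩⟩
  · -- the order
    let S' : A →* ↥(centre (Q : Subgroup (↥K ⧸ center K))) := Sg.codRestrict _ hσC
    have hs : Function.Surjective S' := by
      rintro ⟨z, hz⟩
      obtain ⟨b, hb', hbK, e⟩ := honto z hz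
      exact ⟨⟨b, hb'⟩, Subtype.ext (by show σ _ = z; rw [hσK b hb' hbK, e])⟩
    have hker : S'.ker = (fixer A K).subgroupOf A := by
      ext a
      rw [MonoidHom.mem_ker, mem_subgroupOf, ← hfix, ← Subtype.coe_inj]
      rfl
    have h1 := Subgroup.card_eq_card_quotient_mul_card_subgroup S'.ker
    rw [Nat.card_congr (QuotientGroup.quotientKerEquivOfSurjective S' hs).toEquiv,
      F.card_centre Q, hker, Nat.card_congr (subgroupOfEquivOfLe inf_le_left).toEquiv] at h1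
    exact h1
  · -- centralisers
    intro a ha haf
    have hσa : σ ⟨a, ha⟩ ≠ 1 := fun e => haf ((hfix _).1 e)
    obtain ⟨Q', hQ'⟩ := F.cent (σ ⟨a, ha⟩) (orderOf_eq_prime (by rw [pow_two]; exact hsq1 _) hσa)
    refine IsPGroup.to_le (((Q'.isPGroup').comap_of_ker_isPGroup π
      (by rw [hπ, QuotientGroup.ker_mk']; exact hZ2)).map K.subtype) ?_
    rintro k ⟨hk, hka⟩
    refine ⟨⟨k, hk⟩, ?_, rfl⟩
    show π ⟨k, hk⟩ ∈ (Q' : Subgroup (↥K ⧸ center K))
    rw [← hQ', mem_centralizer_singleton_iff, eq_comm, ← mul_inv_eq_iff_eq_mul, ← hact]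
    exact congrArg _ (Subtype.ext (show a * k * a⁻¹ = k by
      rw [← (mem_centralizer_singleton_iff.1 hka), mul_inv_cancel_right]))
  · refine ⟨h, h.2, hhnA, by rwa [Subgroup.orderOf_coe], Z, hZle, hZfix, hZsup, hhnZ,
      fun x hx y hy hx1 hy1 => ?_⟩
    have hne : ∀ c, c ∈ Z → c ≠ 1 → ∀ hcK : c ∈ K, π ⟨c, hcK⟩ ≠ 1 := by
      intro c hc hc1 hcK e
      have hcA := (hZle hc).1
      have hf := (hfix ⟨c, hcA⟩).1 (by rw [hσK c hcA hcK, e])
      exact hc1 ((Subgroup.eq_bot_iff_forall _).1 hZfix c ⟨hc, hf⟩)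
    have hxK := (hZle hx).2
    have hyK := (hZle hy).2
    obtain ⟨k, hk⟩ := htrans _ (hAK x (hZle hx).1 hxK) _ (hAK y (hZle hy).1 hyK)
      (hne x hx hx1 hxK) (hne y hy hy1 hyK)
    refine ⟨k, ?_⟩
    set x' := (h : X) ^ k * x * ((h : X) ^ k)⁻¹ with hx'
    have hx'Z : x' ∈ Z := (mem_normalizer_iff.1 (pow_mem hhnZ k) x).1 hx
    have hcZ : x'⁻¹ * y ∈ Z := mul_mem (inv_mem hx'Z) hy
    by_contra hne'
    refine hne _ hcZ (fun e => hne' (inv_mul_eq_one.1 e)) ((hZle hcZ).2) ?_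
    rw [show (⟨x'⁻¹ * y, (hZle hcZ).2⟩ : K) = (h ^ k * ⟨x, hxK⟩ * (h ^ k)⁻¹)⁻¹ * ⟨y, hyK⟩ from
      Subtype.ext (by simp [hx']), map_mul, map_inv, map_mul, map_mul, map_inv, map_pow, hh, hk,
      inv_mul_cancel]

/-- An odd subgroup centralised by a member of `A` and normalised by its centraliser is trivial. -/
theorem balanced (L : Local X T A)
    (hsz : ∀ (Y : Type u) [Group Y] [Finite Y], Cfsg.Lie.IsoSuzuki Y → ∃ q, SzFacts Y q) :
    ∀ a ∈ A, ∀ D : Subgroup X, Odd (Nat.card ↥D) → D ≤ centralizer ({a} : Set X) →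
      centralizer ({a} : Set X) ≤ normalizer (D : Set X) → D = ⊥ := by
  classical
  intro a ha D hD hDa haD
  haveI : Fact (Nat.Prime 2) := ⟨Nat.prime_two⟩
  have hT := L.elem
  refine eq_bot_of_centralizes L.core hD
    (core_centralizes_pCore hT (L.subset ha) hD hDa haD) fun K hK => ?_
  by_cases hne : K ≤ centralizer ({a} : Set X)
  · rw [le_centralizer_iff, ← commutator_eq_bot_iff_le_centralizer]
    exact IsComponent.commutator_solvable hK (OddOrderTheorem.solvable hD) (hne.trans haD)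
  obtain ⟨q, hC⟩ := compData (K := K) L hsz ⟨hK, fun h => hne fun k hk => mem_centralizer_singleton_iff.2
    (mem_centralizer_iff.1 (h hk) a ha).symm⟩
  have haf : a ∉ fixer A K := fun h => hne fun k hk => mem_centralizer_singleton_iff.2
    (mem_centralizer_iff.1 h.2 k hk)
  have hDK : D ≤ normalizer (K : Set X) :=
    core_fixes_component hT L.core (L.subset ha) hD hDa haD hK
  have hcomm : ∀ a' ∈ A, ∀ b ∈ A, Commute a' b := fun a' h1 b h2 =>
    hT.commute L.two h1 h2 (L.subset h1) (L.subset h2)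
  have hfixAK : ∀ d ∈ D, ∀ b ∈ A ⊓ K, d * b * d⁻¹ = b := by
    intro d hd b hb
    have hbn : b ∈ normalizer (D : Set X) :=
      haD (mem_centralizer_singleton_iff.2 (hcomm b hb.1 a ha).eq)
    set c := d * b * d⁻¹ * b⁻¹ with hc
    have hcD : c ∈ D := by
      rw [hc, show d * b * d⁻¹ * b⁻¹ = d * (b * d⁻¹ * b⁻¹) by group]
      exact D.mul_mem hd ((mem_normalizer_iff.1 hbn _).1 (D.inv_mem hd))
    have hcK : c ∈ K := K.mul_mem ((mem_normalizer_iff.1 (hDK hd) b).1 hb.2) (K.inv_mem hb.2)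
    have hc2 : IsPGroup 2 ↥(K ⊓ centralizer ({a} : Set X)) := hC.cent a ha haf
    have hc1 : c = 1 := Coprime.eq_one_of_mem_of_mem
      (Coprime.coprime_of_isPGroup (Nat.coprime_two_right.2 hD) hc2) hcD ⟨hcK, hDa hcD⟩
    exact mul_inv_eq_one.1 hc1
  intro d hd
  set Q₀ := (QuotientGroup.mk' (center K)) with hQ₀
  have hmem : ∀ b ∈ A ⊓ K, ∀ hbK : b ∈ K, quotAut (hDK hd) (Q₀ ⟨b, hbK⟩) = Q₀ ⟨b, hbK⟩ := by
    intro b hb hbK
    rw [quotAut_mk]
    exact congrArg _ (Subtype.ext (hfixAK d hd b hb))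
  -- a Sylow subgroup whose centre is covered by `A ∩ K`
  obtain ⟨h, hhK, hhA, -, Z, hZle, hZfix, hZsup, hhZ, htr⟩ := hC.torus
  obtain ⟨b₀, hb₀, hb₀K, hb₀1⟩ : ∃ b, b ∈ Z ∧ ∃ hbK : b ∈ K, Q₀ ⟨b, hbK⟩ ≠ 1 := by
    obtain ⟨z, hz, f, hf, e⟩ := (Coprime.mem_sup_iff (N := Z) (H := fixer A K) (fun f hf =>
      centralizer_le_normalizer _ (mem_centralizer_iff.2 fun z hz =>
        (hcomm z (hZle hz).1 f hf.1).eq))).1 (hZsup.ge ha)
    refine ⟨z, hz, (hZle hz).2, fun e' => haf ?_⟩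
    have hzc : z ∈ fixer A K := ⟨(hZle hz).1, mem_centralizer_iff.2 fun k hk =>
      congrArg Subtype.val (mem_center_iff.1 ((QuotientGroup.eq_one_iff _).1 e') ⟨k, hk⟩)⟩
    rw [← e]
    exact (fixer A K).mul_mem hzc hf
  have ho2 : orderOf (Q₀ ⟨b₀, hb₀K⟩) = 2 := orderOf_eq_prime (by
    rw [pow_two, ← map_mul, show (⟨b₀, hb₀K⟩ : K) * ⟨b₀, hb₀K⟩ = 1 from
      Subtype.ext (hT.sq b₀ (L.subset (hZle hb₀).1)), map_one]) hb₀1
  obtain ⟨P, hP⟩ := hC.facts.cent _ ho2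
  have hZP : ∀ b, b ∈ Z → ∀ hbK : b ∈ K, Q₀ ⟨b, hbK⟩ ∈ centre (P : Subgroup (↥K ⧸ center K)) := by
    intro b hb hbK
    refine (hC.facts.omega P _ ?_).1 ?_
    · show Q₀ ⟨b, hbK⟩ ∈ (P : Subgroup (↥K ⧸ center K))
      rw [← hP, mem_centralizer_singleton_iff, ← map_mul, ← map_mul]
      exact congrArg _ (Subtype.ext (hcomm b (hZle hb).1 b₀ (hZle hb₀).1).eq)
    · rw [← map_mul, show (⟨b, hbK⟩ : K) * ⟨b, hbK⟩ = 1 from
        Subtype.ext (hT.sq b (L.subset (hZle hb).1)), map_one]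
  let ι : ↥Z → ↥(centre (P : Subgroup (↥K ⧸ center K))) := fun b => ⟨_, hZP b b.2 (hZle b.2).2⟩
  have hι : Function.Injective ι := by
    rintro ⟨b₁, h₁⟩ ⟨b₂, h₂⟩ e
    have hz := (QuotientGroup.eq (s := center K)).1 (congrArg Subtype.val e :)
    have hf : b₁⁻¹ * b₂ ∈ fixer A K :=
      ⟨A.mul_mem (A.inv_mem (hZle h₁).1) (hZle h₂).1, mem_centralizer_iff.2 fun k hk =>
        congrArg Subtype.val (mem_center_iff.1 hz ⟨k, hk⟩)⟩
    exact Subtype.ext (inv_mul_eq_one.1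
      ((Subgroup.eq_bot_iff_forall _).1 hZfix _ ⟨Z.mul_mem (Z.inv_mem h₁) h₂, hf⟩))
  have hZq : Nat.card ↥(centre (P : Subgroup (↥K ⧸ center K))) ≤ Nat.card Z := by
    rw [hC.facts.card_centre P]
    refine Nat.le_of_mul_le_mul_right ?_ (Nat.card_pos (α := ↥(fixer A K)))
    rw [← hC.card]
    calc Nat.card ↥A = Nat.card ↥(Z ⊔ fixer A K) := by rw [hZsup]
      _ ≤ Nat.card ↥Z * Nat.card ↥(fixer A K) := by
        rw [← Nat.card_prod]
        refine Nat.card_le_card_of_surjective (fun p => ⟨p.1.1 * p.2.1, mul_mem_sup p.1.2 p.2.2⟩) ?_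
        rintro ⟨x, hx⟩
        obtain ⟨z, hz, f, hf, e⟩ := (Coprime.mem_sup_iff (N := Z) (H := fixer A K) (fun f hf =>
          centralizer_le_normalizer _ (mem_centralizer_iff.2 fun z hz =>
            (hcomm z (hZle hz).1 f hf.1).eq))).1 hx
        exact ⟨(⟨z, hz⟩, ⟨f, hf⟩), Subtype.ext e⟩
  have hbij := Function.Injective.bijective_of_nat_card_le hι hZq
  refine centralizes_of_quotAut hK (hDK hd) (hC.facts.odd_fix P _ ?_ fun z hz => ?_)
  · refine (hD.of_dvd_nat (Subgroup.orderOf_dvd_natCard D hd)).of_dvd_nat ?_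
    exact orderOf_dvd_of_pow_eq_one (quotAut_pow_eq_one _ (pow_orderOf_eq_one d))
  · obtain ⟨b, hb⟩ := hbij.2 ⟨z, hz⟩
    rw [← show Q₀ ⟨(b : X), (hZle b.2).2⟩ = z from congrArg Subtype.val hb]
    exact hmem b (hZle b.2) _

end Cfsg.Agent.Goldschmidt.ThreePrime
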