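import Cfsg.Agent.Lib.Goldschmidt.ThreePrime.BlockCore
import Cfsg.Agent.Lib.Suzuki.Aut
import Cfsg.Agent.Lib.Suzuki.Centralizers
import Cfsg.Agent.Lib.Suzuki.Solubilizer
import Cfsg.Agent.Lib.Suzuki.LieModel
import Cfsg.Agent.Lib.Coprime.Basic

/-!
# The facts used about the Suzuki groups (owner: helper63)

* `centre_uSub` : the centre of the unipotent group is `zSub`
* `szFacts` : a group isomorphic to a Suzuki group satisfies `SzFacts`
-/

set_option autoImplicit false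
set_option linter.unusedSectionVars false
set_option linter.style.haveILetI false
set_option linter.unnecessarySeqFocus false

namespace Cfsg.Agent.Goldschmidt.ThreePrime

open Cfsg Subgroup
open scoped commutatorElement

universe u

variable {F : Type} [Field F] [Fintype F] {m : ℕ}
variable (hm : 1 ≤ m) (hF : Fintype.card F = 2 ^ (2 * m + 1))

include hm hF in
theorem sz_center : Subgroup.center (Cfsg.Sz F m) = ⊥ := by
  haveI := Suzuki.charTwo hF
  haveI := Suzuki.isSimpleGroup_sz (F := F) hm hF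
  rcases (inferInstance : (Subgroup.center (Cfsg.Sz F m)).Normal).eq_bot_or_eq_top with h | h
  · exact h
  exfalso
  obtain ⟨k, hk⟩ := Suzuki.exists_th_ne hm hF
  have hcomm : Commute (Suzuki.tSz hF k (0 : F)) (Suzuki.tSz hF 1 0) :=
    (mem_center_iff.1 (h.ge (mem_top (Suzuki.tSz hF 1 0))) _)
  have hbr := (commutatorElement_eq_one_iff_commute).2 hcomm
  rw [Suzuki.commutator_tSz, ← Suzuki.tSz_zero hF] at hbr
  have hz := (Suzuki.tSz_inj hF hbr).2
  exact hk (by simp at hz; grind)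

include hm hF in
/-- The centre of the unipotent group. -/
theorem centre_uSub : centre (Suzuki.uSub hF) = Suzuki.zSub hF := by
  ext x
  constructor
  · rintro ⟨hx, hxc⟩
    have h1 : (⟨x, hx⟩ : ↥(Suzuki.uSub hF)) ∈ Subgroup.center ↥(Suzuki.uSub hF) :=
      mem_center_iff.2 fun g => Subtype.ext (hxc g g.2)
    rw [Suzuki.uSub_center_eq hm hF] at h1
    exact h1
  · intro hx
    have h1 : (⟨x, Suzuki.zSub_le hF hx⟩ : ↥(Suzuki.uSub hF)) ∈
        Subgroup.center ↥(Suzuki.uSub hF) := by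
      rw [Suzuki.uSub_center_eq hm hF]
      exact hx
    exact ⟨Suzuki.zSub_le hF hx, fun g hg => congrArg Subtype.val (mem_center_iff.1 h1 ⟨g, hg⟩)⟩

/-- Squares in the unipotent group. -/
theorem tSz_sq (a b : F) :
    Suzuki.tSz hF a b * Suzuki.tSz hF a b = Suzuki.tSz hF 0 (Suzuki.th m a * a) := by
  haveI := Suzuki.charTwo hF
  rw [Suzuki.tSz_mul]
  congr 1 <;> grind

include hm in
/-- An odd automorphism fixing the centre of the unipotent group pointwise is trivial. -/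
theorem sz_odd_fix {β : MulAut (Cfsg.Sz F m)} (hodd : Odd (orderOf β))
    (hfix : ∀ x ∈ Suzuki.zSub hF, β x = x) : β = 1 := by
  haveI := Suzuki.charTwo hF
  obtain ⟨g, τ, hβ⟩ := Suzuki.aut_decompose hm hF β
  have hg' : ∀ b, g⁻¹ * Suzuki.tSz hF 0 b * g⁻¹⁻¹ = Suzuki.tSz hF 0 (τ b) := fun b => by
    have h1 := hfix _ ((Suzuki.mem_zSub hF).2 ⟨b, rfl⟩)
    rw [hβ, MulAut.mul_apply, MulAut.conj_apply, Suzuki.fieldAut_tSz, map_zero] at h1
    rw [← h1]
    group
  have hfx : g⁻¹ • suzukiPointInfinity F = suzukiPointInfinity F := by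
    refine Suzuki.uSub_fix_eq hF (a := (0 : F)) (b := τ 1) (fun e => ?_)
      (Suzuki.smul_mem_ovoid _ Suzuki.infinity_mem) ?_
    · exact one_ne_zero (τ.injective (e.2.trans (map_zero τ).symm))
    · rw [← hg', mul_smul, mul_smul, inv_smul_smul, Suzuki.tSz_smul_infinity]
  obtain ⟨x, y, u, hxy⟩ := Suzuki.exists_tSz_dSz_of_fix hm hF hfx
  have hsnd : ∀ b, Suzuki.th m (u : F) * (u : F) * b = τ b := fun b => by
    have := hg' b
    rw [hxy, mul_inv_eq_iff_eq_mul,
      show Suzuki.tSz hF 0 b = Suzuki.tSz hF 0 b * Suzuki.dSz hF 1 by rw [Suzuki.dSz_one, mul_one],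
      show Suzuki.tSz hF 0 (τ b) = Suzuki.tSz hF 0 (τ b) * Suzuki.dSz hF 1 by
        rw [Suzuki.dSz_one, mul_one],
      Suzuki.tSz_dSz_mul, Suzuki.tSz_dSz_mul, one_mul, mul_one] at this
    have := (Suzuki.tSz_inj hF (mul_right_cancel this)).2
    simp only [Units.val_one, one_mul, mul_zero, Suzuki.th_one, Suzuki.th_zero, add_zero] at this
    grind
  have hu1 : Suzuki.th m (u : F) * (u : F) = 1 := by have := hsnd 1; simpa using this
  have hτ : ∀ a, τ a = a := fun a => by rw [← hsnd, hu1, one_mul]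
  have hτ1 : τ = 1 := RingEquiv.ext hτ
  have hc : g ∈ centralizer ({Suzuki.tSz hF (0 : F) 1} : Set (Cfsg.Sz F m)) := by
    rw [mem_centralizer_singleton_iff]
    have h1 := hg' 1
    rw [hτ] at h1
    calc g * Suzuki.tSz hF 0 1 = g * (g⁻¹ * Suzuki.tSz hF 0 1 * g⁻¹⁻¹) := by rw [h1]
      _ = Suzuki.tSz hF 0 1 * g := by group
  have hgU := Suzuki.centralizer_tSz_le hm hF (a := (0 : F)) (b := 1) (fun e => one_ne_zero e.2) hc
  have hβg : β = MulAut.conj g := by
    refine hβ.trans ?_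
    have h1 : Suzuki.fieldAut hm hF τ = 1 := by
      rw [hτ1]
      exact map_one (Suzuki.fieldAutHom hm hF)
    rw [h1, mul_one]
  obtain ⟨k, hk⟩ := Suzuki.isPGroup_uSub hF ⟨g, hgU⟩
  have hk' : g ^ 2 ^ k = 1 := congrArg Subtype.val hk
  have h2 : orderOf β ∣ 2 ^ k := orderOf_dvd_of_pow_eq_one (by rw [hβg, ← map_pow, hk', map_one])
  exact orderOf_eq_one_iff.1 (Nat.eq_one_of_dvd_coprimes
    ((Nat.coprime_two_right.2 hodd).pow_right k) dvd_rfl h2)

include hm hF in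
theorem sz_inner_two {α : MulAut (Cfsg.Sz F m)} (hα : ∃ k : ℕ, α ^ 2 ^ k = 1) :
    ∃ s : Cfsg.Sz F m, α = MulAut.conj s := by
  obtain ⟨k, hk⟩ := hα
  haveI : Finite (MulAut (Cfsg.Sz F m)) :=
    Finite.of_injective (fun f : MulAut (Cfsg.Sz F m) => (f : _ → _)) DFunLike.coe_injective
  have hout : (QuotientGroup.mk α : Cfsg.Out (Cfsg.Sz F m)) = 1 := by
    refine orderOf_eq_one_iff.mp ?_
    have h1 : orderOf (QuotientGroup.mk α : Cfsg.Out (Cfsg.Sz F m)) ∣ 2 ^ k :=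
      orderOf_dvd_of_pow_eq_one (by rw [← QuotientGroup.mk_pow, hk]; rfl)
    have h2 : orderOf (QuotientGroup.mk α : Cfsg.Out (Cfsg.Sz F m)) ∣ 2 * m + 1 := by
      rw [← Suzuki.card_out hm hF (MulEquiv.refl (Cfsg.Sz F m))]
      exact orderOf_dvd_natCard _
    exact Nat.eq_one_of_dvd_coprimes ((Nat.coprime_two_left.mpr ⟨m, rfl⟩).pow_left k) h1 h2
  obtain ⟨s, hs⟩ := (QuotientGroup.eq_one_iff α).mp hout
  exact ⟨s, hs.symm⟩

include hm hF in
/-- The Suzuki groups satisfy the facts. -/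
theorem szFacts_sz : SzFacts (Cfsg.Sz F m) (2 ^ (2 * m + 1)) := by
  classical
  haveI := Suzuki.charTwo hF
  haveI : Fact (Nat.Prime 2) := ⟨Nat.prime_two⟩
  set U := Suzuki.uSub hF with hU
  have hsyl : ∀ Q : Sylow 2 (Cfsg.Sz F m), ∃ g : Cfsg.Sz F m,
      U.map (MulAut.conj g).toMonoidHom = (Q : Subgroup (Cfsg.Sz F m)) := fun Q => by
    obtain ⟨g, hg⟩ := MulAction.exists_smul_eq (Cfsg.Sz F m) (Suzuki.uSylow hm hF) Q
    refine ⟨g, ?_⟩
    have := congrArg (fun P : Sylow 2 (Cfsg.Sz F m) => (P : Subgroup (Cfsg.Sz F m))) hg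
    simp only [Sylow.coe_subgroup_smul] at this
    exact this
  have htr : ∀ (Q : Sylow 2 (Cfsg.Sz F m)) (g : Cfsg.Sz F m),
      U.map (MulAut.conj g).toMonoidHom = (Q : Subgroup (Cfsg.Sz F m)) →
      (∀ y, MulAut.conj g y ∈ Q ↔ y ∈ U) ∧
        (∀ y, MulAut.conj g y ∈ centre (Q : Subgroup (Cfsg.Sz F m)) ↔ y ∈ Suzuki.zSub hF) := by
    intro Q g hg
    refine ⟨fun y => ?_, fun y => ?_⟩
    · show MulAut.conj g y ∈ (Q : Subgroup (Cfsg.Sz F m)) ↔ _
      rw [← hg]
      exact mem_map_iff_mem (MulAut.conj g).injective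
    · rw [← hg, centre_map_equiv, hU, centre_uSub hm hF]
      exact mem_map_iff_mem (MulAut.conj g).injective
  have hzero : ∀ c d : F, Suzuki.tSz hF c d ∈ Suzuki.zSub hF → c = 0 := fun c d h => by
    obtain ⟨b, hb⟩ := (Suzuki.mem_zSub hF).1 h
    exact (Suzuki.tSz_inj hF hb).1
  refine ⟨⟨m, hm, rfl⟩, Suzuki.isSimpleGroup_sz hm hF, sz_center hm hF, fun x hx => ?_, fun Q x hx => ?_,
    fun Q => ?_, fun Q => ?_, fun Q x hx => ?_, fun Q x hx y hy => ?_, fun Q => ?_,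
    fun α hα => sz_inner_two hm hF hα, fun Q α hα hfix => ?_, fun Q u hu huc => ?_⟩
  · have hv2 : IsPGroup 2 ↥(zpowers x) := IsPGroup.of_card (n := 1) (by
      rw [Nat.card_zpowers, hx, pow_one])
    obtain ⟨P, hP⟩ := hv2.exists_le_sylow
    obtain ⟨g, hg⟩ := hsyl P
    obtain ⟨hmem, -⟩ := htr P g hg
    refine ⟨P, ?_⟩
    obtain ⟨x', rfl⟩ := (MulAut.conj g).surjective x
    rw [MulEquiv.orderOf_eq] at hx
    obtain ⟨a, b, rfl⟩ := (Suzuki.mem_uSub hF).1 ((hmem x').1 (hP (mem_zpowers _)))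
    obtain ⟨rfl, hb⟩ := Suzuki.orderOf_tSz_two hm hF hx
    ext z
    obtain ⟨z, rfl⟩ := (MulAut.conj g).surjective z
    rw [mem_centralizer_singleton_iff, ← map_mul, ← map_mul, (MulAut.conj g).injective.eq_iff]
    refine Iff.trans ?_ (hmem z).symm
    refine ⟨fun h => Suzuki.centralizer_tSz_le hm hF (a := (0 : F)) (b := b) (fun e => hb e.2)
      (mem_centralizer_singleton_iff.2 h), fun h => ?_⟩
    obtain ⟨c, d, rfl⟩ := (Suzuki.mem_uSub hF).1 h
    rw [Suzuki.tSz_mul, Suzuki.tSz_mul]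
    congr 1 <;> simp <;> ring
  · obtain ⟨g, hg⟩ := hsyl Q
    obtain ⟨hmem, hz⟩ := htr Q g hg
    obtain ⟨x, rfl⟩ := (MulAut.conj g).surjective x
    rw [hz, ← map_mul, MulEquiv.map_eq_one_iff]
    obtain ⟨a, b, rfl⟩ := (Suzuki.mem_uSub hF).1 ((hmem x).1 hx)
    rw [tSz_sq, Suzuki.tSz_eq_one_iff]
    refine ⟨fun h => ?_, fun h => ?_⟩
    · rcases mul_eq_zero.mp h.2 with h' | h'
      · exact ⟨b, by rw [Suzuki.th_eq_zero.mp h']⟩
      · exact ⟨b, by rw [h']⟩
    · rw [hzero a b h]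
      simp
  · obtain ⟨g, hg⟩ := hsyl Q
    rw [← hg, centre_map_equiv, card_map_of_injective (MulAut.conj g).injective, hU,
      centre_uSub hm hF, Suzuki.card_zSub]
  · obtain ⟨g, hg⟩ := hsyl Q
    rw [← hg, card_map_of_injective (MulAut.conj g).injective, hU, Suzuki.card_uSub]
  · obtain ⟨g, hg⟩ := hsyl Q
    obtain ⟨hmem, hz⟩ := htr Q g hg
    obtain ⟨x, rfl⟩ := (MulAut.conj g).surjective x
    obtain ⟨a, b, rfl⟩ := (Suzuki.mem_uSub hF).1 ((hmem x).1 hx)
    rw [← map_mul, hz, tSz_sq]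
    exact ⟨_, rfl⟩
  · obtain ⟨g, hg⟩ := hsyl Q
    obtain ⟨hmem, hz⟩ := htr Q g hg
    obtain ⟨x, rfl⟩ := (MulAut.conj g).surjective x
    obtain ⟨y, rfl⟩ := (MulAut.conj g).surjective y
    obtain ⟨a, b, rfl⟩ := (Suzuki.mem_uSub hF).1 ((hmem x).1 hx)
    obtain ⟨c, d, rfl⟩ := (Suzuki.mem_uSub hF).1 ((hmem y).1 hy)
    rw [← map_commutatorElement, hz, Suzuki.commutator_tSz]
    exact ⟨_, rfl⟩
  · obtain ⟨g, hg⟩ := hsyl Q
    obtain ⟨hmem, hz⟩ := htr Q g hg
    obtain ⟨ω, hω⟩ := IsCyclic.exists_generator (α := Fˣ)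
    set h := Suzuki.dSz hF ω with hh
    have hpow : ∀ k : ℕ, h ^ k = Suzuki.dSz hF (ω ^ k) := fun k => by
      induction k with
      | zero => rw [pow_zero, pow_zero, Suzuki.dSz_one]
      | succ k ih => rw [pow_succ, ih, hh, Suzuki.dSz_mul, pow_succ]
    have hconj : ∀ (k : ℕ) (c d : F), h ^ k * Suzuki.tSz hF c d * (h ^ k)⁻¹ =
        Suzuki.tSz hF ((ω ^ k : Fˣ) * c)
          (Suzuki.th m ((ω ^ k : Fˣ) : F) * (ω ^ k : Fˣ) * d) := fun k c d => by
      rw [hpow, Suzuki.dSz_conj_tSz, mul_inv_cancel_right]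
    have hlog : ∀ t : F, t ≠ 0 → ∃ k : ℕ, ((ω ^ k : Fˣ) : F) = t := fun t ht => by
      obtain ⟨k, hk⟩ := (mem_powers_iff_mem_zpowers).2 (hω (Units.mk0 t ht))
      exact ⟨k, by rw [show (ω ^ k : Fˣ) = Units.mk0 t ht from hk, Units.val_mk0]⟩
    refine ⟨MulAut.conj g h, ?_, ?_, fun x hx y hy hx1 hy1 => ?_, fun x hx y hy hx1 hy1 => ?_⟩
    · have hfwd : ∀ z ∈ U, h * z * h⁻¹ ∈ U := fun z hz => by
        obtain ⟨c, d, rfl⟩ := (Suzuki.mem_uSub hF).1 hz
        have := hconj 1 c d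
        rw [pow_one] at this
        rw [this]
        exact Suzuki.tSz_mem_uSub hF _ _
      have hnh : h ∈ normalizer (U : Set (Cfsg.Sz F m)) := by
        have hle : U.map (MulAut.conj h).toMonoidHom ≤ U := by
          rintro _ ⟨z, hz, rfl⟩
          exact hfwd z hz
        have heq := eq_of_le_of_card_ge hle
          (le_of_eq (card_map_of_injective (MulAut.conj h).injective).symm)
        refine mem_normalizer_iff.2 fun z => ⟨hfwd z, fun hz => ?_⟩
        obtain ⟨y, hy, hye⟩ := heq.symm ▸ hz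
        exact (mul_left_cancel (mul_right_cancel hye) : y = z) ▸ hy
      rw [← hg]
      exact le_normalizer_map (MulAut.conj g).toMonoidHom ⟨h, hnh, rfl⟩
    · rw [MulEquiv.orderOf_eq, hh]
      have h1 : orderOf (Suzuki.dHom hF ω) = orderOf ω :=
        orderOf_injective _ (fun a b hab => Suzuki.dSz_inj hF hab) ω
      rw [show Suzuki.dSz hF ω = Suzuki.dHom hF ω from rfl, h1, orderOf_eq_card_of_forall_mem_zpowers hω,
        Nat.card_eq_fintype_card, Fintype.card_units, hF]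
    · obtain ⟨x, rfl⟩ := (MulAut.conj g).surjective x
      obtain ⟨y, rfl⟩ := (MulAut.conj g).surjective y
      obtain ⟨b, rfl⟩ := (Suzuki.mem_zSub hF).1 ((hz x).1 hx)
      obtain ⟨b', rfl⟩ := (Suzuki.mem_zSub hF).1 ((hz y).1 hy)
      have hb : b ≠ 0 := fun e => hx1 (by rw [e, Suzuki.tSz_zero, map_one])
      have hb' : b' ≠ 0 := fun e => hy1 (by rw [e, Suzuki.tSz_zero, map_one])
      obtain ⟨t, ht⟩ := (Suzuki.thSucc_bijective hF).2 (b' / b)
      simp only at ht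
      have ht0 : t ≠ 0 := fun e0 => by
        subst e0
        simp at ht
        exact (div_ne_zero hb' hb) (by simpa using ht.symm)
      obtain ⟨k, hk⟩ := hlog t ht0
      refine ⟨k, ?_⟩
      rw [← map_pow, ← map_inv, ← map_mul, ← map_mul, hconj, hk, mul_zero, ht]
      congr 2
      field_simp
    · obtain ⟨x, rfl⟩ := (MulAut.conj g).surjective x
      obtain ⟨y, rfl⟩ := (MulAut.conj g).surjective y
      obtain ⟨c, d, rfl⟩ := (Suzuki.mem_uSub hF).1 ((hmem x).1 hx)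
      obtain ⟨c', d', rfl⟩ := (Suzuki.mem_uSub hF).1 ((hmem y).1 hy)
      have hc : c ≠ 0 := fun e => hx1 ((hz _).2 ⟨d, by rw [e]⟩)
      have hc' : c' ≠ 0 := fun e => hy1 ((hz _).2 ⟨d', by rw [e]⟩)
      obtain ⟨k, hk⟩ := hlog (c' / c) (div_ne_zero hc' hc)
      refine ⟨k, ?_⟩
      rw [← map_pow, ← map_inv, ← map_mul, ← map_mul, ← map_inv, ← map_mul, hz, hconj, hk,
        Suzuki.tSz_inv, Suzuki.tSz_mul, div_mul_cancel₀ _ hc,
        show c' + c' = 0 by grind]
      exact ⟨_, rfl⟩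
  · obtain ⟨g, hg⟩ := hsyl Q
    obtain ⟨hmem, hz⟩ := htr Q g hg
    have h1 := sz_odd_fix hm hF (β := MulAut.conj (MulAut.conj g)⁻¹ α) ?_ fun x hx => ?_
    · exact (MulAut.conj (MulAut.conj g)⁻¹).injective (h1.trans (map_one _).symm)
    · rwa [MulEquiv.orderOf_eq]
    · show ((MulAut.conj g)⁻¹ * α * ((MulAut.conj g)⁻¹)⁻¹) x = x
      rw [inv_inv, MulAut.mul_apply, MulAut.mul_apply, hfix _ ((hz x).2 hx), MulAut.inv_apply_self]
  · obtain ⟨g, hg⟩ := hsyl Q
    obtain ⟨hmem, hz⟩ := htr Q g hg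
    obtain ⟨u, rfl⟩ := (MulAut.conj g).surjective u
    obtain ⟨a, b, rfl⟩ := (Suzuki.mem_uSub hF).1 ((hmem u).1 hu)
    have ha : a ≠ 0 := fun e => huc ((hz _).2 ⟨b, by rw [e]⟩)
    let φ : F →+ F := AddMonoidHom.mk' (fun c => Suzuki.th m c * a + Suzuki.th m a * c)
      fun c d => by rw [Suzuki.th_add]; ring
    have hker : ∀ c, φ c = 0 → c = 0 ∨ c = a := fun c hc => by
      set x := c / a with hx
      have hca : c = x * a := by rw [hx, div_mul_cancel₀ _ ha]
      have h1 : Suzuki.th m c * a + Suzuki.th m a * c = 0 := hc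
      rw [hca, Suzuki.th_mul] at h1
      have h2 : Suzuki.th m x = x := by
        have h3 : (Suzuki.th m x + x) * (Suzuki.th m a * a) = 0 := by linear_combination h1
        have h4 := (mul_eq_zero.mp h3).resolve_right (mul_ne_zero (Suzuki.th_ne_zero ha) ha)
        grind
      have h5 := Suzuki.th_th hF x
      rw [h2, h2] at h5
      have h6 : x * (x - 1) = 0 := by linear_combination h5.symm
      rcases mul_eq_zero.mp h6 with h7 | h7
      · left; rw [hca, h7, zero_mul]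
      · right; rw [hca, sub_eq_zero.mp h7, one_mul]
    have hk2 : Nat.card φ.ker ≤ 2 := by
      have h1 : Nat.card φ.ker ≤ Nat.card ({0, a} : Set F) :=
        Nat.card_le_card_of_injective (fun c : φ.ker => ⟨(c : F), hker c c.2⟩)
          fun c c' h => Subtype.ext (congrArg Subtype.val h :)
      refine h1.trans ?_
      rw [Nat.card_coe_set_eq]
      exact (Set.ncard_insert_le _ _).trans (by rw [Set.ncard_singleton])
    have hcard : Nat.card F = Nat.card φ.range * Nat.card φ.ker := by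
      rw [AddSubgroup.card_eq_card_quotient_mul_card_addSubgroup φ.ker]
      congr 1
      exact Nat.card_congr (QuotientAddGroup.quotientKerEquivRange φ).toEquiv
    rw [Nat.card_eq_fintype_card, hF] at hcard
    refine (hcard.le.trans (Nat.mul_le_mul_left _ hk2)).trans (le_of_eq (mul_comm _ _)) |>.trans
      (Nat.mul_le_mul_left 2 ?_)
    refine Nat.card_le_card_of_injective (fun y : φ.range => ⟨MulAut.conj g (Suzuki.tSz hF 0 (y : F)), ?_⟩)
      fun y y' h => ?_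
    · obtain ⟨c, hc⟩ := y.2
      refine ⟨MulAut.conj g (Suzuki.tSz hF c 0), (hmem _).2 (Suzuki.tSz_mem_uSub hF _ _), ?_⟩
      rw [← map_commutatorElement, Suzuki.commutator_tSz, ← hc]
      rfl
    · exact Subtype.ext (Suzuki.tSz_inj hF ((MulAut.conj g).injective (congrArg Subtype.val h :))).2

/-- A group isomorphic to a Suzuki group satisfies the facts. -/
theorem szFacts {L : Type u} [Group L] [Finite L] (h : Cfsg.Lie.IsoSuzuki L) :
    ∃ q, SzFacts L q := by
  obtain ⟨F, _, _, m, hm, hF, ⟨e⟩⟩ := h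
  exact ⟨_, (szFacts_sz hm hF).congr (e.trans (Suzuki.lieEquiv hm hF).symm).symm⟩

end Cfsg.Agent.Goldschmidt.ThreePrime
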