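import Cfsg.Agent.Lib.Goldschmidt.ThreePrime.Defs
import Cfsg.Agent.Lib.Goldschmidt.Structure

/-!
# A component moved by a minimal closed subgroup (owner: helper44)

* `mem_commutator_sylow_of_center` : central elements of a perfect group lie in the derived group of a
  Sylow 2-subgroup containing them
* `comm_of_const_sq` : constant squares outside a central subgroup force commutativity
* `SzFacts.congr`, `SzFacts.eight_le`
* `CoreHyp`, `CoreHyp.main` : the component has trivial centre and a Sylow subgroup centralising `A`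
-/

set_option autoImplicit false
set_option linter.unusedSectionVars false
set_option linter.unusedVariables false
set_option linter.style.haveILetI false

namespace Cfsg.Agent.Goldschmidt.ThreePrime

open Cfsg Subgroup
open scoped commutatorElement

universe u v

/-- A central element of a perfect group lies in the derived group of each Sylow subgroup containing it. -/
theorem mem_commutator_sylow_of_center {Γ : Type*} [Group Γ] [Finite Γ]
    (hperf : commutator Γ = ⊤) (P : Sylow 2 Γ) (z : (P : Subgroup Γ)) (hc : (z : Γ) ∈ center Γ) :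
    z ∈ commutator (P : Subgroup Γ) := by
  haveI : Fact (Nat.Prime 2) := ⟨Nat.prime_two⟩
  let f : Γ →* Abelianization (P : Subgroup Γ) := MonoidHom.transfer Abelianization.of
  have h1 : f z = 1 := Abelianization.commutator_subset_ker f (hperf ▸ mem_top _)
  have h3 := MonoidHom.transfer_eq_pow (H := (P : Subgroup Γ)) Abelianization.of (z : Γ)
    (fun k g _ => by
      rw [mul_assoc, ← (mem_center_iff.mp ((center Γ).pow_mem hc k) g), inv_mul_cancel_left])
  rw [show MonoidHom.transfer Abelianization.of (z : Γ) = f z from rfl, h1] at h3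
  have h4 : z ^ (P : Subgroup Γ).index ∈ commutator (P : Subgroup Γ) :=
    (QuotientGroup.eq_one_iff _).mp h3.symm
  obtain ⟨k, hk⟩ := P.isPGroup' z
  have hcop : Nat.Coprime (P : Subgroup Γ).index (orderOf z) :=
    Nat.Coprime.coprime_dvd_right (orderOf_dvd_of_pow_eq_one hk)
      (Nat.Coprime.pow_right k ((Nat.prime_two.coprime_iff_not_dvd.mpr P.not_dvd_index).symm))
  obtain ⟨m, hm⟩ := exists_pow_eq_self_of_coprime hcop
  rw [← hm]
  exact pow_mem h4 m

/-- A group is commutative when the squares of all elements outside a central elementary subgroup `M`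
are one and the same element and three independent elements exist. -/
theorem comm_of_const_sq {R : Type*} [Group R] (M : Subgroup R) (hMc : M ≤ center R)
    (hM2 : ∀ m ∈ M, m * m = 1) (hsqM : ∀ x : R, x * x ∈ M) {c : R}
    (hc : ∀ x : R, x ∉ M → x * x = c) {u v w : R} (hu : u ∉ M) (hv : v ∉ M) (hw : w ∉ M)
    (huv : u * v ∉ M) (huw : u * w ∉ M) (hvw : v * w ∉ M) (huvw : u * (v * w) ∉ M) (x y : R) :
    x * y = y * x := by
  have hcM : c ∈ M := hc u hu ▸ hsqM u
  have hc2 : c * c = 1 := hM2 c hcM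
  have hcc : ∀ g : R, g * c = c * g := fun g => mem_center_iff.1 (hMc hcM) g
  have hkey : ∀ a b : R, a ∉ M → b ∉ M → a * b ∉ M → a * b = b * a * c := by
    intro a b ha hb hab
    calc a * b = a⁻¹ * ((a * a) * (b * b)) * b⁻¹ := by group
      _ = a⁻¹ * (c * c) * b⁻¹ := by rw [hc a ha, hc b hb]
      _ = (b * a)⁻¹ := by rw [hc2]; group
      _ = b * a * (((b * a) * (b * a))⁻¹) := by group
      _ = b * a * c := by
        have hba : b * a ∉ M := fun h => hab (by
          have h1 := M.mul_mem (M.mul_mem h (M.inv_mem (hsqM a))) (hsqM a)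
          have h2 : a * (b * a) * a⁻¹ = b * a := by
            rw [mem_center_iff.1 (hMc h) a, mul_inv_cancel_right]
          have h3 : a * b = a * (b * a) * a⁻¹ := by group
          rw [h3, h2]; exact h)
        rw [hc _ hba, inv_eq_of_mul_eq_one_right hc2]
  have hc1 : c = 1 := by
    have h1 : u * (v * w) = v * w * u * c := hkey u (v * w) hu hvw huvw
    have h2 : u * (v * w) = v * w * u := by
      calc u * (v * w) = u * v * w := by group
        _ = v * u * c * w := by rw [hkey u v hu hv huv]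
        _ = v * (u * w) * c := by rw [mul_assoc (v * u), ← hcc w]; group
        _ = v * (w * u * c) * c := by rw [hkey u w hu hw huw]
        _ = v * w * u * (c * c) := by group
        _ = v * w * u := by rw [hc2, mul_one]
    exact mul_left_cancel (((mul_one (v * w * u)).trans (h2.symm.trans h1)).symm)
  have hall : ∀ g : R, g * g = 1 := fun g => by
    by_cases hg : g ∈ M
    · exact hM2 g hg
    · rw [hc g hg, hc1]
  have hinv : ∀ g : R, g⁻¹ = g := fun g => inv_eq_of_mul_eq_one_right (hall g)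
  calc x * y = (x * y)⁻¹ := (hinv _).symm
    _ = y * x := by rw [mul_inv_rev, hinv, hinv]

theorem SzFacts.eight_le {L : Type u} [Group L] {q : ℕ} (h : SzFacts L q) : 8 ≤ q := by
  obtain ⟨k, hk, rfl⟩ := h.pow
  calc 8 = 2 ^ 3 := by norm_num
    _ ≤ 2 ^ (2 * k + 1) := Nat.pow_le_pow_right (by norm_num) (by omega)

/-- The centre commutes with isomorphisms. -/
theorem centre_map_equiv {L : Type u} [Group L] {L' : Type v} [Group L'] (e : L ≃* L')
    (Q : Subgroup L) : centre (Q.map e.toMonoidHom) = (centre Q).map e.toMonoidHom := by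
  ext x
  obtain ⟨y, rfl⟩ := e.surjective x
  simp only [mem_inf, mem_centralizer_iff, SetLike.mem_coe]
  rw [show e y = e.toMonoidHom y from rfl, mem_map_iff_mem e.injective, mem_map_iff_mem e.injective,
    mem_inf, mem_centralizer_iff]
  refine and_congr_right fun _ => ⟨fun h z hz => e.injective ?_, ?_⟩
  · simpa using h _ ⟨z, hz, rfl⟩
  · rintro h _ ⟨z, hz, rfl⟩
    simpa using congrArg e (h z hz)

theorem SzFacts.congr {L : Type u} [Group L] {q : ℕ} (h : SzFacts L q) {L' : Type v} [Group L']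
    [Finite L] [Finite L'] (e : L ≃* L') : SzFacts L' q := by
  haveI : Fact (Nat.Prime 2) := ⟨Nat.prime_two⟩
  have hsyl : ∀ Q' : Sylow 2 L', ∃ Q : Sylow 2 L,
      (Q : Subgroup L).map e.toMonoidHom = (Q' : Subgroup L') := fun Q' => by
    refine ⟨Q'.comapOfInjective e.toMonoidHom e.injective ?_, ?_⟩
    · rw [MonoidHom.range_eq_top.2 e.surjective]; exact le_top
    · exact map_comap_eq_self_of_surjective e.surjective _
  have hcen : ∀ (Q : Sylow 2 L) (Q' : Sylow 2 L'),
      (Q : Subgroup L).map e.toMonoidHom = (Q' : Subgroup L') →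
      (∀ y, e y ∈ Q' ↔ y ∈ Q) ∧
        ∀ y, (e y ∈ centre (Q' : Subgroup L') ↔ y ∈ centre (Q : Subgroup L)) := by
    intro Q Q' he
    refine ⟨fun y => ?_, fun y => ?_⟩
    · show e y ∈ (Q' : Subgroup L') ↔ y ∈ (Q : Subgroup L)
      rw [← he]
      exact mem_map_iff_mem e.injective
    · rw [← he, centre_map_equiv]
      exact mem_map_iff_mem e.injective
  refine ⟨h.pow, ?_, ?_, fun x hx => ?_, fun Q' x hx => ?_, fun Q' => ?_, fun Q' => ?_,
    fun Q' x hx => ?_, fun Q' x hx y hy => ?_, fun Q' => ?_, fun α hα => ?_, fun Q' α hα hfix => ?_,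
    fun Q' u hu huc => ?_⟩
  · haveI := h.simple
    haveI : Nontrivial L' := e.symm.toEquiv.nontrivial
    exact IsSimpleGroup.isSimpleGroup_of_surjective e.toMonoidHom e.surjective
  · refine (Subgroup.eq_bot_iff_forall _).2 fun x hx => ?_
    obtain ⟨y, rfl⟩ := e.surjective x
    have hy : y ∈ Subgroup.center L := mem_center_iff.2 fun g => e.injective (by
      simpa using mem_center_iff.1 hx (e g))
    rw [h.center, mem_bot] at hy
    simp [hy]
  · obtain ⟨y, rfl⟩ := e.surjective x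
    rw [MulEquiv.orderOf_eq] at hx
    obtain ⟨Q, hQ⟩ := h.cent y hx
    refine ⟨Q.mapSurjective (f := e.toMonoidHom) e.surjective, ?_⟩
    ext g
    obtain ⟨g, rfl⟩ := e.surjective g
    show _ ↔ e.toMonoidHom g ∈ (Q : Subgroup L).map e.toMonoidHom
    rw [mem_map_iff_mem e.injective, ← hQ, mem_centralizer_singleton_iff,
      mem_centralizer_singleton_iff, ← map_mul, ← map_mul, e.injective.eq_iff]
  · obtain ⟨Q, hQ⟩ := hsyl Q'
    obtain ⟨y, rfl⟩ := e.surjective x
    rw [(hcen Q Q' hQ).2, ← h.omega Q y (((hcen Q Q' hQ).1 y).1 hx), ← map_mul,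
      MulEquiv.map_eq_one_iff]
  · obtain ⟨Q, hQ⟩ := hsyl Q'
    rw [← hQ, centre_map_equiv, card_map_of_injective e.injective, h.card_centre Q]
  · obtain ⟨Q, hQ⟩ := hsyl Q'
    rw [← hQ, card_map_of_injective e.injective, h.card_sylow Q]
  · obtain ⟨Q, hQ⟩ := hsyl Q'
    obtain ⟨y, rfl⟩ := e.surjective x
    rw [← map_mul, (hcen Q Q' hQ).2]
    exact h.sq Q y (((hcen Q Q' hQ).1 y).1 hx)
  · obtain ⟨Q, hQ⟩ := hsyl Q'
    obtain ⟨x, rfl⟩ := e.surjective x
    obtain ⟨y, rfl⟩ := e.surjective y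
    rw [← map_commutatorElement, (hcen Q Q' hQ).2]
    exact h.comm Q x (((hcen Q Q' hQ).1 x).1 hx) y (((hcen Q Q' hQ).1 y).1 hy)
  · obtain ⟨Q, hQ⟩ := hsyl Q'
    obtain ⟨hmem, hz⟩ := hcen Q Q' hQ
    obtain ⟨t, ht, hto, h1, h2⟩ := h.torus Q
    refine ⟨e t, ?_, by rw [MulEquiv.orderOf_eq, hto], ?_, ?_⟩
    · refine mem_normalizer_iff.2 fun g => ?_
      obtain ⟨g, rfl⟩ := e.surjective g
      rw [← map_inv, ← map_mul, ← map_mul, ← hQ]
      show e.toMonoidHom g ∈ _ ↔ e.toMonoidHom (t * g * t⁻¹) ∈ _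
      rw [mem_map_iff_mem e.injective, mem_map_iff_mem e.injective]
      exact mem_normalizer_iff.1 ht g
    · intro x hx y hy hx1 hy1
      obtain ⟨x, rfl⟩ := e.surjective x
      obtain ⟨y, rfl⟩ := e.surjective y
      obtain ⟨k, hk⟩ := h1 x ((hz x).1 hx) y ((hz y).1 hy) (fun hh => hx1 (by rw [hh, map_one]))
        (fun hh => hy1 (by rw [hh, map_one]))
      exact ⟨k, by rw [← hk]; simp⟩
    · intro x hx y hy hx1 hy1
      obtain ⟨x, rfl⟩ := e.surjective x
      obtain ⟨y, rfl⟩ := e.surjective y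
      obtain ⟨k, hk⟩ := h2 x ((hmem x).1 hx) y ((hmem y).1 hy) (fun hh => hx1 ((hz x).2 hh))
        (fun hh => hy1 ((hz y).2 hh))
      refine ⟨k, ?_⟩
      have h3 := (hz _).2 hk
      simpa using h3
  · set β : MulAut L := (e.trans α).trans e.symm with hβ
    have hpow : ∀ (n : ℕ) (x : L), (β ^ n) x = e.symm ((α ^ n) (e x)) := by
      intro n
      induction n with
      | zero => intro x; simp
      | succ n ih => intro x; rw [pow_succ, pow_succ, MulAut.mul_apply, ih, MulAut.mul_apply]; simp [hβ]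
    obtain ⟨k, hk⟩ := hα
    obtain ⟨s, hs⟩ := h.inner β ⟨k, MulEquiv.ext fun x => by rw [hpow, hk]; simp⟩
    refine ⟨e s, MulEquiv.ext fun x => ?_⟩
    obtain ⟨x, rfl⟩ := e.surjective x
    have h1 := congrArg e (congrArg (fun γ : MulAut L => γ x) hs)
    simpa [hβ, MulAut.conj_apply] using h1
  · obtain ⟨Q, hQ⟩ := hsyl Q'
    set β : MulAut L := (e.trans α).trans e.symm with hβ
    have hpow : ∀ (n : ℕ) (x : L), (β ^ n) x = e.symm ((α ^ n) (e x)) := by
      intro n
      induction n with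
      | zero => intro x; simp
      | succ n ih => intro x; rw [pow_succ, pow_succ, MulAut.mul_apply, ih, MulAut.mul_apply]; simp [hβ]
    have hodd : Odd (orderOf β) := hα.of_dvd_nat (orderOf_dvd_of_pow_eq_one
      (MulEquiv.ext fun x => by rw [hpow, pow_orderOf_eq_one]; simp))
    have h1 := h.odd_fix Q β hodd fun z hz => by
      simp [hβ, hfix (e z) (((hcen Q Q' hQ).2 z).2 hz)]
    refine MulEquiv.ext fun x => ?_
    obtain ⟨x, rfl⟩ := e.surjective x
    have h2 := congrArg e (congrArg (fun γ : MulAut L => γ x) h1)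
    simpa [hβ] using h2
  · obtain ⟨Q, hQ⟩ := hsyl Q'
    obtain ⟨u, rfl⟩ := e.surjective u
    obtain ⟨hmem, hz⟩ := hcen Q Q' hQ
    refine (h.comm_half Q u ((hmem u).1 hu) fun hh => huc ((hz u).2 hh)).trans
      (Nat.mul_le_mul_left 2 ?_)
    refine Nat.card_le_card_of_injective
      (fun c => ⟨e c.1, ?_⟩) fun a b hab => Subtype.ext (e.injective (congrArg Subtype.val hab))
    obtain ⟨r, hr, hc⟩ := c.2
    exact ⟨e r, (hmem r).2 hr, by rw [hc, map_commutatorElement]⟩

/-- A component `K` moved by an elementary abelian subgroup `A` in a minimal configuration. -/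
structure CoreHyp {G : Type u} [Group G] [Finite G] (A K : Subgroup G) (q : ℕ) : Prop where
  perfect : commutator ↥K = ⊤
  facts : SzFacts (↥K ⧸ center ↥K) q
  norm : A ≤ normalizer (K : Set G)
  two_center : IsPGroup 2 ↥(center ↥K)
  sup : (A ⊓ K) ⊔ fixer A K = A
  card : Nat.card ↥A = q * Nat.card ↥(fixer A K)
  elemAb : Cfsg.IsElementaryAbelian 2 A
  mem : ∀ P : Subgroup G, IsPGroup 2 ↥P → A ≤ P →
    ∀ (g : G), ∀ a ∈ A, g * a * g⁻¹ ∈ P → g * a * g⁻¹ ∈ A
  bound : ∀ B : Subgroup G, B ≤ normalizer (A : Set G) →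
    (∀ r ∈ B, ∀ s ∈ B, ⁅r, s⁆ ∈ centralizer (A : Set G)) →
    (∀ r ∈ B, r * r ∈ centralizer (A : Set G)) →
    (centralizer (A : Set G)).relIndex B ^ 2 ≤ (centralizer (B : Set G)).relIndex A

section Core

variable {G : Type u} [Group G] [Finite G] {A K : Subgroup G} {q : ℕ}

theorem mem_center_subgroup {k : ↥K} : k ∈ center ↥K ↔ (k : G) ∈ centralizer (K : Set G) := by
  rw [mem_center_iff, mem_centralizer_iff]
  exact ⟨fun h g hg => congrArg Subtype.val (h ⟨g, hg⟩), fun h g => Subtype.ext (h g g.2)⟩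

/-- The projection to the simple quotient. -/
abbrev proj (K : Subgroup G) : ↥K →* ↥K ⧸ center ↥K := QuotientGroup.mk' (center ↥K)

/-- The image of `A`. -/
abbrev aImage (A K : Subgroup G) : Subgroup (↥K ⧸ center ↥K) := (A.subgroupOf K).map (proj K)

theorem proj_eq_one_iff {k : ↥K} : proj K k = 1 ↔ (k : G) ∈ centralizer (K : Set G) := by
  rw [QuotientGroup.mk'_apply, QuotientGroup.eq_one_iff, mem_center_subgroup]

theorem proj_comm_iff {k y : ↥K} : proj K k * proj K y = proj K y * proj K k ↔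
    (k : G) * y * (k : G)⁻¹ * (y : G)⁻¹ ∈ centralizer (K : Set G) := by
  rw [← commutatorElement_eq_one_iff_mul_comm, ← map_commutatorElement, proj_eq_one_iff,
    commutatorElement_def]
  simp

namespace CoreHyp

variable (h : CoreHyp A K q)
include h

theorem comm {a b : G} (ha : a ∈ A) (hb : b ∈ A) : a * b = b * a :=
  congrArg Subtype.val (h.elemAb.1.is_comm.comm (⟨a, ha⟩ : A) ⟨b, hb⟩)

theorem sq {a : G} (ha : a ∈ A) : a * a = 1 := by rw [← pow_two]; exact h.elemAb.2 a ha

theorem fixer_relIndex : (fixer A K).relIndex A = q := by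
  have h1 := Subgroup.relIndex_mul_relIndex ⊥ (fixer A K) A bot_le inf_le_left
  rw [relIndex_bot_left, relIndex_bot_left, h.card, mul_comm] at h1
  exact Nat.eq_of_mul_eq_mul_right Nat.card_pos h1

theorem card_aImage : Nat.card ↥(aImage A K) = q := by
  rw [← relIndex_ker, QuotientGroup.ker_mk']
  have hc : center ↥K = (centralizer (K : Set G)).subgroupOf K := by
    ext k; rw [mem_center_subgroup, mem_subgroupOf]
  rw [hc, show A.subgroupOf K = (A ⊓ K).subgroupOf K from (inf_subgroupOf_right A K).symm,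
    relIndex_subgroupOf inf_le_right]
  haveI : ((fixer A K).subgroupOf A).Normal :=
    ⟨fun n hn g => by
      have e : g * n * g⁻¹ = n := by
        apply Subtype.ext
        simp [h.comm g.2 n.2]
      rw [e]; exact hn⟩
  have h2 := relIndex_sup_right ((A ⊓ K).subgroupOf A) ((fixer A K).subgroupOf A)
  rw [← subgroupOf_sup inf_le_left inf_le_left, h.sup, relIndex_subgroupOf le_rfl,
    relIndex_subgroupOf inf_le_left, h.fixer_relIndex] at h2
  rw [h2, ← inf_relIndex_right (centralizer (K : Set G)), ← inf_relIndex_right (fixer A K)]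
  congr 1
  ext x
  simp only [mem_inf]
  tauto

theorem aImage_sq {x : ↥K ⧸ center ↥K} (hx : x ∈ aImage A K) : x * x = 1 := by
  obtain ⟨y, hy, rfl⟩ := hx
  rw [← map_mul, show y * y = 1 from Subtype.ext (h.sq (mem_subgroupOf.1 hy)), map_one]

/-- The Sylow subgroup of the quotient with centre the image of `A`. -/
theorem exists_sylow : ∃ Qb : Sylow 2 (↥K ⧸ center ↥K),
    centre (Qb : Subgroup (↥K ⧸ center ↥K)) = aImage A K ∧
    (∀ g : ↥K ⧸ center ↥K, g ∈ Qb ↔ ∀ y ∈ aImage A K, g * y = y * g) := by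
  have hq := h.facts.eight_le
  have hnb : aImage A K ≠ ⊥ := fun hb => by
    have := h.card_aImage
    rw [hb, Subgroup.card_bot] at this
    omega
  obtain ⟨⟨x, hxA⟩, hx'⟩ := ne_bot_iff_exists_ne_one.1 hnb
  have hx1 : x ≠ 1 := fun e => hx' (Subtype.ext e)
  have hox : orderOf x = 2 := orderOf_eq_prime (by rw [pow_two, h.aImage_sq hxA]) hx1
  obtain ⟨Qb, hQb⟩ := h.facts.cent x hox
  have hAQ : ∀ y ∈ aImage A K, y ∈ (Qb : Subgroup _) := fun y hy => by
    rw [← hQb, mem_centralizer_singleton_iff]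
    obtain ⟨y, hy', rfl⟩ := hy
    obtain ⟨z, hz, rfl⟩ := hxA
    rw [← map_mul, ← map_mul]
    exact congrArg _ (Subtype.ext (h.comm (mem_subgroupOf.1 hy') (mem_subgroupOf.1 hz)))
  have hle : aImage A K ≤ centre (Qb : Subgroup (↥K ⧸ center ↥K)) := fun y hy =>
    (h.facts.omega Qb y (hAQ y hy)).1 (h.aImage_sq hy)
  have heq : centre (Qb : Subgroup (↥K ⧸ center ↥K)) = aImage A K :=
    (eq_of_le_of_card_ge hle (by rw [h.facts.card_centre Qb, h.card_aImage])).symm
  refine ⟨Qb, heq, fun g => ⟨fun hg y hy => ?_, fun hg => ?_⟩⟩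
  · exact (mem_centralizer_iff.1 (heq ▸ hy).2 g hg)
  · show g ∈ (Qb : Subgroup (↥K ⧸ center ↥K))
    rw [← hQb, mem_centralizer_singleton_iff]
    exact hg x hxA

variable {Qb : Sylow 2 (↥K ⧸ center ↥K)} (hcen : centre (Qb : Subgroup (↥K ⧸ center ↥K)) = aImage A K)
  (hmem : ∀ g : ↥K ⧸ center ↥K, g ∈ Qb ↔ ∀ y ∈ aImage A K, g * y = y * g)

/-- The preimage of the Sylow subgroup, inside the ambient group. -/
abbrev hat (Qb : Sylow 2 (↥K ⧸ center ↥K)) : Subgroup G :=
  ((Qb : Subgroup (↥K ⧸ center ↥K)).comap (proj K)).map K.subtype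

include hmem

theorem mem_hat {x : G} (hx : x ∈ K) : x ∈ hat Qb ↔
    ∀ y ∈ A, y ∈ K → x * y * x⁻¹ * y⁻¹ ∈ centralizer (K : Set G) := by
  rw [show x = K.subtype ⟨x, hx⟩ from rfl, mem_map_iff_mem K.subtype_injective, mem_comap]
  refine (hmem _).trans ⟨fun hg y hy hyK => ?_, ?_⟩
  · exact proj_comm_iff.1 (hg _ ⟨⟨y, hyK⟩, mem_subgroupOf.2 hy, rfl⟩)
  · rintro hg _ ⟨y, hy, rfl⟩
    exact proj_comm_iff.2 (hg y (mem_subgroupOf.1 hy) y.2)

theorem conj_hat {g : G} (hgK : g ∈ normalizer (K : Set G)) (hgA : g ∈ normalizer (A : Set G))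
    {x : G} (hx : x ∈ hat Qb) : g * x * g⁻¹ ∈ hat Qb := by
  have hxK : x ∈ K := map_subtype_le _ hx
  refine (h.mem_hat hmem ((mem_normalizer_iff.1 hgK x).1 hxK)).2 fun y hy hyK => ?_
  have h1 : g⁻¹ * y * g ∈ A := by
    have := (mem_normalizer_iff.1 (inv_mem hgA) y).1 hy
    rwa [inv_inv] at this
  have h2 : g⁻¹ * y * g ∈ K := by
    have := (mem_normalizer_iff.1 (inv_mem hgK) y).1 hyK
    rwa [inv_inv] at this
  have h3 := (h.mem_hat hmem hxK).1 hx _ h1 h2
  have h4 : g * (x * (g⁻¹ * y * g) * x⁻¹ * (g⁻¹ * y * g)⁻¹) * g⁻¹ ∈ centralizer (K : Set G) := by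
    refine mem_centralizer_iff.2 fun k hk => ?_
    have h5 : g⁻¹ * k * g ∈ K := by
      have := (mem_normalizer_iff.1 (inv_mem hgK) k).1 hk
      rwa [inv_inv] at this
    have h6 := mem_centralizer_iff.1 h3 _ h5
    calc k * (g * (x * (g⁻¹ * y * g) * x⁻¹ * (g⁻¹ * y * g)⁻¹) * g⁻¹)
        = g * ((g⁻¹ * k * g) * (x * (g⁻¹ * y * g) * x⁻¹ * (g⁻¹ * y * g)⁻¹)) * g⁻¹ := by group
      _ = _ := by rw [h6]; group
  convert h4 using 1
  group

theorem norm_hat (hC : centralizer (A : Set G) ≤ normalizer (K : Set G)) :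
    centralizer (A : Set G) ≤ normalizer (hat Qb : Set G) := fun g hg =>
  Coprime.mem_normalizer_of_forall fun x hx =>
    h.conj_hat hmem (hC hg) (centralizer_le_normalizer _ hg) hx

omit hmem in
theorem isPGroup_hat : IsPGroup 2 ↥(hat Qb) :=
  (Qb.isPGroup'.comap_of_ker_isPGroup (proj K) (by
    rw [QuotientGroup.ker_mk']; exact h.two_center)).map _

theorem isPGroup_hat_sup : IsPGroup 2 ↥(hat Qb ⊔ A) := by
  haveI : Fact (Nat.Prime 2) := ⟨Nat.prime_two⟩
  refine IsPGroup.to_sup_of_normal_left' h.isPGroup_hat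
    (fun a => ⟨1, Subtype.ext (by simpa using h.elemAb.2 a a.2)⟩) fun a ha => ?_
  exact Coprime.mem_normalizer_of_forall fun x hx =>
    h.conj_hat hmem (h.norm ha) (le_normalizer ha) hx

theorem hat_le_normalizer : hat Qb ≤ normalizer (A : Set G) := fun x hx =>
  Coprime.mem_normalizer_of_forall fun a ha =>
    h.mem _ (h.isPGroup_hat_sup hmem) le_sup_right x a ha
      (mul_mem (mul_mem (mem_sup_left hx) (mem_sup_right ha)) (inv_mem (mem_sup_left hx)))

omit hmem in
theorem mem_centralizer_of_forall {g : G} (hf : ∀ f ∈ fixer A K, g * f = f * g)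
    (hy : ∀ y ∈ A, y ∈ K → g * y = y * g) : g ∈ centralizer (A : Set G) := by
  have hle : A ≤ centralizer ({g} : Set G) := by
    rw [← h.sup]
    refine sup_le (fun y hyy => ?_) fun f hff => ?_
    · exact mem_centralizer_singleton_iff.2 (hy y hyy.1 hyy.2).symm
    · exact mem_centralizer_singleton_iff.2 (hf f hff).symm
  exact mem_centralizer_iff.2 fun a ha => mem_centralizer_singleton_iff.1 (hle ha)

include hcen

/-- Elements mapping to the centre centralise `A`. -/
theorem cent_of_centre {k : ↥K} (hk : proj K k ∈ centre (Qb : Subgroup (↥K ⧸ center ↥K))) :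
    (k : G) ∈ centralizer (A : Set G) := by
  rw [hcen] at hk
  obtain ⟨y, hy, hye⟩ := hk
  have hz : ((y⁻¹ * k : ↥K) : G) ∈ centralizer (K : Set G) := by
    rw [← proj_eq_one_iff, map_mul, map_inv, hye, inv_mul_cancel]
  have hz' : ((y⁻¹ * k : ↥K) : G) ∈ centralizer (A : Set G) :=
    h.mem_centralizer_of_forall (fun f hf => (mem_centralizer_iff.1 hf.2 _ (y⁻¹ * k).2))
      fun a _ haK => (mem_centralizer_iff.1 hz a haK).symm
  have hy' : (y : G) ∈ centralizer (A : Set G) :=
    mem_centralizer_iff.2 fun a ha => h.comm ha (mem_subgroupOf.1 hy)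
  simpa using mul_mem hy' hz'

/-- A torus element normalising `A`. -/
theorem exists_torus : ∃ t : ↥K, (t : G) ∈ normalizer (A : Set G) ∧
    proj K t ∈ normalizer ((Qb : Subgroup (↥K ⧸ center ↥K)) : Set (↥K ⧸ center ↥K)) ∧
    (∀ x ∈ centre (Qb : Subgroup (↥K ⧸ center ↥K)), ∀ y ∈ centre (Qb : Subgroup (↥K ⧸ center ↥K)),
      x ≠ 1 → y ≠ 1 → ∃ k : ℕ, proj K t ^ k * x * (proj K t ^ k)⁻¹ = y) ∧
    (∀ x ∈ Qb, ∀ y ∈ Qb, x ∉ centre (Qb : Subgroup (↥K ⧸ center ↥K)) →
      y ∉ centre (Qb : Subgroup (↥K ⧸ center ↥K)) →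
      ∃ k : ℕ, (proj K t ^ k * x * (proj K t ^ k)⁻¹)⁻¹ * y ∈
        centre (Qb : Subgroup (↥K ⧸ center ↥K))) := by
  obtain ⟨tb, htb, -, h1, h2⟩ := h.facts.torus Qb
  obtain ⟨t, rfl⟩ := QuotientGroup.mk'_surjective (center ↥K) tb
  refine ⟨t, ?_, htb, h1, h2⟩
  have hle : A ≤ A.comap (MulAut.conj (t : G)).toMonoidHom := by
    have hyK : ∀ y ∈ A ⊓ K, (t : G) * y * (t : G)⁻¹ ∈ A := by
      rintro y ⟨hy, hyK⟩
      refine h.mem _ (h.isPGroup_hat_sup hmem) le_sup_right (t : G) y hy (mem_sup_left ?_)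
      refine ⟨t * ⟨y, hyK⟩ * t⁻¹, ?_, rfl⟩
      show proj K (t * ⟨y, hyK⟩ * t⁻¹) ∈ Qb
      rw [map_mul, map_mul, map_inv]
      refine (mem_normalizer_iff.1 htb _).1 ?_
      have h3 : proj K ⟨y, hyK⟩ ∈ centre (Qb : Subgroup (↥K ⧸ center ↥K)) :=
        hcen ▸ ⟨⟨y, hyK⟩, mem_subgroupOf.2 hy, rfl⟩
      exact h3.1
    refine h.sup.ge.trans (sup_le (fun y hy => hyK y hy) fun f hf => ?_)
    show (t : G) * f * (t : G)⁻¹ ∈ A
    rw [mem_centralizer_iff.1 hf.2 _ t.2, mul_inv_cancel_right]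
    exact hf.1
  exact Coprime.mem_normalizer_of_forall fun a ha => hle ha

/-- The Sylow subgroup centralises `A`. -/
theorem hat_le_centralizer : hat Qb ≤ centralizer (A : Set G) := by
  by_contra hne
  obtain ⟨x₀, hx₀, hx₀C⟩ := SetLike.not_le_iff_exists.1 hne
  obtain ⟨k₀, hk₀, rfl⟩ := hx₀
  obtain ⟨t, htA, htQ, -, ht2⟩ := h.exists_torus hcen hmem
  have hk₀Z : proj K k₀ ∉ centre (Qb : Subgroup (↥K ⧸ center ↥K)) := fun hc =>
    hx₀C (h.cent_of_centre hcen hmem hc)
  have hdec : ∀ k : ↥K, proj K k ∈ Qb → proj K k ∉ centre (Qb : Subgroup (↥K ⧸ center ↥K)) →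
      ∃ (n : ℕ) (m : ↥K), (m : G) ∈ centralizer (A : Set G) ∧ k = t ^ n * k₀ * (t ^ n)⁻¹ * m := by
    intro k hk hkZ
    obtain ⟨n, hn⟩ := ht2 _ hk₀ _ hk hk₀Z hkZ
    refine ⟨n, (t ^ n * k₀ * (t ^ n)⁻¹)⁻¹ * k, h.cent_of_centre hcen hmem ?_, by group⟩
    simpa using hn
  have htn : ∀ n : ℕ, ((t ^ n : ↥K) : G) ∈ normalizer (A : Set G) := fun n => by
    simpa using pow_mem htA n
  -- elements of `Q` centralising `A` lie over the centre
  have hC : ∀ k : ↥K, proj K k ∈ Qb → ((k : G) ∈ centralizer (A : Set G) ↔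
      proj K k ∈ centre (Qb : Subgroup (↥K ⧸ center ↥K))) := by
    intro k hk
    refine ⟨fun hc => ?_, h.cent_of_centre hcen hmem⟩
    by_contra hkZ
    obtain ⟨n, m, hm, rfl⟩ := hdec k hk hkZ
    have h1 : ((t ^ n * k₀ * (t ^ n)⁻¹ : ↥K) : G) ∈ centralizer (A : Set G) := by
      have h2 := mul_mem hc (inv_mem hm)
      simpa using h2
    refine hx₀C (mem_centralizer_iff.2 fun a ha => ?_)
    have h3 := mem_centralizer_iff.1 h1 _ ((mem_normalizer_iff.1 (htn n) a).1 ha)
    simp only [Subgroup.coe_mul, InvMemClass.coe_inv] at h3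
    show a * (k₀ : G) = (k₀ : G) * a
    set T : G := ((t ^ n : ↥K) : G) with hT
    calc a * (k₀ : G) = T⁻¹ * (T * a * T⁻¹ * (T * k₀ * T⁻¹)) * T := by group
      _ = T⁻¹ * (T * k₀ * T⁻¹ * (T * a * T⁻¹)) * T := by rw [h3]
      _ = (k₀ : G) * a := by group
  -- the index
  have hidx : (centralizer (A : Set G)).relIndex (hat Qb) = q := by
    have h1 : (centralizer (A : Set G)).relIndex (hat Qb) =
        ((centralizer (A : Set G)).subgroupOf K).relIndex
          ((Qb : Subgroup (↥K ⧸ center ↥K)).comap (proj K)) := by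
      conv_rhs => rw [← inf_relIndex_right]
      conv_lhs => rw [← inf_relIndex_right]
      rw [← relIndex_map_map_of_injective (f := K.subtype) _ _ K.subtype_injective,
        map_inf _ _ _ K.subtype_injective, subgroupOf_map_subtype]
      congr 1
      rw [inf_assoc, inf_eq_right.2 (map_subtype_le _ : hat Qb ≤ K)]
    have h2 : (centralizer (A : Set G)).subgroupOf K ⊓
        (Qb : Subgroup (↥K ⧸ center ↥K)).comap (proj K) =
          (centre (Qb : Subgroup (↥K ⧸ center ↥K))).comap (proj K) := by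
      ext k
      refine ⟨fun hk => (hC k hk.2).1 hk.1, fun hk => ⟨(hC k hk.1).2 hk, hk.1⟩⟩
    rw [h1, ← inf_relIndex_right, h2, relIndex_comap,
      map_comap_eq_self_of_surjective (QuotientGroup.mk'_surjective _)]
    have h3 := Subgroup.relIndex_mul_relIndex ⊥ (centre (Qb : Subgroup (↥K ⧸ center ↥K)))
      (Qb : Subgroup (↥K ⧸ center ↥K)) bot_le inf_le_left
    rw [relIndex_bot_left, relIndex_bot_left, h.facts.card_centre, h.facts.card_sylow, pow_two] at h3
    exact Nat.eq_of_mul_eq_mul_left (by have := h.facts.eight_le; omega) h3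
  have hfix : fixer A K ≤ centralizer (hat Qb : Set G) := fun f hf =>
    mem_centralizer_iff.2 fun x hx => mem_centralizer_iff.1 hf.2 x (map_subtype_le _ hx)
  have hsmall : (centralizer (hat Qb : Set G)).relIndex A ≤ q := by
    rw [← h.fixer_relIndex]
    refine relIndex_le_of_le_left hfix ?_
    rw [h.fixer_relIndex]
    have := h.facts.eight_le
    omega
  have hb := h.bound (hat Qb) (h.hat_le_normalizer hmem) (fun x hx y hy => ?_) (fun x hx => ?_)
  · rw [hidx] at hb
    have := h.facts.eight_le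
    have h2 := hb.trans hsmall
    rw [pow_two] at h2
    nlinarith
  · obtain ⟨k, hk, rfl⟩ := hx
    obtain ⟨l, hl, rfl⟩ := hy
    have := h.cent_of_centre hcen hmem (k := ⁅k, l⁆) (by
      rw [map_commutatorElement]; exact h.facts.comm Qb _ hk _ hl)
    simpa [commutatorElement_def] using this
  · obtain ⟨k, hk, rfl⟩ := hx
    have := h.cent_of_centre hcen hmem (k := k * k) (by
      rw [map_mul]; exact h.facts.sq Qb _ hk)
    simpa using this

/-- The component has trivial centre. -/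
theorem center_eq_bot : center ↥K = ⊥ := by
  haveI : Fact (Nat.Prime 2) := ⟨Nat.prime_two⟩
  set Qk : Subgroup ↥K := (Qb : Subgroup (↥K ⧸ center ↥K)).comap (proj K) with hQk
  let Ps : Sylow 2 ↥K := Qb.comapOfKerIsPGroup (proj K)
    (by rw [QuotientGroup.ker_mk']; exact h.two_center)
    (by rw [MonoidHom.range_eq_top.2 (QuotientGroup.mk'_surjective _)]; exact le_top)
  set Mk : Subgroup ↥K := (centre (Qb : Subgroup (↥K ⧸ center ↥K))).comap (proj K) with hMk
  have hMQ : Mk ≤ Qk := comap_mono inf_le_left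
  have hZM : center ↥K ≤ Mk := fun z hz => by
    rw [hMk, mem_comap, show proj K z = 1 from (QuotientGroup.eq_one_iff z).2 hz]; exact one_mem _
  -- decomposition and centrality of `Mk` in `Qk`
  have hdecM : ∀ m ∈ Mk, ∃ y z : ↥K, (y : G) ∈ A ∧ z ∈ center ↥K ∧ m = y * z := by
    intro m hm
    rw [hMk, mem_comap, hcen] at hm
    obtain ⟨y, hy, hye⟩ := hm
    refine ⟨y, y⁻¹ * m, mem_subgroupOf.1 hy, ?_, by group⟩
    rw [← QuotientGroup.eq_one_iff, ← QuotientGroup.mk'_apply, map_mul, map_inv, hye, inv_mul_cancel]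
  have hMc : ∀ m ∈ Mk, ∀ x ∈ Qk, x * m = m * x := by
    intro m hm x hx
    obtain ⟨y, z, hy, hz, rfl⟩ := hdecM m hm
    have h1 : x * y = y * x := Subtype.ext
      (mem_centralizer_iff.1 (h.hat_le_centralizer hcen hmem ⟨x, hx, rfl⟩) y hy).symm
    calc x * (y * z) = y * (x * z) := by rw [← mul_assoc, h1, mul_assoc]
      _ = y * (z * x) := by rw [mem_center_iff.1 hz x]
      _ = _ := (mul_assoc y z x).symm
  obtain ⟨t, htA, htQ, ht1, ht2⟩ := h.exists_torus hcen hmem
  have htM : ∀ m ∈ Mk, t * m * t⁻¹ ∈ Mk := by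
    intro m hm
    obtain ⟨y, z, hy, hz, rfl⟩ := hdecM m hm
    have h1 : proj K (t * y * t⁻¹) ∈ centre (Qb : Subgroup (↥K ⧸ center ↥K)) := by
      rw [hcen]
      exact ⟨_, mem_subgroupOf.2 (by simpa using (mem_normalizer_iff.1 htA y).1 hy), rfl⟩
    have h2 : t * (y * z) * t⁻¹ = t * y * t⁻¹ * z := by
      rw [← mul_assoc, mul_assoc (t * y), ← mem_center_iff.1 hz t⁻¹, ← mul_assoc]
    rw [h2]
    exact Mk.mul_mem h1 (hZM hz)
  -- `[t, M]` and the squares of the centre
  let δ : ↥Mk →* ↥K :=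
    { toFun := fun m => t * (m : ↥K) * t⁻¹ * (m : ↥K)⁻¹
      map_one' := by simp
      map_mul' := fun a b => by
        have h1 := hMc _ (Mk.mul_mem (htM b b.2) (Mk.inv_mem b.2)) _ (hMQ a.2)
        simp only [Subgroup.coe_mul]
        calc t * ((a : ↥K) * b) * t⁻¹ * ((a : ↥K) * b)⁻¹
            = (t * a * t⁻¹) * (t * b * t⁻¹ * (b : ↥K)⁻¹) * (a : ↥K)⁻¹ := by group
          _ = (t * a * t⁻¹ * (a : ↥K)⁻¹) * ((a : ↥K) * (t * b * t⁻¹ * (b : ↥K)⁻¹)) * (a : ↥K)⁻¹ := by
              group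
          _ = _ := by rw [h1]; group }
  let sqh : ↥(center ↥K) →* ↥K :=
    { toFun := fun z => (z : ↥K) * z
      map_one' := by simp
      map_mul' := fun a b => by
        have h1 := mem_center_iff.1 a.2 (b : ↥K)
        simp only [Subgroup.coe_mul]
        calc (a : ↥K) * b * ((a : ↥K) * b) = (a : ↥K) * ((b : ↥K) * a) * b := by group
          _ = _ := by rw [h1]; group }
  set N₀ : Subgroup ↥K := δ.range ⊔ sqh.range with hN₀
  have hN₀M : N₀ ≤ Mk := by
    rw [hN₀]
    refine sup_le ?_ ?_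
    · rintro _ ⟨m, rfl⟩; exact Mk.mul_mem (htM m m.2) (Mk.inv_mem m.2)
    · rintro _ ⟨z, rfl⟩; exact hZM ((center ↥K).mul_mem z.2 z.2)
  set N₁ : Subgroup ↥Qk := N₀.subgroupOf Qk with hN₁
  haveI : N₁.Normal := ⟨fun n hn g => by
    have e : g * n * g⁻¹ = n := by
      rw [mul_inv_eq_iff_eq_mul]
      exact Subtype.ext (hMc _ (hN₀M (mem_subgroupOf.1 hn)) _ g.2)
    rw [e]; exact hn⟩
  have hsq2 : ∀ m ∈ Mk, m * m ∈ N₀ := by
    intro m hm
    obtain ⟨y, z, hy, hz, rfl⟩ := hdecM m hm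
    have hyy : y * y = 1 := Subtype.ext (h.sq hy)
    have : y * z * (y * z) = z * z := by
      calc y * z * (y * z) = y * (z * y) * z := by group
        _ = y * (y * z) * z := by rw [mem_center_iff.1 hz y]
        _ = y * y * (z * z) := by group
        _ = z * z := by rw [hyy, one_mul]
    rw [this]
    exact mem_sup_right ⟨⟨z, hz⟩, rfl⟩
  -- a commutative quotient
  set π₁ := QuotientGroup.mk' N₁ with hπ₁
  set MR : Subgroup (↥Qk ⧸ N₁) := (Mk.subgroupOf Qk).map π₁ with hMR
  have hMRiff : ∀ x : ↥Qk, π₁ x ∈ MR ↔ (x : ↥K) ∈ Mk := fun x => by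
    refine ⟨?_, fun hx => ⟨x, hx, rfl⟩⟩
    rintro ⟨y, hy, hye⟩
    have h1 := hN₀M (mem_subgroupOf.1 (QuotientGroup.eq.1 hye))
    have h2 := Mk.mul_mem (mem_subgroupOf.1 hy) h1
    simpa using h2
  -- three independent elements
  have hq8 := h.facts.eight_le
  have hcard : 8 * Nat.card ↥(Mk.subgroupOf Qk) ≤ Nat.card ↥Qk := by
    have h1 : Nat.card ↥(Mk.subgroupOf Qk) * (Mk.subgroupOf Qk).index = Nat.card ↥Qk :=
      card_mul_index _
    have h2 : (Mk.subgroupOf Qk).index = q := by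
      show Mk.relIndex Qk = q
      rw [hMk, hQk, relIndex_comap,
        map_comap_eq_self_of_surjective (QuotientGroup.mk'_surjective _)]
      have h3 := Subgroup.relIndex_mul_relIndex ⊥ (centre (Qb : Subgroup (↥K ⧸ center ↥K)))
        (Qb : Subgroup (↥K ⧸ center ↥K)) bot_le inf_le_left
      rw [relIndex_bot_left, relIndex_bot_left, h.facts.card_centre, h.facts.card_sylow,
        pow_two] at h3
      exact Nat.eq_of_mul_eq_mul_left (by omega) h3
    rw [h2] at h1
    rw [← h1, mul_comm (Nat.card _)]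
    exact Nat.mul_le_mul_right _ hq8
  set Vq := ↥Qk ⧸ Mk.subgroupOf Qk with hVq
  haveI : (Mk.subgroupOf Qk).Normal := ⟨fun n hn g => by
    have e : g * n * g⁻¹ = n := by
      rw [mul_inv_eq_iff_eq_mul]
      exact Subtype.ext (hMc _ (mem_subgroupOf.1 hn) _ g.2)
    rw [e]; exact hn⟩
  have hV2 : ∀ g : Vq, g * g = 1 := fun g => by
    obtain ⟨g, rfl⟩ := QuotientGroup.mk'_surjective _ g
    rw [← map_mul]
    refine (QuotientGroup.eq_one_iff _).2 (mem_subgroupOf.2 ?_)
    rw [hMk, mem_comap, Subgroup.coe_mul, map_mul]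
    exact h.facts.sq Qb _ g.2
  have hV8 : 8 ≤ Nat.card Vq := by
    have h1 := card_eq_card_quotient_mul_card_subgroup (Mk.subgroupOf Qk)
    rw [h1] at hcard
    exact Nat.le_of_mul_le_mul_right hcard Nat.card_pos
  obtain ⟨u, v, w, hu, hv, hw, huv, huw, hvw, huvw⟩ : ∃ u v w : Vq, u ≠ 1 ∧ v ≠ 1 ∧ w ≠ 1 ∧
      u * v ≠ 1 ∧ u * w ≠ 1 ∧ v * w ≠ 1 ∧ u * (v * w) ≠ 1 := by
    classical
    haveI := Fintype.ofFinite Vq
    have hi : ∀ g : Vq, g⁻¹ = g := fun g => inv_eq_of_mul_eq_one_right (hV2 g)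
    have hne : ∀ s : Finset Vq, s.card < 8 → ∃ g, g ∉ s := fun s hs => by
      by_contra hh
      push Not at hh
      have := Finset.card_le_card (show (Finset.univ : Finset Vq) ⊆ s from fun g _ => hh g)
      rw [Finset.card_univ, ← Nat.card_eq_fintype_card] at this
      omega
    obtain ⟨u, hu⟩ := hne {1} (by simp)
    obtain ⟨v, hv⟩ := hne {1, u} (lt_of_le_of_lt Finset.card_le_two (by norm_num))
    obtain ⟨w, hw⟩ := hne {1, u, v, v * u} (lt_of_le_of_lt Finset.card_le_four (by norm_num))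
    simp only [Finset.mem_insert, Finset.mem_singleton, not_or] at hu hv hw
    refine ⟨u, v, w, hu, hv.1, hw.1, fun e => hv.2 ?_, fun e => hw.2.1 ?_, fun e => hw.2.2.1 ?_,
      fun e => hw.2.2.2 ?_⟩
    · rw [← hi u]; exact (inv_eq_of_mul_eq_one_right e).symm
    · rw [← hi u]; exact (inv_eq_of_mul_eq_one_right e).symm
    · rw [← hi v]; exact (inv_eq_of_mul_eq_one_right e).symm
    · rw [← mul_assoc] at e
      rw [(inv_eq_of_mul_eq_one_right e).symm, mul_inv_rev, hi, hi]
  obtain ⟨u, rfl⟩ := QuotientGroup.mk'_surjective _ u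
  obtain ⟨v, rfl⟩ := QuotientGroup.mk'_surjective _ v
  obtain ⟨w, rfl⟩ := QuotientGroup.mk'_surjective _ w
  have hnot : ∀ x : ↥Qk, QuotientGroup.mk' (Mk.subgroupOf Qk) x ≠ 1 → (x : ↥K) ∉ Mk :=
    fun x hx hm => hx ((QuotientGroup.eq_one_iff x).2 (mem_subgroupOf.2 hm))
  rw [← map_mul] at huv huw hvw
  rw [← map_mul, ← map_mul] at huvw
  replace hu := hnot _ hu
  replace hv := hnot _ hv
  replace hw := hnot _ hw
  replace huv := hnot _ huv
  replace huw := hnot _ huw
  replace hvw := hnot _ hvw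
  replace huvw := hnot _ huvw
  have hcomm : ∀ a b : ↥Qk ⧸ N₁, a * b = b * a := by
    refine comm_of_const_sq MR ?_ ?_ ?_ (c := π₁ (u * u)) ?_ (u := π₁ u) (v := π₁ v) (w := π₁ w)
      ((hMRiff u).not.2 hu) ((hMRiff v).not.2 hv) ((hMRiff w).not.2 hw)
      (by rw [← map_mul]; exact (hMRiff _).not.2 huv) (by rw [← map_mul]; exact (hMRiff _).not.2 huw)
      (by rw [← map_mul]; exact (hMRiff _).not.2 hvw)
      (by rw [← map_mul, ← map_mul]; exact (hMRiff _).not.2 huvw)
    · rintro _ ⟨m, hm, rfl⟩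
      refine mem_center_iff.2 fun g => ?_
      obtain ⟨g, rfl⟩ := QuotientGroup.mk'_surjective N₁ g
      rw [← map_mul, ← map_mul]
      exact congrArg _ (Subtype.ext (hMc _ (mem_subgroupOf.1 hm) _ g.2))
    · rintro _ ⟨m, hm, rfl⟩
      rw [← map_mul, hπ₁, QuotientGroup.mk'_apply, QuotientGroup.eq_one_iff]
      exact mem_subgroupOf.2 (hsq2 _ (mem_subgroupOf.1 hm))
    · intro g
      obtain ⟨g, rfl⟩ := QuotientGroup.mk'_surjective N₁ g
      rw [← map_mul]
      refine (hMRiff _).2 ?_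
      rw [hMk, mem_comap, Subgroup.coe_mul, map_mul]
      exact h.facts.sq Qb _ g.2
    · intro g
      obtain ⟨g, rfl⟩ := QuotientGroup.mk'_surjective N₁ g
      intro hg
      rw [hMRiff] at hg
      obtain ⟨n, hn⟩ := ht2 (proj K u) u.2 (proj K g) g.2 hu hg
      set m : ↥K := (t ^ n * u * (t ^ n)⁻¹)⁻¹ * g with hm
      have hmM : m ∈ Mk := by rw [hMk, mem_comap, hm]; simpa using hn
      have hge : (g : ↥K) = t ^ n * u * (t ^ n)⁻¹ * m := by rw [hm]; group
      set U : ↥K := (u : ↥K) * u with hU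
      have hUM : U ∈ Mk := by rw [hMk, mem_comap, hU, map_mul]; exact h.facts.sq Qb _ u.2
      -- conjugation by powers of `t` is trivial on `Mk` modulo `N₀`
      have hpow : ∀ j : ℕ, t ^ j * U * (t ^ j)⁻¹ ∈ Mk ∧ t ^ j * U * (t ^ j)⁻¹ * U⁻¹ ∈ N₀ := by
        intro j
        induction j with
        | zero => exact ⟨by simpa only [pow_zero, one_mul, inv_one, mul_one] using hUM, by simp⟩
        | succ j ih =>
          have e : t ^ (j + 1) * U * (t ^ (j + 1))⁻¹ = t * (t ^ j * U * (t ^ j)⁻¹) * t⁻¹ := by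
            rw [pow_succ']; group
          rw [e]
          refine ⟨htM _ ih.1, ?_⟩
          have h7 : t * (t ^ j * U * (t ^ j)⁻¹) * t⁻¹ * (t ^ j * U * (t ^ j)⁻¹)⁻¹ ∈ N₀ :=
            mem_sup_left ⟨⟨_, ih.1⟩, rfl⟩
          have h8 := N₀.mul_mem h7 ih.2
          simpa [mul_assoc] using h8
      rw [← map_mul, hπ₁, QuotientGroup.mk'_apply, QuotientGroup.mk'_apply, QuotientGroup.eq]
      refine mem_subgroupOf.2 ?_
      simp only [Subgroup.coe_mul, InvMemClass.coe_inv]
      set X : ↥K := t ^ n * u * (t ^ n)⁻¹ with hX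
      have hXQ : X ∈ Qk := by
        have h7 : X = (g : ↥K) * m⁻¹ := by rw [hge]; group
        rw [h7]
        exact Qk.mul_mem g.2 (Qk.inv_mem (hMQ hmM))
      have hgg : (g : ↥K) * g = t ^ n * U * (t ^ n)⁻¹ * (m * m) := by
        rw [hge, hU]
        calc X * m * (X * m) = X * (m * X) * m := by group
          _ = X * (X * m) * m := by rw [hMc m hmM X hXQ]
          _ = X * X * (m * m) := by group
          _ = _ := by rw [hX]; group
      have h9 : ((g : ↥K) * g) * U⁻¹ ∈ N₀ := by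
        rw [hgg]
        have h10 := hMc _ (Mk.inv_mem hUM) _ (hMQ (Mk.mul_mem hmM hmM))
        rw [mul_assoc _ (m * m), h10, ← mul_assoc]
        exact N₀.mul_mem (hpow n).2 (hsq2 m hmM)
      have h11 := N₀.inv_mem h9
      rw [mul_inv_rev, inv_inv] at h11
      have h12 := hMc U hUM _ (Qk.inv_mem (Qk.mul_mem g.2 g.2))
      rw [← h12] at h11
      exact h11
  -- conclusion
  have hcenN : ∀ z ∈ center ↥K, z ∈ sqh.range := by
    intro z hz
    have h1 : (⟨z, hMQ (hZM hz)⟩ : ↥Qk) ∈ commutator ↥Qk :=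
      mem_commutator_sylow_of_center h.perfect Ps ⟨z, hMQ (hZM hz)⟩ hz
    have h2 : commutator ↥Qk ≤ N₁ := by
      rw [_root_.commutator_def, commutator_le]
      intro a _ b _
      rw [← QuotientGroup.eq_one_iff, ← QuotientGroup.mk'_apply, map_commutatorElement]
      exact commutatorElement_eq_one_iff_mul_comm.2 (hcomm _ _)
    have h3 : z ∈ N₀ := mem_subgroupOf.1 (h2 h1)
    rw [hN₀] at h3
    have hnorm : sqh.range ≤ normalizer (δ.range : Set ↥K) := by
      rintro _ ⟨e, rfl⟩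
      exact centralizer_le_normalizer _ (mem_centralizer_iff.2 fun g _ =>
        mem_center_iff.1 ((center ↥K).mul_mem e.2 e.2) g)
    obtain ⟨_, ⟨m, rfl⟩, b, hb, hab⟩ := (Coprime.mem_sup_iff hnorm).1 h3
    have hbz : b ∈ center ↥K := by
      obtain ⟨e, rfl⟩ := hb; exact (center ↥K).mul_mem e.2 e.2
    have hδz : δ m ∈ center ↥K := by
      have : δ m = z * b⁻¹ := by rw [← hab]; group
      rw [this]; exact (center ↥K).mul_mem hz ((center ↥K).inv_mem hbz)
    have hm1 : (m : ↥K) ∈ center ↥K := by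
      rw [← QuotientGroup.eq_one_iff, ← QuotientGroup.mk'_apply]
      by_contra hne
      have hfix : proj K t * proj K m * (proj K t)⁻¹ = proj K m := by
        have h4 : proj K (δ m) = 1 := (QuotientGroup.eq_one_iff _).2 hδz
        have h5 : proj K t * proj K m * (proj K t)⁻¹ * (proj K m)⁻¹ = 1 := by
          rw [← h4]; simp [δ]
        exact mul_inv_eq_one.1 h5
      have hfixn : ∀ j : ℕ, proj K t ^ j * proj K m * (proj K t ^ j)⁻¹ = proj K m := by
        intro j
        induction j with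
        | zero => simp
        | succ j ih =>
          calc proj K t ^ (j + 1) * proj K m * (proj K t ^ (j + 1))⁻¹
              = proj K t * (proj K t ^ j * proj K m * (proj K t ^ j)⁻¹) * (proj K t)⁻¹ := by
                rw [pow_succ']; group
            _ = proj K m := by rw [ih, hfix]
      have hsub : ∀ y ∈ centre (Qb : Subgroup (↥K ⧸ center ↥K)), y = 1 ∨ y = proj K m := by
        intro y hy
        refine or_iff_not_imp_left.2 fun hy1 => ?_
        obtain ⟨j, hj⟩ := ht1 (proj K m) m.2 y hy hne hy1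
        rw [← hj, hfixn j]
      have h6 : Nat.card ↥(centre (Qb : Subgroup (↥K ⧸ center ↥K))) ≤ 2 := by
        classical
        refine (Nat.card_le_card_of_injective
          (fun y : ↥(centre (Qb : Subgroup (↥K ⧸ center ↥K))) =>
            if (y : ↥K ⧸ center ↥K) = 1 then (0 : Fin 2) else 1) fun a b hab => ?_).trans_eq
          (Nat.card_fin 2)
        rcases hsub a a.2 with ha | ha <;> rcases hsub b b.2 with hb' | hb'
        · exact Subtype.ext (ha.trans hb'.symm)
        · simp only at hab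
          rw [if_pos ha, if_neg (fun e => hne (hb'.symm.trans e))] at hab
          exact absurd hab (by decide)
        · simp only at hab
          rw [if_pos hb', if_neg (fun e => hne (ha.symm.trans e))] at hab
          exact absurd hab (by decide)
        · exact Subtype.ext (ha.trans hb'.symm)
      rw [h.facts.card_centre] at h6
      omega
    have hδ1 : δ m = 1 := by
      show t * (m : ↥K) * t⁻¹ * (m : ↥K)⁻¹ = 1
      rw [mem_center_iff.1 hm1 t, mul_inv_cancel_right, mul_inv_cancel]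
    rw [hδ1, one_mul] at hab
    exact hab ▸ hb
  by_contra hne
  let f : ↥(center ↥K) → ↥(center ↥K) := fun z => ⟨(z : ↥K) * z, (center ↥K).mul_mem z.2 z.2⟩
  have hsurj : Function.Surjective f := fun z => by
    obtain ⟨e, he⟩ := hcenN z z.2
    exact ⟨e, Subtype.ext he⟩
  have hinj : Function.Injective f := Finite.injective_iff_surjective.2 hsurj
  haveI : Nontrivial ↥(center ↥K) := (nontrivial_iff_ne_bot _).2 hne
  obtain ⟨n, hn, hcard'⟩ := h.two_center.nontrivial_iff_card.1 inferInstance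
  obtain ⟨z, hz⟩ := exists_prime_orderOf_dvd_card' 2 (hcard' ▸ dvd_pow_self 2 hn.ne')
  have h1 : f z = f 1 := Subtype.ext (by
    have := congrArg Subtype.val (pow_orderOf_eq_one z)
    rw [hz, pow_two] at this
    simpa [f] using this)
  rw [hinj h1, orderOf_one] at hz
  omega

omit hcen hmem in
/-- The component is a simple Suzuki group with a Sylow subgroup centralising `A`. -/
theorem main (hC : centralizer (A : Set G) ≤ normalizer (K : Set G)) :
    center ↥K = ⊥ ∧ SzFacts ↥K q ∧ ∃ Q : Subgroup G, Q ≤ K ∧ IsPGroup 2 ↥Q ∧ Nat.card ↥Q = q ^ 2 ∧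
      centre Q = A ⊓ K ∧ Q ≤ centralizer (A : Set G) ∧ (∀ x ∈ Q, x * x ∈ A ⊓ K) ∧
      (∀ x ∈ Q, x * x = 1 → x ∈ A ⊓ K) ∧ centralizer (A : Set G) ≤ normalizer (Q : Set G) ∧
      Nat.card ↥(A ⊓ K : Subgroup G) = q ∧ (A ⊓ K) ⊓ fixer A K = ⊥ ∧
      ∃ t ∈ K, t ∈ normalizer (A : Set G) ∧ t ∈ centralizer (fixer A K : Set G) ∧
        ∀ x ∈ A ⊓ K, ∀ y ∈ A ⊓ K, x ≠ 1 → y ≠ 1 → ∃ k : ℕ, t ^ k * x * (t ^ k)⁻¹ = y := by
  obtain ⟨Qb, hcen, hmem⟩ := h.exists_sylow
  have hbot := h.center_eq_bot hcen hmem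
  have hinj : Function.Injective (proj K) := by
    rw [← MonoidHom.ker_eq_bot_iff, QuotientGroup.ker_mk', hbot]
  let e : ↥K ≃* ↥K ⧸ center ↥K :=
    MulEquiv.ofBijective (proj K) ⟨hinj, QuotientGroup.mk'_surjective _⟩
  -- membership in the centre
  have hz : ∀ k : ↥K, proj K k ∈ centre (Qb : Subgroup (↥K ⧸ center ↥K)) ↔ (k : G) ∈ A := by
    intro k
    rw [hcen, aImage, mem_map_iff_mem hinj, mem_subgroupOf]
  obtain ⟨t, htA, -, ht1, -⟩ := h.exists_torus hcen hmem
  refine ⟨hbot, h.facts.congr e.symm, hat Qb, map_subtype_le _, h.isPGroup_hat, ?_, ?_,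
    h.hat_le_centralizer hcen hmem, ?_, ?_, h.norm_hat hmem hC, ?_, ?_, t, t.2, htA, ?_, ?_⟩
  · rw [hat, card_map_of_injective K.subtype_injective, ← h.facts.card_sylow Qb,
      ← card_map_of_injective hinj, map_comap_eq_self_of_surjective (QuotientGroup.mk'_surjective _)]
  · ext x
    constructor
    · rintro ⟨⟨k, hk, rfl⟩, hx⟩
      refine ⟨(hz k).1 ⟨hk, mem_centralizer_iff.2 fun g hg => ?_⟩, k.2⟩
      obtain ⟨g, rfl⟩ := QuotientGroup.mk'_surjective (center ↥K) g
      rw [← map_mul, ← map_mul]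
      exact congrArg _ (Subtype.ext (mem_centralizer_iff.1 hx g ⟨g, hg, rfl⟩))
    · rintro ⟨hxA, hxK⟩
      have h1 := (hz ⟨x, hxK⟩).2 hxA
      exact ⟨⟨⟨x, hxK⟩, h1.1, rfl⟩, mem_centralizer_iff.2 fun g hg =>
        (mem_centralizer_iff.1 (h.hat_le_centralizer hcen hmem hg) x hxA).symm⟩
  · rintro _ ⟨k, hk, rfl⟩
    refine ⟨(hz (k * k)).1 (by rw [map_mul]; exact h.facts.sq Qb _ hk), K.mul_mem k.2 k.2⟩
  · rintro _ ⟨k, hk, rfl⟩ hk2
    refine ⟨(hz k).1 ((h.facts.omega Qb _ hk).1 ?_), k.2⟩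
    rw [← map_mul, show k * k = 1 from Subtype.ext hk2, map_one]
  · rw [← h.card_aImage, card_map_of_injective hinj, ← inf_subgroupOf_right A K]
    exact (Nat.card_congr (subgroupOfEquivOfLe inf_le_right).toEquiv).symm
  · refine (Subgroup.eq_bot_iff_forall _).2 fun x hx => ?_
    have h1 : (⟨x, hx.1.2⟩ : ↥K) ∈ center ↥K := mem_center_subgroup.2 hx.2.2
    rw [hbot, mem_bot] at h1
    exact congrArg Subtype.val h1
  · exact mem_centralizer_iff.2 fun f hf => (mem_centralizer_iff.1 hf.2 _ t.2).symm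
  · rintro x ⟨hxA, hxK⟩ y ⟨hyA, hyK⟩ hx1 hy1
    obtain ⟨k, hk⟩ := ht1 _ ((hz ⟨x, hxK⟩).2 hxA) _ ((hz ⟨y, hyK⟩).2 hyA)
      (fun hh => hx1 (congrArg Subtype.val (hinj (hh.trans (map_one _).symm))))
      (fun hh => hy1 (congrArg Subtype.val (hinj (hh.trans (map_one _).symm))))
    rw [← map_pow, ← map_inv, ← map_mul, ← map_mul] at hk
    exact ⟨k, by simpa using congrArg Subtype.val (hinj hk)⟩

end CoreHyp

end Core

end Cfsg.Agent.Goldschmidt.ThreePrime
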