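import Cfsg.Agent.Lib.Goldschmidt.ThreePrime.Defs
import Cfsg.Agent.Lib.ThreePrimeSimple.Main
import Cfsg.Agent.Lib.ThreePrimeSimple.FixedPointFree
import Cfsg.Agent.Lib.MaxOrders.Main
import Cfsg.Agent.S2791

/-!
# The simple groups of order prime to three, from the minimal configuration (owner: helper60)

* `exists_minimal` : a strongly closed abelian subgroup contains one on which `N(A)` acts irreducibly
* `threePrimeClass_of` : if every `Ctx` has a strongly embedded subgroup, then `MaxOrders.ThreePrimeClass`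
* `isSuzuki_of` : the statement of S0336; `fixedPointFree_of` : the statement of S3040
-/

set_option autoImplicit false

namespace Cfsg.Agent.Goldschmidt.ThreePrime

open Cfsg Subgroup

universe u

/-- Every minimal configuration has a strongly embedded subgroup. -/
def CtxEmbedded : Prop :=
  ∀ (G : Type u) [Group G] [Finite G] (S : Sylow 2 G) (A : Subgroup G),
    Ctx G S A → HasStronglyEmbedded G

theorem exists_minimal {G : Type u} [Group G] [Finite G] (S : Sylow 2 G) {A : Subgroup G} (hne : A ≠ ⊥)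
    (hel : Cfsg.IsElementaryAbelian 2 A) (hsc : Cfsg.IsStronglyClosed A (S : Subgroup G)) :
    ∃ B : Subgroup G, B ≤ (S : Subgroup G) ∧ B ≠ ⊥ ∧ Cfsg.IsElementaryAbelian 2 B ∧
      Cfsg.IsStronglyClosed B (S : Subgroup G) ∧
      ∀ C : Subgroup G, C ≤ B → normalizer (B : Set G) ≤ normalizer (C : Set G) → C = ⊥ ∨ C = B := by
  haveI : Fact (Nat.Prime 2) := ⟨Nat.prime_two⟩
  obtain ⟨B, ⟨hBA, hB, hBN⟩, hmin⟩ := wellFounded_lt.has_min
    {B : Subgroup G | B ≤ A ∧ B ≠ ⊥ ∧ normalizer (A : Set G) ≤ normalizer (B : Set G)}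
    ⟨A, le_rfl, hne, le_rfl⟩
  refine ⟨B, hBA.trans hsc.1, hB, ⟨?_, fun b hb => hel.2 b (hBA hb)⟩, ⟨hBA.trans hsc.1, ?_⟩, ?_⟩
  · exact ⟨⟨fun x y => Subtype.ext
      (congrArg Subtype.val (hel.1.is_comm.comm ⟨x, hBA x.2⟩ ⟨y, hBA y.2⟩) :)⟩⟩
  · intro b hb g hg
    have hbS : b ∈ (S : Subgroup G) := hsc.1 (hBA hb)
    obtain ⟨n, hn, he⟩ := S2791.exists_agree S hel.1 hsc (Nat.card (S : Subgroup G))
      (Subgroup.zpowers b) (Nat.le_add_right _ _) (Subgroup.zpowers_le.2 hbS) g (by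
        rintro _ ⟨x, hx, rfl⟩
        obtain ⟨k, rfl⟩ := Subgroup.mem_zpowers_iff.1 hx
        show MulAut.conj g (b ^ k) ∈ _
        rw [map_zpow]
        exact zpow_mem hg k)
    rw [he b (Subgroup.mem_zpowers b)]
    exact (Subgroup.mem_normalizer_iff.1 (hBN hn) b).1 hb
  · intro C hC hCN
    rcases eq_or_ne C ⊥ with hC0 | hC0
    · exact Or.inl hC0
    · refine Or.inr (le_antisymm hC (le_of_eq ?_))
      by_contra hne'
      exact hmin C ⟨hC.trans hBA, hC0, hBN.trans hCN⟩ (lt_of_le_of_ne hC (Ne.symm hne'))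

theorem step_of (hse : CtxEmbedded.{u}) : ThreePrimeSimple.Step.{u} := by
  intro G _ _ hs hna h3 hsmall S A hne hel hsc _
  obtain ⟨B, hBS, hB, hBel, hBsc, hBirr⟩ := exists_minimal S hne hel hsc
  refine hse G S B ⟨hs, hna, h3, fun H hH K N _ hKs hKna => ?_, hBS, hB, hBel, hBsc, hBirr⟩
  have hdvd : Nat.card (↥K ⧸ N) ∣ Nat.card H :=
    (Subgroup.card_quotient_dvd_card N).trans (card_subgroup_dvd_card K)
  refine hsmall _ hKs (fun h => hKna.elim fun a ⟨b, hab⟩ => hab (h.is_comm.comm a b))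
    (hdvd.trans (card_subgroup_dvd_card H)) (lt_of_le_of_lt (Nat.le_of_dvd Nat.card_pos hdvd) ?_)
  exact lt_of_le_of_ne (Subgroup.card_le_card_group H) fun e => hH (Subgroup.eq_top_of_card_eq H e)

/-- The simple groups of order prime to three are the Suzuki groups. -/
theorem threePrimeClass_of (hse : CtxEmbedded.{u}) : MaxOrders.ThreePrimeClass.{u} :=
  fun G _ _ _ hna h3 => ThreePrimeSimple.classify' (step_of hse) G hna h3

/-- S0336. -/
theorem isSuzuki_of (hse : CtxEmbedded.{u}) {G : Type u} [Group G] [Finite G] [IsSimpleGroup G]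
    (hna : ∃ a b : G, a * b ≠ b * a) (h3 : ¬ 3 ∣ Nat.card G) : Cfsg.IsSuzuki G :=
  ThreePrimeSimple.isSuzuki (step_of hse) G hna h3

/-- S3040. -/
theorem fixedPointFree_of (hse : CtxEmbedded.{u}) {G : Type u} [Group G] [Finite G]
    (h3 : ¬ 3 ∣ Nat.card G) (Sig : Subgroup (MulAut G))
    (hS3 : Nonempty (↥Sig ≃* Equiv.Perm (Fin 3))) (hfpf : ∀ g : G, (∀ σ ∈ Sig, σ g = g) → g = 1) :
    Group.IsSolvable G ∧ ¬ 2 ∣ (Cfsg.pPrimePCore 2 G).index ∧ ∀ σ ∈ Sig, orderOf σ = 3 →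
      Cfsg.pPrimePCore 2 G ⊔ Subgroup.closure {g : G | σ g = g} = ⊤ :=
  ThreePrimeSimple.solvable_of_fpf_symmetric_three (fun X _ _ _ hna hX => threePrimeClass_of hse X hna hX)
    h3 Sig hS3 hfpf

end Cfsg.Agent.Goldschmidt.ThreePrime
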