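import Cfsg.Agent.Lib.Goldschmidt.ThreePrime.Setup
import Cfsg.Agent.Lib.Components.Basic

/-!
# Two blocks (owner: helper29)

* `Block.conj` : `N(A)` permutes the blocks
* `BlockData.act` : a 2-element centralising `A` acts on a block as an element of its Sylow subgroup
* `pair_cases` : two blocks with disjoint fixers have mutually centralised centres, or equal centres
* `eq_or_commute_of_fixed` : blocks with a common fixed member are equal or commute
-/

set_option autoImplicit false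
set_option linter.unusedSectionVars false
set_option linter.style.haveILetI false

namespace Cfsg.Agent.Goldschmidt.ThreePrime

open Cfsg Subgroup Cfsg.Agent.Components
open scoped commutatorElement

universe u

variable {G : Type u} [Group G] {A K L Q U : Subgroup G} {q r : ℕ}

/-- `N(A)` permutes the blocks. -/
theorem Block.conj (hK : Block A K) {n : G} (hn : n ∈ normalizer (A : Set G)) :
    Block A (K.map (MulAut.conj n).toMonoidHom) := by
  obtain ⟨a, ha, ha1, hKa, hcomp, hne⟩ := hK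
  have hmem : ∀ x : G, x ∈ centralizer ({a} : Set G) ↔
      n * x * n⁻¹ ∈ centralizer ({n * a * n⁻¹} : Set G) := fun x => by
    rw [mem_centralizer_singleton_iff, mem_centralizer_singleton_iff]
    constructor
    · intro h
      calc n * x * n⁻¹ * (n * a * n⁻¹) = n * (x * a) * n⁻¹ := by group
        _ = n * (a * x) * n⁻¹ := by rw [h]
        _ = n * a * n⁻¹ * (n * x * n⁻¹) := by group
    · intro h
      calc x * a = n⁻¹ * (n * x * n⁻¹ * (n * a * n⁻¹)) * n := by group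
        _ = n⁻¹ * (n * a * n⁻¹ * (n * x * n⁻¹)) * n := by rw [h]
        _ = a * x := by group
  let e : ↥(centralizer ({a} : Set G)) ≃* ↥(centralizer ({n * a * n⁻¹} : Set G)) :=
    { toFun := fun x => ⟨n * x * n⁻¹, (hmem x).1 x.2⟩
      invFun := fun y => ⟨n⁻¹ * y * n, (hmem _).2 (by
        rw [show n * (n⁻¹ * (y : G) * n) * n⁻¹ = y by group]; exact y.2)⟩
      left_inv := fun x => Subtype.ext (by simp [mul_assoc])
      right_inv := fun y => Subtype.ext (by simp [mul_assoc])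
      map_mul' := fun x y => Subtype.ext (by simp [mul_assoc]) }
  refine ⟨n * a * n⁻¹, (mem_normalizer_iff.1 hn a).1 ha, fun h => ha1 (by simpa using h), ?_, ?_, ?_⟩
  · rintro _ ⟨k, hk, rfl⟩
    exact (hmem k).1 (hKa hk)
  · have he : (K.subgroupOf (centralizer ({a} : Set G))).map e.toMonoidHom =
        (K.map (MulAut.conj n).toMonoidHom).subgroupOf (centralizer ({n * a * n⁻¹} : Set G)) := by
      ext y
      constructor
      · rintro ⟨x, hx, rfl⟩
        exact ⟨x, hx, rfl⟩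
      · rintro ⟨k, hk, hky⟩
        exact ⟨⟨k, hKa hk⟩, hk, Subtype.ext hky⟩
    exact he ▸ IsComponent.map_equiv e hcomp
  · intro h
    refine hne fun k hk => mem_centralizer_iff.2 fun b hb => ?_
    have h1 := mem_centralizer_iff.1 (h ⟨k, hk, rfl⟩) (n * b * n⁻¹) ((mem_normalizer_iff.1 hn b).1 hb)
    change n * b * n⁻¹ * (n * k * n⁻¹) = n * k * n⁻¹ * (n * b * n⁻¹) at h1
    calc b * k = n⁻¹ * (n * b * n⁻¹ * (n * k * n⁻¹)) * n := by group
      _ = n⁻¹ * (n * k * n⁻¹ * (n * b * n⁻¹)) * n := by rw [h1]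
      _ = k * b := by group

namespace BlockData

variable [Finite G] (D : BlockData A K Q q)
include D

theorem exp : ∃ k : ℕ, 1 ≤ k ∧ q = 2 ^ (2 * k + 1) := D.facts.pow

theorem eight_le : 8 ≤ q := by
  obtain ⟨k, hk, rfl⟩ := D.exp
  exact (show 2 ^ 3 ≤ 2 ^ (2 * k + 1) from Nat.pow_le_pow_right (by norm_num) (by omega))

theorem centre_ne_bot : A ⊓ K ≠ ⊥ := fun h => by
  have := D.eight_le
  rw [← D.card, h, card_bot] at this
  omega

/-- A non-trivial element of `A ∩ K` has centraliser `Q` in `K`. -/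
theorem exists_sylow {z : G} (hz : z ∈ A ⊓ K) (hz1 : z ≠ 1) :
    ∃ P : Sylow 2 ↥K, (P : Subgroup ↥K) = Q.subgroupOf K ∧
      centralizer ({(⟨z, hz.2⟩ : ↥K)} : Set ↥K) = (P : Subgroup ↥K) := by
  have hzQ : z ∈ centre Q := D.centre_eq.symm ▸ hz
  have hle : Q.subgroupOf K ≤ centralizer ({(⟨z, hz.2⟩ : ↥K)} : Set ↥K) := fun x hx =>
    mem_centralizer_singleton_iff.2 (Subtype.ext (mem_centralizer_iff.1 hzQ.2 (x : G) hx))
  have hcard : Nat.card ↥(Q.subgroupOf K) = q ^ 2 := by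
    rw [Nat.card_congr (subgroupOfEquivOfLe D.le).toEquiv, D.card_sylow]
  obtain ⟨P₀, hP₀⟩ := (D.two.comap_of_injective K.subtype K.subtype_injective :
    IsPGroup 2 ↥(Q.subgroupOf K)).exists_le_sylow
  have heq : Q.subgroupOf K = (P₀ : Subgroup ↥K) :=
    Subgroup.eq_of_le_of_card_ge hP₀ (by rw [hcard, D.facts.card_sylow])
  have hzP : (⟨z, hz.2⟩ : ↥K) ∈ centre (P₀ : Subgroup ↥K) := by
    rw [← heq]
    exact ⟨hzQ.1, mem_centralizer_iff.2 fun x hx => Subtype.ext (mem_centralizer_iff.1 hzQ.2 (x : G) hx)⟩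
  have hzz : z * z = 1 := congrArg Subtype.val ((D.facts.omega P₀ _ hzP.1).2 hzP)
  have hord : orderOf (⟨z, hz.2⟩ : ↥K) = 2 :=
    orderOf_eq_prime (by rw [pow_two]; exact Subtype.ext hzz) fun h => hz1 (congrArg Subtype.val h)
  obtain ⟨P, hP⟩ := D.facts.cent _ hord
  refine ⟨P, (Subgroup.eq_of_le_of_card_ge (hP ▸ hle) ?_).symm, hP⟩
  rw [Nat.card_congr (subgroupOfEquivOfLe D.le).toEquiv, D.card_sylow, D.facts.card_sylow]

/-- The Sylow subgroup `Q` of `K`. -/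
theorem exists_sylow_eq : ∃ P : Sylow 2 ↥K, (P : Subgroup ↥K) = Q.subgroupOf K := by
  obtain ⟨z, hz, hz1⟩ := (bot_or_exists_ne_one _).resolve_left D.centre_ne_bot
  obtain ⟨P, hP, -⟩ := D.exists_sylow hz hz1
  exact ⟨P, hP⟩

theorem mem_of_mem_centre {P : Sylow 2 ↥K} (hP : (P : Subgroup ↥K) = Q.subgroupOf K) {x : ↥K}
    (hx : x ∈ centre (P : Subgroup ↥K)) : (x : G) ∈ A ⊓ K :=
  D.omega _ (show x ∈ Q.subgroupOf K from hP ▸ hx.1) (congrArg Subtype.val ((D.facts.omega P x hx.1).2 hx))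

theorem mem_centre_of_mem {P : Sylow 2 ↥K} (hP : (P : Subgroup ↥K) = Q.subgroupOf K) {x : ↥K}
    (hx : (x : G) ∈ A ⊓ K) : x ∈ centre (P : Subgroup ↥K) := by
  have h : (x : G) ∈ centre Q := D.centre_eq.symm ▸ hx
  rw [hP]
  exact ⟨h.1, mem_centralizer_iff.2 fun y hy => Subtype.ext (mem_centralizer_iff.1 h.2 (y : G) hy)⟩

theorem centre_sq {x : G} (hx : x ∈ A ⊓ K) : x * x = 1 := by
  obtain ⟨P, hP⟩ := D.exists_sylow_eq
  have h := D.mem_centre_of_mem hP (x := ⟨x, hx.2⟩) hx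
  exact congrArg Subtype.val ((D.facts.omega P _ h.1).2 h)

theorem le_sylow : A ⊓ K ≤ Q := fun x hx => (show x ∈ centre Q from D.centre_eq.symm ▸ hx).1

/-- An element of `K` centralising a non-trivial element of `A ∩ K` lies in `Q`. -/
theorem mem_of_centralizes {z s : G} (hz : z ∈ A ⊓ K) (hz1 : z ≠ 1) (hs : s ∈ K)
    (hsz : s * z = z * s) : s ∈ Q := by
  obtain ⟨P, hP, hPc⟩ := D.exists_sylow hz hz1
  have : (⟨s, hs⟩ : ↥K) ∈ (P : Subgroup ↥K) := hPc ▸ mem_centralizer_singleton_iff.2 (Subtype.ext hsz)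
  rw [hP] at this
  exact this

/-- A 2-element centralising `A` acts on `K` as an element of `Q`. -/
theorem act {u : G} (hu : u ∈ centralizer (A : Set G)) (hu2 : ∃ k : ℕ, u ^ 2 ^ k = 1) :
    ∃ s ∈ Q, ∀ x ∈ K, u * x * u⁻¹ = s * x * s⁻¹ := by
  have hn := D.norm hu
  let α : MulAut ↥K :=
    { toFun := fun x => ⟨u * x * u⁻¹, (mem_normalizer_iff.1 hn x).1 x.2⟩
      invFun := fun x => ⟨u⁻¹ * x * u, (mem_normalizer_iff.1 hn _).2 (by
        rw [show u * (u⁻¹ * (x : G) * u) * u⁻¹ = x by group]; exact x.2)⟩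
      left_inv := fun x => Subtype.ext (by simp [mul_assoc])
      right_inv := fun x => Subtype.ext (by simp [mul_assoc])
      map_mul' := fun x y => Subtype.ext (by simp [mul_assoc]) }
  have hpow : ∀ (j : ℕ) (x : ↥K), ((α ^ j) x : G) = u ^ j * x * (u ^ j)⁻¹ := by
    intro j
    induction j with
    | zero => intro x; simp
    | succ j ih =>
      intro x
      rw [pow_succ', MulAut.mul_apply, pow_succ']
      show u * ((α ^ j) x : G) * u⁻¹ = _
      rw [ih]; group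
  obtain ⟨k, hk⟩ := hu2
  obtain ⟨s, hs⟩ := D.facts.inner α ⟨k, MulEquiv.ext fun x => Subtype.ext (by rw [hpow, hk]; simp)⟩
  have hval : ∀ x : ↥K, u * x * u⁻¹ = s * (x : G) * (s : G)⁻¹ := fun x =>
    congrArg Subtype.val (DFunLike.congr_fun hs x)
  obtain ⟨z, hz, hz1⟩ := (bot_or_exists_ne_one _).resolve_left D.centre_ne_bot
  refine ⟨s, D.mem_of_centralizes hz hz1 s.2 ?_, fun x hx => hval ⟨x, hx⟩⟩
  have h1 := hval ⟨z, hz.2⟩
  rw [show u * z * u⁻¹ = z by rw [← mem_centralizer_iff.1 hu z hz.1, mul_inv_cancel_right]] at h1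
  exact (eq_mul_inv_iff_mul_eq.1 h1).symm

theorem pow_two_eq {u : G} (hu : u ∈ Q) : ∃ k : ℕ, u ^ 2 ^ k = 1 := by
  obtain ⟨k, hk⟩ := D.two ⟨u, hu⟩
  exact ⟨k, congrArg Subtype.val hk⟩

/-- Every non-trivial element of `A ∩ K` is a square in `Q`. -/
theorem exists_sq {z : G} (hz : z ∈ A ⊓ K) (hz1 : z ≠ 1) : ∃ u ∈ Q, u * u = z := by
  obtain ⟨u₀, hu₀, hne⟩ : ∃ u ∈ Q, u * u ≠ 1 := by
    by_contra hall
    push Not at hall
    have hle : Q ≤ A ⊓ K := fun x hx => D.omega x hx (hall x hx)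
    have h1 := Subgroup.card_le_of_le hle
    rw [D.card_sylow, D.card] at h1
    have := D.eight_le
    nlinarith
  obtain ⟨h, hK, hA, -, htr⟩ := D.torus
  obtain ⟨j, hj⟩ := htr _ (D.sq u₀ hu₀) z hz hne hz1
  have hgK : h ^ j ∈ K := pow_mem hK j
  have hgA : h ^ j ∈ normalizer (A : Set G) := pow_mem hA j
  refine ⟨h ^ j * u₀ * (h ^ j)⁻¹, ?_, by rw [← hj]; group⟩
  refine D.mem_of_centralizes hz hz1 (mul_mem (mul_mem hgK (D.le hu₀)) (inv_mem hgK)) ?_
  rw [← hj]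
  group

/-- The torus element, normalising `A ∩ K`. -/
theorem torus' : ∃ h : G, h ∈ normalizer (A : Set G) ∧ (∀ x ∈ A ⊓ K, h * x * h⁻¹ ∈ A ⊓ K) ∧
    (∀ f ∈ fixer A K, h * f * h⁻¹ = f) ∧
    ∀ x ∈ A ⊓ K, ∀ y ∈ A ⊓ K, x ≠ 1 → y ≠ 1 → ∃ k : ℕ, h ^ k * x * (h ^ k)⁻¹ = y := by
  obtain ⟨h, hK, hA, hP, htr⟩ := D.torus
  refine ⟨h, hA, fun x hx => ⟨(mem_normalizer_iff.1 hA x).1 hx.1,
    K.mul_mem (K.mul_mem hK hx.2) (K.inv_mem hK)⟩, fun f hf => ?_, htr⟩
  rw [← mem_centralizer_iff.1 hP f hf, mul_inv_cancel_right]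

end BlockData

variable [Finite G]

/-- Blocks with a common fixed member are equal or commute. -/
theorem eq_or_commute_of_fixed (D : BlockData A K Q q) (E : BlockData A L U r) {f : G}
    (hfK : f ∈ fixer A K) (hfL : f ∈ fixer A L) (hf1 : f ≠ 1) :
    K = L ∨ K ≤ centralizer (L : Set G) := by
  have hKf : K ≤ centralizer ({f} : Set G) := fun x hx =>
    mem_centralizer_singleton_iff.2 (mem_centralizer_iff.1 hfK.2 x hx)
  have hLf : L ≤ centralizer ({f} : Set G) := fun x hx =>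
    mem_centralizer_singleton_iff.2 (mem_centralizer_iff.1 hfL.2 x hx)
  by_cases he : K.subgroupOf (centralizer ({f} : Set G)) = L.subgroupOf (centralizer ({f} : Set G))
  · left
    rw [← map_subgroupOf_eq_of_le hKf, he, map_subgroupOf_eq_of_le hLf]
  · right
    intro x hx
    refine mem_centralizer_iff.2 fun y hy => ?_
    have h1 := IsComponent.commutator_eq_bot (D.everywhere f hfK hf1) (E.everywhere f hfL hf1) he
    let x' : ↥(centralizer ({f} : Set G)) := ⟨x, hKf hx⟩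
    let y' : ↥(centralizer ({f} : Set G)) := ⟨y, hLf hy⟩
    have h2 : ⁅x', y'⁆ ∈ (⊥ : Subgroup ↥(centralizer ({f} : Set G))) := h1 ▸
      commutator_mem_commutator (show x' ∈ K.subgroupOf _ from hx) (show y' ∈ L.subgroupOf _ from hy)
    exact (congrArg Subtype.val (commutatorElement_eq_one_iff_commute.1 (mem_bot.1 h2)).eq).symm

theorem centre_le_fixer_of_commute (E : BlockData A L U r) (h : K ≤ centralizer (L : Set G)) :
    A ⊓ L ≤ fixer A K := fun x hx =>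
  ⟨hx.1, mem_centralizer_iff.2 fun k hk => (mem_centralizer_iff.1 (h hk) x hx.2).symm⟩

/-- Either the Sylow subgroup of the second block acts centrally on the first, and then its centre is
fixed, or the two centres share a hyperplane. -/
theorem side (D : BlockData A K Q q) (E : BlockData A L U r) :
    A ⊓ L ≤ fixer A K ∨ q ≤ 2 * Nat.card ↥((A ⊓ K) ⊓ (A ⊓ L) : Subgroup G) := by
  obtain ⟨P, hP⟩ := D.exists_sylow_eq
  by_cases hall : ∀ u ∈ U, ∃ s ∈ A ⊓ K, ∀ x ∈ K, u * x * u⁻¹ = s * x * s⁻¹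
  · left
    intro z hz
    refine ⟨hz.1, ?_⟩
    by_cases hz1 : z = 1
    · exact hz1 ▸ one_mem _
    obtain ⟨u, hu, rfl⟩ := E.exists_sq hz hz1
    obtain ⟨s, hs, hsu⟩ := hall u hu
    refine mem_centralizer_iff.2 fun x hx => ?_
    have h2 : u * u * x * (u * u)⁻¹ = x := by
      calc u * u * x * (u * u)⁻¹ = u * (u * x * u⁻¹) * u⁻¹ := by group
        _ = u * (s * x * s⁻¹) * u⁻¹ := by rw [hsu x hx]
        _ = s * (s * x * s⁻¹) * s⁻¹ := hsu _ (mul_mem (mul_mem hs.2 hx) (inv_mem hs.2))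
        _ = (s * s) * x * (s * s)⁻¹ := by group
        _ = x := by rw [D.centre_sq hs]; group
    exact (mul_inv_eq_iff_eq_mul.1 h2).symm
  · right
    push Not at hall
    obtain ⟨u, hu, hns⟩ := hall
    obtain ⟨s, hs, hsu⟩ := D.act (E.cent hu) (E.pow_two_eq hu)
    have hsZ : (⟨s, D.le hs⟩ : ↥K) ∉ centre (P : Subgroup ↥K) := fun h => by
      obtain ⟨x, hx, hne⟩ := hns s (D.mem_of_mem_centre hP h)
      exact hne (hsu x hx)
    have hsP : (⟨s, D.le hs⟩ : ↥K) ∈ P := show _ ∈ (P : Subgroup ↥K) from hP ▸ hs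
    refine (D.facts.comm_half P _ hsP hsZ).trans (Nat.mul_le_mul_left 2 ?_)
    refine Nat.card_le_card_of_injective (fun c => ⟨((c : ↥K) : G), ?_⟩) fun c c' h =>
      Subtype.ext (Subtype.ext (congrArg Subtype.val h :))
    obtain ⟨x, hx, hc⟩ := c.2
    have hcK : ((c : ↥K) : G) ∈ A ⊓ K := D.mem_of_mem_centre hP (hc ▸ D.facts.comm P x hx _ hsP)
    refine ⟨hcK, E.omega _ ?_ (D.centre_sq hcK)⟩
    have hxQ : (x : G) ∈ Q := show x ∈ Q.subgroupOf K from hP ▸ hx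
    have e : ((c : ↥K) : G) = (x : G) * u * (x : G)⁻¹ * u⁻¹ := by
      rw [hc]
      show (x : G) * s * (x : G)⁻¹ * s⁻¹ = _
      rw [mul_assoc ((x : G) * s), mul_assoc ((x : G) * u), mul_assoc (x : G) s, mul_assoc (x : G) u]
      congr 1
      rw [← mul_assoc s, ← mul_assoc u, hsu _ (inv_mem x.2)]
    rw [e]
    exact mul_mem ((mem_normalizer_iff.1 (E.norm_sylow (D.cent hxQ)) u).1 hu) (inv_mem hu)

theorem three_dvd_two_mul_sub_one {k : ℕ} : 3 ∣ 2 * 2 ^ (2 * k + 1) - 1 := by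
  have h : 2 * 2 ^ (2 * k + 1) = 4 ^ (k + 1) := by
    rw [show (4 : ℕ) = 2 ^ 2 by norm_num, ← pow_mul, ← pow_succ']
    ring_nf
  have h4 : 4 ^ (k + 1) % 3 = 1 := by simp [Nat.pow_mod]
  omega

/-- If the centres share a hyperplane, the second centre lies in the first times a line of the fixer. -/
theorem exists_line (hsq : ∀ a ∈ A, a * a = 1) (D : BlockData A K Q q) (E : BlockData A L U r)
    (hD : 2 * Nat.card ↥((A ⊓ K) ⊓ (A ⊓ L) : Subgroup G) = r) :
    ∃ p ∈ fixer A K, p ≠ 1 ∧ p * p = 1 ∧ p ∈ (A ⊓ K) ⊔ (A ⊓ L) ∧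
      (A ⊓ L) ≤ (A ⊓ K) ⊔ zpowers p := by
  set H := (A ⊓ K) ⊓ (A ⊓ L) with hH
  have hidx : (H.subgroupOf (A ⊓ L)).index = 2 := by
    have h1 := (H.subgroupOf (A ⊓ L)).card_mul_index
    rw [Nat.card_congr (subgroupOfEquivOfLe (inf_le_right : H ≤ A ⊓ L)).toEquiv, E.card] at h1
    have : 0 < Nat.card ↥H := Nat.card_pos
    nlinarith
  obtain ⟨w, hwL, hwH⟩ : ∃ w ∈ A ⊓ L, w ∉ H := by
    by_contra hc
    push Not at hc
    have : H.subgroupOf (A ⊓ L) = ⊤ := eq_top_iff.2 fun x _ => hc x x.2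
    rw [this, index_top] at hidx
    omega
  have hwA : w ∈ (A ⊓ K) ⊔ fixer A K := D.sup.symm ▸ hwL.1
  have hcomm : ∀ x ∈ fixer A K, x ∈ normalizer ((A ⊓ K : Subgroup G) : Set G) := fun x hx => by
    refine centralizer_le_normalizer _ (mem_centralizer_iff.2 fun y hy => ?_)
    exact mem_centralizer_iff.1 hx.2 y hy.2
  rw [← SetLike.mem_coe, coe_mul_of_right_le_normalizer_left (A ⊓ K) (fixer A K) hcomm] at hwA
  obtain ⟨z, hz, p, hp, hzp⟩ := hwA
  replace hzp : z * p = w := hzp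
  refine ⟨p, hp, ?_, hsq p hp.1, ?_, fun x hx => ?_⟩
  · rintro rfl
    rw [mul_one] at hzp
    exact hwH ⟨hzp ▸ hz, hwL⟩
  · rw [show p = z⁻¹ * w by rw [← hzp]; group]
    exact mul_mem (mem_sup_left (inv_mem hz)) (mem_sup_right hwL)
  · have hw' : w ∈ (A ⊓ K) ⊔ zpowers p := hzp ▸ mul_mem (mem_sup_left hz) (mem_sup_right (mem_zpowers p))
    by_cases hxH : x ∈ H
    · exact mem_sup_left hxH.1
    · have h2 := (Subgroup.mul_mem_iff_of_index_two hidx (a := (⟨w⁻¹, inv_mem hwL⟩ : ↥(A ⊓ L : Subgroup G)))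
        (b := ⟨x, hx⟩)).2 ⟨fun h => absurd (show w⁻¹ ∈ H from h) (fun h' => hwH (by simpa using inv_mem h')),
          fun h => absurd (show x ∈ H from h) hxH⟩
      rw [show x = w * (w⁻¹ * x) by group]
      exact mul_mem hw' (mem_sup_left (show w⁻¹ * x ∈ H from h2).1)

/-- Two centres cannot share a hyperplane. -/
theorem hyperplane_false (hsq : ∀ a ∈ A, a * a = 1) (h3 : ¬ 3 ∣ Nat.card G) (D : BlockData A K Q q)
    (E : BlockData A L U q) (hdisj : fixer A K ⊓ fixer A L = ⊥)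
    (hD : 2 * Nat.card ↥((A ⊓ K) ⊓ (A ⊓ L) : Subgroup G) = q) : False := by
  classical
  have hD' : 2 * Nat.card ↥((A ⊓ L) ⊓ (A ⊓ K) : Subgroup G) = q := by rw [inf_comm]; exact hD
  obtain ⟨p, hp, hp1, hp2, hpW, hL⟩ := exists_line hsq D E hD
  obtain ⟨p', hp', hp1', hp2', hpW', hK⟩ := exists_line hsq E D hD'
  set W := (A ⊓ K) ⊔ (A ⊓ L) with hW
  have hW1 : W = (A ⊓ K) ⊔ zpowers p :=
    le_antisymm (sup_le le_sup_left hL) (sup_le le_sup_left (zpowers_le.2 hpW))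
  have hW2 : W = (A ⊓ L) ⊔ zpowers p' :=
    le_antisymm (sup_le hK le_sup_left) (sup_le le_sup_right (zpowers_le.2 (by
      rw [sup_comm] at hpW'; exact hpW')))
  -- elements of `W`
  have helem : ∀ {M : Subgroup G} {t : G}, M ≤ A → t ∈ A → t * t = 1 → ∀ x ∈ M ⊔ zpowers t,
      x ∈ M ∨ ∃ z ∈ M, x = t * z := by
    intro M t hM ht ht2 x hx
    have hc : ∀ m ∈ M, m * t = t * m := fun m hm => by
      have ha := hsq m (hM hm)
      have hb := hsq _ (mul_mem (hM hm) ht)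
      calc m * t = (m * t)⁻¹ := eq_inv_of_mul_eq_one_left hb
        _ = t * m := by rw [mul_inv_rev, inv_eq_of_mul_eq_one_right ha, inv_eq_of_mul_eq_one_right ht2]
    let R : Subgroup G :=
      { carrier := {y | y ∈ M ∨ ∃ z ∈ M, y = t * z}
        one_mem' := Or.inl M.one_mem
        mul_mem' := by
          rintro a b (ha | ⟨a', ha', rfl⟩) (hb | ⟨b', hb', rfl⟩)
          · exact Or.inl (mul_mem ha hb)
          · exact Or.inr ⟨a * b', mul_mem ha hb', by rw [← mul_assoc, hc a ha, mul_assoc]⟩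
          · exact Or.inr ⟨a' * b, mul_mem ha' hb, by rw [mul_assoc]⟩
          · refine Or.inl ?_
            rw [show t * a' * (t * b') = t * (a' * t) * b' by group, hc a' ha', ← mul_assoc, ht2, one_mul]
            exact mul_mem ha' hb'
        inv_mem' := by
          rintro a (ha | ⟨a', ha', rfl⟩)
          · exact Or.inl (inv_mem ha)
          · refine Or.inr ⟨a'⁻¹, inv_mem ha', ?_⟩
            rw [mul_inv_rev, inv_eq_of_mul_eq_one_right ht2, hc _ (inv_mem ha')] }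
    exact (sup_le (show M ≤ R from fun m hm => Or.inl hm)
      (zpowers_le.2 (show t ∈ R from Or.inr ⟨1, M.one_mem, (mul_one t).symm⟩))) hx
  obtain ⟨h, hhA, hhZ, hhf, hht⟩ := D.torus'
  obtain ⟨h', hhA', hhZ', hhf', hht'⟩ := E.torus'
  set Γ := closure ({h, h'} : Set G) with hΓ
  have hhΓ : h ∈ Γ := subset_closure (by simp)
  have hhΓ' : h' ∈ Γ := subset_closure (by simp)
  -- `Γ` normalises `W`
  have hnorm : ∀ {g : G} {M : Subgroup G} {t : G}, (∀ x ∈ M, g * x * g⁻¹ ∈ M) → g * t * g⁻¹ = t →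
      ∀ x ∈ M ⊔ zpowers t, g * x * g⁻¹ ∈ M ⊔ zpowers t := by
    intro g M t hM ht x hx
    have : M ⊔ zpowers t ≤ (M ⊔ zpowers t).comap (MulAut.conj g).toMonoidHom :=
      sup_le (fun m hm => mem_sup_left (hM m hm))
        (zpowers_le.2 (show g * t * g⁻¹ ∈ M ⊔ zpowers t from by rw [ht]; exact mem_sup_right (mem_zpowers t)))
    exact this hx
  letI act : MulAction ↥Γ G := MulAction.compHom G ((MulAut.conj : G →* MulAut G).comp Γ.subtype)
  have hsmul : ∀ (g : ↥Γ) (x : G), g • x = (g : G) * x * (g : G)⁻¹ := fun _ _ => rfl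
  obtain ⟨z₀, hz₀, hz₀1⟩ := (bot_or_exists_ne_one _).resolve_left
    (show (A ⊓ K) ⊓ (A ⊓ L) ≠ ⊥ from fun h0 => by
      have := D.eight_le
      rw [h0, card_bot] at hD
      omega)
  set O := MulAction.orbit ↥Γ z₀ with hO
  have hgen : ∀ g ∈ Γ, ∀ x ∈ O, g * x * g⁻¹ ∈ O := by
    intro g hg x hx
    obtain ⟨γ, rfl⟩ := hx
    exact ⟨⟨g, hg⟩ * γ, by simp [hsmul, mul_assoc]⟩
  have hOW : ∀ x ∈ O, x ∈ W ∧ x ≠ 1 := by
    rintro _ ⟨γ, rfl⟩
    refine ⟨?_, fun e => hz₀1 (by simpa [hsmul] using e)⟩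
    have hN : Γ ≤ normalizer (W : Set G) := by
      refine (closure_le _).2 ?_
      have key : ∀ g : G, (∀ x ∈ W, g * x * g⁻¹ ∈ W) → g ∈ normalizer (W : Set G) := by
        intro g hg
        let f : W → W := fun x => ⟨_, hg x x.2⟩
        have hf : Function.Injective f := fun a b e => Subtype.ext
          (mul_left_cancel (mul_right_cancel (congrArg Subtype.val e)))
        refine mem_normalizer_iff.2 fun x => ⟨hg x, fun hx => ?_⟩
        obtain ⟨a, ha⟩ := (Finite.injective_iff_surjective.1 hf) ⟨_, hx⟩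
        exact (mul_left_cancel (mul_right_cancel (congrArg Subtype.val ha)) : (a : G) = x) ▸ a.2
      rintro g (rfl | rfl)
      · exact key _ fun x hx => by rw [hW1] at hx ⊢; exact hnorm hhZ (hhf p hp) x hx
      · exact key _ fun x hx => by rw [hW2] at hx ⊢; exact hnorm hhZ' (hhf' p' hp') x hx
    show (γ : G) * z₀ * (γ : G)⁻¹ ∈ W
    exact (mem_normalizer_iff.1 (hN γ.2) z₀).1 (mem_sup_left hz₀.1)
  have hz₀O : z₀ ∈ O := MulAction.mem_orbit_self z₀
  have hKO : ∀ x ∈ A ⊓ K, x ≠ 1 → x ∈ O := fun x hx hx1 => by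
    obtain ⟨j, rfl⟩ := hht z₀ hz₀.1 x hx hz₀1 hx1
    exact hgen _ (pow_mem hhΓ j) _ hz₀O
  have hLO : ∀ x ∈ A ⊓ L, x ≠ 1 → x ∈ O := fun x hx hx1 => by
    obtain ⟨j, rfl⟩ := hht' z₀ hz₀.2 x hx hz₀1 hx1
    exact hgen _ (pow_mem hhΓ' j) _ hz₀O
  -- everything but `p` is in the orbit
  have key : ∀ {M N : Subgroup G} {t g : G}, M ≤ A → t ∈ A → t * t = 1 → g ∈ Γ → g * t * g⁻¹ = t →
      (∀ x ∈ M, ∀ y ∈ M, x ≠ 1 → y ≠ 1 → ∃ k : ℕ, g ^ k * x * (g ^ k)⁻¹ = y) →
      (∀ x ∈ M, x ≠ 1 → x ∈ O) → (∀ x ∈ N, x ≠ 1 → x ∈ O) → W = M ⊔ zpowers t →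
      N ≤ W → 2 * Nat.card ↥(M ⊓ N : Subgroup G) = q → Nat.card ↥N = q →
      ∀ x ∈ W, x ≠ 1 → x ≠ t → x ∈ O := by
    intro M N t g hM ht ht2 hg hgt htr hMO hNO hWeq hNW hMN hN x hx hx1 hxt
    obtain ⟨w, hwN, hwM, hwt⟩ : ∃ w ∈ N, w ∉ M ∧ w ≠ t := by
      by_contra hc
      push Not at hc
      have hfin : (N : Set G) ⊆ ((M ⊓ N : Subgroup G) : Set G) ∪ {t} := fun y hy => by
        by_cases hyM : y ∈ M
        · exact Or.inl ⟨hyM, hy⟩
        · exact Or.inr (hc y hy hyM)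
      have h1 := Set.ncard_le_ncard hfin (Set.toFinite _)
      have h2 := Set.ncard_union_le ((M ⊓ N : Subgroup G) : Set G) {t}
      rw [Set.ncard_singleton] at h2
      rw [← Nat.card_coe_set_eq, ← Nat.card_coe_set_eq] at h1 h2
      have e1 : Nat.card ↥((N : Set G)) = q := hN
      have e2 : Nat.card ↥(((M ⊓ N : Subgroup G) : Set G)) = Nat.card ↥(M ⊓ N : Subgroup G) := rfl
      have := D.eight_le
      omega
    rcases helem hM ht ht2 w (hWeq ▸ hNW hwN) with h | ⟨z, hz, rfl⟩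
    · exact absurd h hwM
    have hz1 : z ≠ 1 := fun e => hwt (by rw [e, mul_one])
    rcases helem hM ht ht2 x (hWeq ▸ hx) with h | ⟨y, hy, rfl⟩
    · exact hMO x h hx1
    have hy1 : y ≠ 1 := fun e => hxt (by rw [e, mul_one])
    obtain ⟨j, hj⟩ := htr z hz y hy hz1 hy1
    have hgj : g ^ j * t * (g ^ j)⁻¹ = t := by
      have : Commute g t := (mul_inv_eq_iff_eq_mul.1 hgt)
      rw [((this.pow_left j)).eq, mul_inv_cancel_right]
    have hne : t * z ≠ 1 := fun e => hwM (e ▸ M.one_mem)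
    have := hgen _ (pow_mem hg j) _ (hNO _ hwN hne)
    rwa [show g ^ j * (t * z) * (g ^ j)⁻¹ = (g ^ j * t * (g ^ j)⁻¹) * (g ^ j * z * (g ^ j)⁻¹) by group,
      hgj, hj] at this
  have hpp : p ≠ p' := fun e => hp1 (mem_bot.1 (hdisj ▸ ⟨hp, e.symm ▸ hp'⟩))
  have hall : ∀ x ∈ W, x ≠ 1 → x ∈ O := by
    intro x hx hx1
    by_cases hxp : x = p
    · subst hxp
      exact key inf_le_left hp'.1 hp2' hhΓ' (hhf' p' hp') hht' hLO hKO hW2 le_sup_left
        (by rw [inf_comm (A ⊓ L)]; exact hD) D.card x hx hx1 hpp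
    · exact key inf_le_left hp.1 hp2 hhΓ (hhf p hp) hht hKO hLO hW1 le_sup_right hD E.card x hx hx1 hxp
  -- the orbit has `2 q - 1` elements
  have hOeq : O = (W : Set G) \ {1} := Set.ext fun x =>
    ⟨fun hx => ⟨(hOW x hx).1, (hOW x hx).2⟩, fun hx => hall x hx.1 hx.2⟩
  have hcardW : Nat.card ↥W = 2 * q := by
    have hpK : p ∉ A ⊓ K := fun hc => hp1 (mem_bot.1 (D.inf ▸ ⟨hc, hp⟩))
    let f : Bool × ↥(A ⊓ K : Subgroup G) → ↥W := fun x => ⟨(if x.1 then p else 1) * (x.2 : G),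
      mul_mem (by split
                  · exact hpW
                  · exact one_mem _) (mem_sup_left x.2.2)⟩
    have hf : Function.Bijective f := by
      constructor
      · rintro ⟨b, x⟩ ⟨b', x'⟩ e
        have e' := congrArg Subtype.val e
        cases b <;> cases b' <;> simp [f] at e'
        · exact Prod.ext rfl (Subtype.ext (congrArg Subtype.val e'))
        · exact absurd (eq_mul_inv_of_mul_eq e'.symm ▸ mul_mem x.2 (inv_mem x'.2)) hpK
        · exact absurd (eq_mul_inv_of_mul_eq e' ▸ mul_mem x'.2 (inv_mem x.2)) hpK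
        · exact Prod.ext rfl e'
      · rintro ⟨y, hy⟩
        rw [hW1] at hy
        rcases helem inf_le_left hp.1 hp2 y hy with h | ⟨z, hz, rfl⟩
        · exact ⟨(false, ⟨y, h⟩), Subtype.ext (one_mul _)⟩
        · exact ⟨(true, ⟨z, hz⟩), rfl⟩
    rw [← Nat.card_eq_of_bijective f hf, Nat.card_prod, D.card]
    simp
  have hcardO : Nat.card ↥O = 2 * q - 1 := by
    rw [hOeq, Nat.card_coe_set_eq, Set.ncard_sdiff_singleton_of_mem (one_mem W), ← Nat.card_coe_set_eq]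
    rw [show Nat.card ↥(W : Set G) = Nat.card ↥W from rfl, hcardW]
  have hdvd : Nat.card ↥O ∣ Nat.card ↥Γ := ⟨Nat.card ↥(MulAction.stabilizer ↥Γ z₀), by
    rw [← Nat.card_prod]; exact Nat.card_congr (MulAction.orbitProdStabilizerEquivGroup ↥Γ z₀).symm⟩
  obtain ⟨k, -, hq⟩ := D.exp
  exact h3 (((hq ▸ three_dvd_two_mul_sub_one (k := k)) : 3 ∣ 2 * q - 1).trans
    ((hcardO ▸ hdvd).trans (card_subgroup_dvd_card Γ)))

/-- Two blocks with disjoint fixers have mutually fixed centres, or equal centres. -/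
theorem pair_cases (hsq : ∀ a ∈ A, a * a = 1) (h3 : ¬ 3 ∣ Nat.card G) (D : BlockData A K Q q)
    (E : BlockData A L U r) (hdisj : fixer A K ⊓ fixer A L = ⊥) :
    (A ⊓ L ≤ fixer A K ∧ A ⊓ K ≤ fixer A L) ∨ A ⊓ K = A ⊓ L := by
  set H := (A ⊓ K) ⊓ (A ⊓ L) with hH
  have hH' : (A ⊓ L) ⊓ (A ⊓ K) = H := inf_comm _ _
  obtain ⟨k, hk, hq⟩ := D.exp
  obtain ⟨l, hl, hr⟩ := E.exp
  have hbot : ∀ {M N : Subgroup G}, A ⊓ N ≤ fixer A M → (A ⊓ M) ⊓ fixer A M = ⊥ →
      (A ⊓ M) ⊓ (A ⊓ N) = ⊥ := fun h h' => eq_bot_iff.2 (h' ▸ inf_le_inf_left _ h)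
  rcases side D E with h1 | h1 <;> rcases side E D with h2 | h2
  · exact Or.inl ⟨h1, h2⟩
  · rw [hH', hH, hbot h1 D.inf, card_bot] at h2
    have := E.eight_le
    omega
  · rw [← hH, ← hH', hbot h2 E.inf, card_bot] at h1
    have := D.eight_le
    omega
  rw [hH'] at h2
  rw [← hH] at h1
  right
  have hd1 : Nat.card ↥H ∣ q := D.card ▸ card_dvd_of_le inf_le_left
  have hd2 : Nat.card ↥H ∣ r := E.card ▸ card_dvd_of_le inf_le_right
  rw [hq] at hd1
  rw [hr] at hd2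
  obtain ⟨i, hi, hHi⟩ := (Nat.dvd_prime_pow Nat.prime_two).1 hd1
  have hil : i ≤ 2 * l + 1 := by
    rw [hHi] at hd2
    exact (Nat.pow_dvd_pow_iff_le_right (by norm_num)).1 hd2
  rw [hHi, hq, ← pow_succ'] at h1
  rw [hHi, hr, ← pow_succ'] at h2
  have h1' := (Nat.pow_le_pow_iff_right (by norm_num : 1 < 2)).1 h1
  have h2' := (Nat.pow_le_pow_iff_right (by norm_num : 1 < 2)).1 h2
  have hkl : k = l := by omega
  subst hkl
  have hqr : r = q := by rw [hq, hr]
  by_cases hfull : i = 2 * k + 1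
  · have hc : Nat.card ↥H = q := by rw [hHi, hfull, hq]
    have e1 : H = A ⊓ K := Subgroup.eq_of_le_of_card_ge inf_le_left (by rw [hc, D.card])
    have e2 : H = A ⊓ L := Subgroup.eq_of_le_of_card_ge inf_le_right (by rw [hc, E.card, hqr])
    exact e1.symm.trans e2
  · exfalso
    refine hyperplane_false hsq h3 D (hqr ▸ E) hdisj ?_
    rw [← hH, hHi, hq, ← pow_succ']
    congr 1
    omega

end Cfsg.Agent.Goldschmidt.ThreePrime
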