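import Cfsg.Agent.Lib.Goldschmidt.ThreePrime.BlockPairs
import Cfsg.Agent.Lib.Transfer.Focal
import Cfsg.Agent.S2791

/-!
# All cores trivial: a strongly embedded subgroup (owner: helper29)

* `Ctx.centralizer_le_of_blocks` : a subgroup containing `N(A)` and all blocks contains all `C(a)`
* `Ctx.se_of_le` : the criterion
* `pairwise_blocks` : distinct blocks have mutually fixed centres
* `se_of_coresTrivial` : the conclusion
-/

set_option autoImplicit false
set_option linter.unusedSectionVars false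
set_option linter.style.haveILetI false

namespace Cfsg.Agent.Goldschmidt.ThreePrime

open Cfsg Subgroup Cfsg.Agent.Components
open scoped commutatorElement

universe u

variable {G : Type u} [Group G] [Finite G] {S : Sylow 2 G} {A : Subgroup G}

/-- A proper subgroup containing the centralisers of the involutions of `A` gives a strongly embedded
subgroup. -/
theorem Ctx.se_of_le (C : Ctx G S A) (hC : Aschbacher.CoreFreeCriterion.{u}) {M : Subgroup G} (hM : M ≠ ⊤)
    (hle : ∀ a ∈ A, a ≠ 1 → centralizer ({a} : Set G) ≤ M) : HasStronglyEmbedded G := by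
  haveI := C.simple
  refine Aschbacher.criterion_strongly_closed hC S A C.ne C.closed (ne_top_of_le_ne_top hM ?_)
  refine iSup_le fun t => hle t t.2.1 fun h => ?_
  have := t.2.2
  rw [h, orderOf_one] at this
  omega

/-- A subgroup containing `N(A)` and all blocks contains all centralisers of members. -/
theorem Ctx.centralizer_le_of_blocks (C : Ctx G S A) (h : CoresTrivial A)
    (hloc : ∀ (X : Type u) [Group X] [Finite X] (T : Set X) (A : Subgroup X), Local X T A → LocalFacts A)
    {M : Subgroup G} (hN : normalizer (A : Set G) ≤ M) (hB : ∀ K : Subgroup G, Block A K → K ≤ M) :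
    ∀ a ∈ A, a ≠ 1 → centralizer ({a} : Set G) ≤ M := by
  intro a ha ha1
  set H := centralizer ({a} : Set G) with hH
  have hAH : A ≤ H := C.le_centralizer_of_mem ha
  have L := C.localSub (C.centralizer_ne_top ha1) hAH (h a ha ha1)
  have htop := (hloc _ _ _ L).decomp (M.subgroupOf H) ?_ fun K hK => ?_
  · intro x hx
    have : (⟨x, hx⟩ : ↥H) ∈ M.subgroupOf H := htop ▸ mem_top _
    exact mem_subgroupOf.1 this
  · intro n hn
    refine mem_subgroupOf.2 (hN ?_)
    refine mem_normalizer_iff.2 fun x => ⟨fun hx => ?_, fun hx => ?_⟩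
    · exact mem_subgroupOf.1 ((mem_normalizer_iff.1 hn ⟨x, hAH hx⟩).1 (mem_subgroupOf.2 hx))
    · have hxH : x ∈ H := by
        have h1 := H.mul_mem (H.mul_mem (H.inv_mem n.2) (hAH hx)) n.2
        simpa [mul_assoc] using h1
      exact mem_subgroupOf.1 ((mem_normalizer_iff.1 hn ⟨x, hxH⟩).2 (mem_subgroupOf.2 hx))
  · have hmap : Block A (K.map H.subtype) := by
      refine ⟨a, ha, ha1, map_subtype_le K, ?_, fun hc => hK.2 fun k hk => ?_⟩
      · rw [← comap_subtype, comap_map_eq_self_of_injective H.subtype_injective]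
        exact hK.1
      · exact mem_centralizer_iff.2 fun b hb =>
          Subtype.ext (mem_centralizer_iff.1 (hc ⟨k, hk, rfl⟩) (b : G) (mem_subgroupOf.1 hb))
    intro k hk
    exact mem_subgroupOf.2 (hB _ hmap ⟨k, hk, rfl⟩)

/-- Distinct blocks have mutually fixed centres. -/
theorem pairwise_blocks (C : Ctx G S A) (hbd : ∀ K, Block A K → ∃ Q q, BlockData A K Q q) {K L : Subgroup G}
    (hK : Block A K) (hL : Block A L) (hne : K ≠ L) : A ⊓ L ≤ fixer A K ∧ A ⊓ K ≤ fixer A L := by
  have hsq : ∀ a ∈ A, a * a = 1 := fun a => C.sq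
  -- distinct blocks: mutual, or equal centres
  have hpair : ∀ M N : Subgroup G, Block A M → Block A N → M ≠ N →
      (A ⊓ N ≤ fixer A M ∧ A ⊓ M ≤ fixer A N) ∨ A ⊓ M = A ⊓ N := by
    intro M N hM hN hMN
    obtain ⟨Q, q, D⟩ := hbd M hM
    obtain ⟨U, r, E⟩ := hbd N hN
    by_cases hd : fixer A M ⊓ fixer A N = ⊥
    · exact pair_cases hsq C.three D E hd
    · obtain ⟨f, hf, hf1⟩ := (bot_or_exists_ne_one _).resolve_left hd
      have hc := (eq_or_commute_of_fixed D E hf.1 hf.2 hf1).resolve_left hMN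
      exact Or.inl ⟨centre_le_fixer_of_commute E hc,
        centre_le_fixer_of_commute D fun x hx => mem_centralizer_iff.2 fun y hy =>
          (mem_centralizer_iff.1 (hc hy) x hx).symm⟩
  refine (hpair K L hK hL hne).resolve_right fun hZ => ?_
  obtain ⟨Q, q, D⟩ := hbd K hK
  obtain ⟨U, r, E⟩ := hbd L hL
  -- the other centres
  set O : Subgroup G := ⨆ M : {M : Subgroup G // Block A M ∧ A ⊓ M ≠ A ⊓ K}, A ⊓ (M : Subgroup G) with hO
  have hOK : O ≤ fixer A K := iSup_le fun M => by
    refine ((hpair K M hK M.2.1 fun e => M.2.2 (congrArg (A ⊓ ·) e).symm).resolve_right fun e => M.2.2 e.symm).1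
  have hOL : O ≤ fixer A L := iSup_le fun M => by
    exact ((hpair L M hL M.2.1 fun e => M.2.2 ((congrArg (A ⊓ ·) e).symm.trans hZ.symm)).resolve_right
      fun e => M.2.2 (e.symm.trans hZ.symm)).1
  have hOA : O ≤ A := hOK.trans inf_le_left
  have hspan : (A ⊓ K) ⊔ O = A := by
    set B := (A ⊓ K) ⊔ O with hB
    refine (C.irred B (sup_le inf_le_left hOA) fun n hn => ?_).resolve_left fun hb =>
      D.centre_ne_bot (eq_bot_iff.2 (hb ▸ le_sup_left))
    have hmem : ∀ M : Subgroup G, Block A M → A ⊓ M ≤ B := fun M hM => by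
      by_cases he : A ⊓ M = A ⊓ K
      · exact he ▸ le_sup_left
      · exact le_sup_of_le_right (le_iSup (fun M : {M : Subgroup G // Block A M ∧ A ⊓ M ≠ A ⊓ K} =>
          A ⊓ (M : Subgroup G)) ⟨M, hM, he⟩)
    have key : ∀ m ∈ normalizer (A : Set G), B ≤ B.comap (MulAut.conj m).toMonoidHom := by
      intro m hm
      have h1 : ∀ M : Subgroup G, Block A M → A ⊓ M ≤ B.comap (MulAut.conj m).toMonoidHom :=
        fun M hM x hx => hmem _ (hM.conj hm) ⟨(mem_normalizer_iff.1 hm x).1 hx.1, ⟨x, hx.2, rfl⟩⟩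
      exact sup_le (h1 K hK) (iSup_le fun M => h1 M M.2.1)
    refine mem_normalizer_iff.2 fun x => ⟨fun hx => key n hn hx, fun hx => ?_⟩
    have := key n⁻¹ (inv_mem hn) hx
    simpa [mul_assoc] using this
  have hsplit : ∀ {M : Subgroup G}, O ≤ fixer A M → A ⊓ M = A ⊓ K → (A ⊓ M) ⊓ fixer A M = ⊥ →
      fixer A M = O := by
    intro M hM heq hinf
    refine le_antisymm (fun x hx => ?_) hM
    have hx' : x ∈ (A ⊓ M) ⊔ O := by rw [heq, hspan]; exact hx.1
    have hc : O ≤ normalizer ((A ⊓ M : Subgroup G) : Set G) := fun o ho =>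
      centralizer_le_normalizer _ (mem_centralizer_iff.2 fun y hy => C.comm hy.1 (hM ho).1)
    rw [← SetLike.mem_coe, coe_mul_of_right_le_normalizer_left (A ⊓ M) O hc] at hx'
    obtain ⟨z, hz, o, ho, rfl⟩ := hx'
    have hz1 : z = 1 := mem_bot.1 (hinf ▸ ⟨hz, by
      rw [show z = z * o * o⁻¹ by group]; exact (fixer A M).mul_mem hx ((fixer A M).inv_mem (hM ho))⟩)
    show z * o ∈ O
    rw [hz1, one_mul]
    exact ho
  have e1 : fixer A K = O := hsplit hOK rfl D.inf
  have e2 : fixer A L = O := hsplit hOL hZ.symm E.inf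
  obtain ⟨f, hf, hf1⟩ := (bot_or_exists_ne_one _).resolve_left D.fixer_ne
  have hc := (eq_or_commute_of_fixed D E hf (by rw [e2, ← e1]; exact hf) hf1).resolve_left hne
  refine D.centre_ne_bot (eq_bot_iff.2 fun x hx => ?_)
  have hx' : x ∈ fixer A L := centre_le_fixer_of_commute D
    (fun y hy => mem_centralizer_iff.2 fun z hz => (mem_centralizer_iff.1 (hc hz) y hy).symm) hx
  exact D.inf ▸ ⟨hx, by rw [e1, ← e2]; exact hx'⟩

/-- With all cores trivial there is a strongly embedded subgroup. -/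
theorem se_of_coresTrivial (hC : Aschbacher.CoreFreeCriterion.{u})
    (hloc : ∀ (X : Type u) [Group X] [Finite X] (T : Set X) (A : Subgroup X), Local X T A → LocalFacts A)
    (C : Ctx G S A) (h : CoresTrivial A) (hbd : ∀ K, Block A K → ∃ Q q, BlockData A K Q q) :
    HasStronglyEmbedded G := by
  haveI : Fact (Nat.Prime 2) := ⟨Nat.prime_two⟩
  haveI := C.simple
  by_cases hall : ∀ K L : Subgroup G, Block A K → Block A L → K = L ∨ K ≤ centralizer (L : Set G)
  · -- the product of the blocks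
    set J : Subgroup G := ⨆ K : {K : Subgroup G // Block A K}, (K : Subgroup G) with hJ
    by_cases hnone : ∀ K : Subgroup G, ¬ Block A K
    · exact C.se_of_le hC C.normalizer_ne_top
        (C.centralizer_le_of_blocks h hloc le_rfl fun K hK => absurd hK (hnone K))
    push Not at hnone
    obtain ⟨K₀, hK₀⟩ := hnone
    have hNJ : normalizer (A : Set G) ≤ normalizer (J : Set G) := by
      have key : ∀ m ∈ normalizer (A : Set G), J ≤ J.comap (MulAut.conj m).toMonoidHom := fun m hm =>
        iSup_le fun K x hx => le_iSup (fun K : {K : Subgroup G // Block A K} => (K : Subgroup G))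
          ⟨_, K.2.conj hm⟩ ⟨x, hx, rfl⟩
      intro n hn
      refine mem_normalizer_iff.2 fun x => ⟨fun hx => key n hn hx, fun hx => ?_⟩
      have := key n⁻¹ (inv_mem hn) hx
      simpa [mul_assoc] using this
    have hKJ : ∀ K : Subgroup G, Block A K → K ≤ normalizer (J : Set G) := fun K hK =>
      le_trans (le_iSup (fun K : {K : Subgroup G // Block A K} => (K : Subgroup G)) ⟨K, hK⟩) le_normalizer
    refine C.se_of_le hC ?_ (C.centralizer_le_of_blocks h hloc hNJ hKJ)
    intro htop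
    obtain ⟨Q, q, D⟩ := hbd K₀ hK₀
    obtain ⟨z, hz, hz1⟩ := (bot_or_exists_ne_one _).resolve_left D.centre_ne_bot
    obtain ⟨a, ha, ha1, hKa, -, -⟩ := id hK₀
    rcases (normalizer_eq_top_iff.1 htop).eq_bot_or_eq_top with hb | ht
    · exact hz1 (mem_bot.1 (hb ▸ le_iSup (fun K : {K : Subgroup G // Block A K} => (K : Subgroup G))
        ⟨K₀, hK₀⟩ hz.2))
    · have hn : J ≤ normalizer (K₀ : Set G) := iSup_le fun L => by
        rcases hall L K₀ L.2 hK₀ with e | e
        · rw [e]; exact le_normalizer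
        · exact e.trans (centralizer_le_normalizer _)
      rcases (normalizer_eq_top_iff.1 (top_le_iff.1 (ht ▸ hn))).eq_bot_or_eq_top with hb | ht'
      · exact hz1 (mem_bot.1 (hb ▸ hz.2))
      · exact C.centralizer_ne_top ha1 (top_le_iff.1 (ht' ▸ hKa))
  -- two blocks with disjoint fixers
  exfalso
  push Not at hall
  obtain ⟨K, L, hK, hL, hne, hncomm⟩ := hall
  obtain ⟨Q, q, D⟩ := hbd K hK
  obtain ⟨U, r, E⟩ := hbd L hL
  have hdisj : fixer A K ⊓ fixer A L = ⊥ := by
    by_contra hd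
    obtain ⟨f, hf, hf1⟩ := (bot_or_exists_ne_one _).resolve_left hd
    exact hncomm ((eq_or_commute_of_fixed D E hf.1 hf.2 hf1).resolve_left hne)
  have honly : ∀ M : Subgroup G, Block A M → M = K ∨ M = L := by
    intro M hM
    by_contra hc
    push Not at hc
    obtain ⟨V, t, F⟩ := hbd M hM
    refine F.centre_ne_bot (eq_bot_iff.2 ?_)
    rw [← hdisj]
    exact le_inf (pairwise_blocks C hbd hK hM hc.1.symm).1 (pairwise_blocks C hbd hL hM hc.2.symm).1
  set N := normalizer (A : Set G) with hN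
  set N₀ := N ⊓ normalizer (K : Set G) with hN₀
  have hdich : ∀ n ∈ N, n ∈ N₀ ∨ K.map (MulAut.conj n).toMonoidHom = L := by
    intro n hn
    rcases honly _ (hK.conj hn) with e | e
    · refine Or.inl ⟨hn, mem_normalizer_iff.2 fun x => ⟨fun hx => e ▸ ⟨x, hx, rfl⟩, fun hx => ?_⟩⟩
      obtain ⟨y, hy, hye⟩ := e.symm.le hx
      exact (show y = x from mul_left_cancel (mul_right_cancel hye)) ▸ hy
    · exact Or.inr e
  -- some element swaps
  obtain ⟨t, htN, htK⟩ : ∃ t ∈ N, t ∉ N₀ := by
    by_contra hc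
    push Not at hc
    have hinv : normalizer (A : Set G) ≤ normalizer ((A ⊓ K : Subgroup G) : Set G) := fun n hn => by
      refine mem_normalizer_iff.2 fun x => ?_
      rw [mem_inf, mem_inf, mem_normalizer_iff.1 hn x, mem_normalizer_iff.1 (hc n hn).2 x]
    rcases C.irred (A ⊓ K) inf_le_left hinv with e | e
    · exact D.centre_ne_bot e
    · refine D.fixer_ne (eq_bot_iff.2 ?_)
      rw [← D.inf]
      exact le_inf (e.symm ▸ inf_le_left) le_rfl
  have hmapmap : ∀ a b : G, K.map (MulAut.conj (a * b)).toMonoidHom =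
      (K.map (MulAut.conj b).toMonoidHom).map (MulAut.conj a).toMonoidHom := fun a b => by
    rw [map_map]; congr 1; ext x; simp [mul_assoc]
  have hidx : ∀ n ∈ N, n ∉ N₀ → ∀ m ∈ N, m ∉ N₀ → n⁻¹ * m ∈ N₀ := by
    intro n hn hn0 m hm hm0
    have e1 := (hdich n hn).resolve_left hn0
    have e2 := (hdich m hm).resolve_left hm0
    refine (hdich _ (mul_mem (inv_mem hn) hm)).resolve_right fun e => hne ?_
    rw [← e, hmapmap, e2, ← e1, map_map]
    convert (K.map_id).symm using 2
    ext x; simp [mul_assoc]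
  have hidx2 : (N₀.subgroupOf N).index = 2 := by
    refine index_eq_two_iff.2 ⟨⟨t, htN⟩, fun b => ?_⟩
    by_cases hb : (b : G) ∈ N₀
    · refine Or.inr ⟨hb, fun hh => htK ?_⟩
      have := mul_mem (inv_mem hb) (show (b : G) * t ∈ N₀ from hh)
      rwa [inv_mul_cancel_left] at this
    · refine Or.inl ⟨?_, hb⟩
      have hb' : (b : G)⁻¹ ∉ N₀ := fun h => hb (by simpa using inv_mem h)
      have := hidx _ (inv_mem b.2) hb' t htN htK
      rw [inv_inv] at this
      exact this
  -- the focal subgroup lies in the commutator subgroup of `N`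
  have hSN : (S : Subgroup G) ≤ N := C.sylow_le_normalizer
  have hfus : ∀ x ∈ (S : Subgroup G), ∀ g : G, g * x * g⁻¹ ∈ (S : Subgroup G) →
      ∃ m ∈ N, m * x * m⁻¹ = g * x * g⁻¹ := by
    intro x hx g hg
    obtain ⟨m, hm, hag⟩ := S2791.exists_agree S C.elemAb.1 C.closed (Nat.card ↥(S : Subgroup G)) (zpowers x)
      (Nat.le_add_right _ _) (zpowers_le.2 hx) g (by
        rintro _ ⟨y, ⟨j, rfl⟩, rfl⟩
        show MulAut.conj g (x ^ j) ∈ (S : Subgroup G)
        rw [map_zpow]
        exact zpow_mem hg j)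
    exact ⟨m, hm, (hag x (mem_zpowers x)).symm⟩
  have hcomm := Transfer.commutator_inf_eq_of_control S N hSN hfus
  have hperf : commutator G = ⊤ := by
    refine (inferInstance : (commutator G).Normal).eq_bot_or_eq_top.resolve_left fun hb => ?_
    obtain ⟨a, b, hab⟩ := C.nonab
    refine hab (commutatorElement_eq_one_iff_commute.1 (mem_bot.1 (hb ▸ ?_))).eq
    exact commutator_mem_commutator (mem_top a) (mem_top b)
  rw [hperf, top_inf_eq] at hcomm
  have hNN : ⁅N, N⁆ ≤ N₀ := by
    haveI : (N₀.subgroupOf N).Normal := normal_of_index_eq_two hidx2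
    refine commutator_le.2 fun a ha b hb => ?_
    have h2 : ∀ x : ↥N, x * x ∈ N₀.subgroupOf N := fun x => mul_self_mem_of_index_two hidx2 x
    have := mul_mem (mul_mem (h2 (⟨a, ha⟩ * ⟨b, hb⟩))
      (inv_mem ((inferInstance : (N₀.subgroupOf N).Normal).conj_mem _ (h2 ⟨a, ha⟩) (⟨b, hb⟩⁻¹))))
      (inv_mem (h2 ⟨b, hb⟩))
    have e : ((⟨a, ha⟩ * ⟨b, hb⟩) * (⟨a, ha⟩ * ⟨b, hb⟩)) *
        ((⟨b, hb⟩ : ↥N)⁻¹ * ((⟨a, ha⟩ : ↥N) * ⟨a, ha⟩) * (⟨b, hb⟩ : ↥N)⁻¹⁻¹)⁻¹ * ((⟨b, hb⟩ : ↥N) * ⟨b, hb⟩)⁻¹
        = ⁅(⟨a, ha⟩ : ↥N), ⟨b, hb⟩⁆ := by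
      rw [commutatorElement_def]; group
    rw [e] at this
    exact this
  have hS0 : (S : Subgroup G).subgroupOf N ≤ N₀.subgroupOf N := fun x hx =>
    hNN (hcomm.le.trans inf_le_left hx)
  have hdvd := index_dvd_of_le hS0
  rw [hidx2] at hdvd
  exact (S.subtype hSN).not_dvd_index hdvd

end Cfsg.Agent.Goldschmidt.ThreePrime
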