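import Cfsg.Agent.Lib.Goldschmidt.ThreePrime.Setup
import Cfsg.Agent.Lib.Goldschmidt.ThreePrime.BlockCore

/-!
# Blocks when all cores are trivial (owner: helper44)

* `isComponent_restrict` : a component of `H` is a component of every subgroup between
* `le_sSup_fixed` : a perfect subgroup of a join of components centralised by `a` lies in the join of
  the components centralised by `a`, if the others have solvable fixed points
* `blockData` : the data of a block
-/

set_option autoImplicit false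
set_option linter.unusedSectionVars false
set_option linter.style.haveILetI false

namespace Cfsg.Agent.Goldschmidt.ThreePrime

open Cfsg Subgroup Cfsg.Agent.Components
open scoped commutatorElement

universe u

section General

variable {G : Type u} [Group G]

/-- A component of `H` is a component of every subgroup of `H` containing it. -/
theorem isComponent_restrict {H W K : Subgroup G} (hWH : W ≤ H) (hKW : K ≤ W)
    (h : Cfsg.IsComponent (K.subgroupOf H)) : Cfsg.IsComponent (K.subgroupOf W) := by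
  have h2 := IsComponent.map_equiv (subgroupOfEquivOfLe hWH)
    (IsComponent.subgroupOf h (H := W.subgroupOf H)
      fun x hx => mem_subgroupOf.2 (hKW (mem_subgroupOf.1 hx)))
  convert h2 using 1
  ext w
  constructor
  · intro hw
    exact ⟨⟨⟨w, hWH w.2⟩, w.2⟩, hw, rfl⟩
  · rintro ⟨v, hv, rfl⟩
    exact hv

variable [Finite G]

/-- If every component in `S` not centralised by `a` has solvable fixed points, a perfect subgroup
centralised by `a` in the join of `S` lies in the join of the members centralised by `a`. -/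
theorem le_sSup_fixed {a : G} {P : Subgroup G} (hP : ⁅P, P⁆ = P)
    (hPa : P ≤ centralizer ({a} : Set G)) {S : Set (Subgroup G)}
    (hS : ∀ L ∈ S, Cfsg.IsComponent L) (hnorm : ∀ L ∈ S, a ∈ normalizer (L : Set G))
    (hsol : ∀ L ∈ S, ¬ L ≤ centralizer ({a} : Set G) →
      Group.IsSolvable ↥(L ⊓ centralizer ({a} : Set G)))
    (hle : P ≤ sSup S) : P ≤ sSup {L ∈ S | L ≤ centralizer ({a} : Set G)} := by
  induction hn : S.ncard using Nat.strong_induction_on generalizing S with
  | _ n ih =>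
  subst hn
  by_cases hall : ∀ L ∈ S, L ≤ centralizer ({a} : Set G)
  · exact hle.trans (sSup_le fun L hL => le_sSup ⟨hL, hall L hL⟩)
  push Not at hall
  obtain ⟨L, hLS, hLa⟩ := hall
  set R : Subgroup G := sSup (S \ {L}) with hR
  have hLR : L ≤ centralizer (R : Set G) :=
    IsComponent.le_centralizer_sSup (hS L hLS) (fun K hK => hS K hK.1) fun h => h.2 rfl
  have hsplit : sSup S ≤ L ⊔ R := sSup_le fun K hK => by
    by_cases h : K = L
    · exact h ▸ le_sup_left
    · exact (le_sSup (show K ∈ S \ {L} from ⟨hK, h⟩)).trans le_sup_right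
  have hRa : ∀ r ∈ R, a * r * a⁻¹ ∈ R := by
    have h1 : R ≤ R.comap (MulAut.conj a).toMonoidHom := sSup_le fun K hK x hx =>
      (le_sSup (show K ∈ S \ {L} from hK) : K ≤ R) ((mem_normalizer_iff.1 (hnorm K hK.1) x).1 hx)
    exact fun r hr => h1 hr
  have hLa' : ∀ l ∈ L, a * l * a⁻¹ ∈ L := fun l hl => (mem_normalizer_iff.1 (hnorm L hLS) l).1 hl
  -- the elements of `L` fixed modulo its centre
  let Z : Subgroup G := L ⊓ centralizer (L : Set G)
  let D : Subgroup G :=
    { carrier := {l | l ∈ L ∧ a * l * a⁻¹ * l⁻¹ ∈ Z}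
      one_mem' := ⟨L.one_mem, by simp⟩
      mul_mem' := by
        rintro x y ⟨hx, hxz⟩ ⟨hy, hyz⟩
        refine ⟨L.mul_mem hx hy, ?_⟩
        have h1 : x * (a * y * a⁻¹ * y⁻¹) = a * y * a⁻¹ * y⁻¹ * x :=
          mem_centralizer_iff.1 hyz.2 x hx
        have e : a * (x * y) * a⁻¹ * (x * y)⁻¹ =
            (a * x * a⁻¹ * x⁻¹) * (x * (a * y * a⁻¹ * y⁻¹) * x⁻¹) := by group
        rw [e, h1, mul_inv_cancel_right]
        exact Z.mul_mem hxz hyz
      inv_mem' := by
        rintro x ⟨hx, hxz⟩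
        refine ⟨L.inv_mem hx, ?_⟩
        have h1 : x⁻¹ * (a * x * a⁻¹ * x⁻¹)⁻¹ = (a * x * a⁻¹ * x⁻¹)⁻¹ * x⁻¹ :=
          mem_centralizer_iff.1 (Z.inv_mem hxz).2 _ (L.inv_mem hx)
        have e : a * x⁻¹ * a⁻¹ * x⁻¹⁻¹ = x⁻¹ * (a * x * a⁻¹ * x⁻¹)⁻¹ * x := by group
        rw [e, h1, inv_mul_cancel_right]
        exact Z.inv_mem hxz }
  have hDL : D ≤ L := fun x hx => hx.1
  have hDsol : Group.IsSolvable ↥D := by
    let θ : ↥D →* ↥Z :=
      { toFun := fun l => ⟨a * (l : G) * a⁻¹ * (l : G)⁻¹, l.2.2⟩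
        map_one' := Subtype.ext (by simp)
        map_mul' := fun x y => Subtype.ext (by
          show a * ((x : G) * y) * a⁻¹ * ((x : G) * y)⁻¹ = _
          have h1 : (x : G) * (a * y * a⁻¹ * (y : G)⁻¹) = a * y * a⁻¹ * (y : G)⁻¹ * x :=
            mem_centralizer_iff.1 y.2.2.2 _ x.2.1
          have e : a * ((x : G) * y) * a⁻¹ * ((x : G) * y)⁻¹ =
              (a * x * a⁻¹ * (x : G)⁻¹) * ((x : G) * (a * y * a⁻¹ * (y : G)⁻¹) * (x : G)⁻¹) := by
            group
          rw [e, h1, mul_inv_cancel_right]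
          rfl) }
    haveI : Group.IsSolvable ↥Z := Group.isSolvable_of_comm fun x y =>
      Subtype.ext (mem_centralizer_iff.1 y.2.2 _ x.2.1)
    haveI := hsol L hLS hLa
    haveI : Group.IsSolvable ↥((L ⊓ centralizer ({a} : Set G)).subgroupOf D) :=
      Group.isSolvable_of_isSolvable_injective
        (f := (D.subtype.comp ((L ⊓ centralizer ({a} : Set G)).subgroupOf D).subtype).codRestrict
          (L ⊓ centralizer ({a} : Set G)) fun z => mem_subgroupOf.1 z.2)
        fun x y hxy => Subtype.ext (Subtype.ext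
          (congrArg (fun z : ↥(L ⊓ centralizer ({a} : Set G)) => (z : G)) hxy))
    refine Group.isSolvable_of_ker_le_range
      ((L ⊓ centralizer ({a} : Set G)).subgroupOf D).subtype θ ?_
    intro l hl
    refine ⟨⟨l, mem_subgroupOf.2 ⟨l.2.1, mem_centralizer_singleton_iff.2 ?_⟩⟩, rfl⟩
    exact (mul_inv_eq_iff_eq_mul.1 (mul_inv_eq_one.1 (congrArg Subtype.val hl))).symm
  have hPD : P ≤ D ⊔ R := by
    intro k hk
    obtain ⟨l, hl, r, hr, rfl⟩ := (Coprime.mem_sup_iff
      ((le_centralizer_iff.1 hLR).trans (centralizer_le_normalizer _))).1 (hsplit (hle hk))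
    refine mul_mem (mem_sup_left ⟨hl, ?_⟩) (mem_sup_right hr)
    have hcomm : a * (l * r) = l * r * a := (mem_centralizer_singleton_iff.1 (hPa hk)).symm
    set z := l⁻¹ * (a * l * a⁻¹) with hz
    have hzr : z = r * (a * r * a⁻¹)⁻¹ := by
      have e : a * l * a⁻¹ * (a * r * a⁻¹) = l * r := by
        calc a * l * a⁻¹ * (a * r * a⁻¹) = a * (l * r) * a⁻¹ := by group
          _ = l * r := by rw [hcomm, mul_inv_cancel_right]
      calc z = l⁻¹ * (a * l * a⁻¹ * (a * r * a⁻¹)) * (a * r * a⁻¹)⁻¹ := by rw [hz]; group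
        _ = r * (a * r * a⁻¹)⁻¹ := by rw [e]; group
    have hzL : z ∈ L := L.mul_mem (L.inv_mem hl) (hLa' l hl)
    have hzR : z ∈ R := hzr ▸ R.mul_mem hr (R.inv_mem (hRa r hr))
    have hzZ : z ∈ Z := ⟨hzL, (le_centralizer_iff.1 hLR) hzR⟩
    have e : a * l * a⁻¹ * l⁻¹ = l * z * l⁻¹ := by rw [hz]; group
    rw [e, mem_centralizer_iff.1 hzZ.2 l hl, mul_inv_cancel_right]
    exact hzZ
  -- the image of `P` is trivial
  have hPR : P ≤ R := by
    haveI hn : (R.subgroupOf (D ⊔ R)).Normal := normal_subgroupOf_of_le_normalizer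
      (sup_le (hDL.trans (hLR.trans (centralizer_le_normalizer _))) le_normalizer)
    set π := QuotientGroup.mk' (R.subgroupOf (D ⊔ R))
    haveI := hDsol
    have hsolQ : Group.IsSolvable (↥(D ⊔ R) ⧸ R.subgroupOf (D ⊔ R)) := by
      refine Group.isSolvable_of_surjective (f := π.comp (inclusion (le_sup_left : D ≤ D ⊔ R))) ?_
      intro x
      obtain ⟨⟨x, hx⟩, rfl⟩ := QuotientGroup.mk'_surjective _ x
      obtain ⟨d, hd, r, hr, rfl⟩ := (Coprime.mem_sup_iff
        (show R ≤ normalizer (D : Set G) from (le_centralizer_iff.1 (hDL.trans hLR)).trans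
          (centralizer_le_normalizer _))).1 hx
      refine ⟨⟨d, hd⟩, QuotientGroup.eq.2 (mem_subgroupOf.2 ?_)⟩
      simpa using hr
    set P' := P.subgroupOf (D ⊔ R)
    have hperf : ⁅P', P'⁆ = P' := by
      refine map_injective (D ⊔ R).subtype_injective ?_
      rw [map_commutator, map_subgroupOf_eq_of_le hPD, hP]
    have hperf2 : ⁅P'.map π, P'.map π⁆ = P'.map π := by rw [← map_commutator, hperf]
    haveI := hsolQ
    have hbot : P'.map π = ⊥ := by
      by_contra hne
      haveI : Nontrivial ↥(P'.map π) := (Subgroup.nontrivial_iff_ne_bot _).2 hne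
      refine (Group.IsSolvable.commutator_lt_top_of_nontrivial ↥(P'.map π)).ne ?_
      apply Subgroup.map_injective (P'.map π).subtype_injective
      rw [map_subtype_commutator, hperf2, ← MonoidHom.range_eq_map, range_subtype]
    intro x hx
    have h1 : π ⟨x, hPD hx⟩ ∈ P'.map π := ⟨⟨x, hPD hx⟩, hx, rfl⟩
    rw [hbot, mem_bot] at h1
    exact mem_subgroupOf.1 ((QuotientGroup.eq_one_iff _).1 h1)
  have hlt : (S \ {L}).ncard < S.ncard := Set.ncard_sdiff_singleton_lt_of_mem hLS (Set.toFinite S)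
  exact (ih _ hlt (fun K hK => hS K hK.1) (fun K hK => hnorm K hK.1) (fun K hK => hsol K hK.1) hPR rfl).trans
    (sSup_le_sSup fun K hK => ⟨hK.1.1, hK.2⟩)

end General

section Block

variable {G : Type u} [Group G] [Finite G] {S : Sylow 2 G} {A K : Subgroup G}

/-- Translation of `fixer`. -/
theorem fixer_map_subtype {H : Subgroup G} (hAH : A ≤ H) (hKH : K ≤ H) :
    (fixer (A.subgroupOf H) (K.subgroupOf H)).map H.subtype = fixer A K := by
  ext x
  constructor
  · rintro ⟨y, ⟨hyA, hyK⟩, rfl⟩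
    refine ⟨hyA, mem_centralizer_iff.2 fun k hk => ?_⟩
    exact congrArg Subtype.val (mem_centralizer_iff.1 hyK ⟨k, hKH hk⟩ hk)
  · rintro ⟨hxA, hxK⟩
    exact ⟨⟨x, hAH hxA⟩, ⟨hxA, mem_centralizer_iff.2 fun k hk =>
      Subtype.ext (mem_centralizer_iff.1 hxK k hk)⟩, rfl⟩

/-- The hypotheses of the core argument from the data in a local subgroup. -/
theorem coreHyp_of_compData (C : Ctx G S A) {H : Subgroup G} (hAH : A ≤ H) (hKH : K ≤ H)
    (hcomp : Cfsg.IsComponent (K.subgroupOf H)) {q : ℕ}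
    (D : CompData (A.subgroupOf H) (K.subgroupOf H) q) : CoreHyp A K q := by
  let e : ↥(K.subgroupOf H) ≃* ↥K := subgroupOfEquivOfLe hKH
  have hc : (center ↥(K.subgroupOf H)).map e.toMonoidHom = center ↥K := by
    ext k
    obtain ⟨y, rfl⟩ := e.surjective k
    rw [show e y = e.toMonoidHom y from rfl, mem_map_iff_mem e.injective, mem_center_iff,
      mem_center_iff]
    refine ⟨fun h g => ?_, fun h g => e.injective ?_⟩
    · obtain ⟨g, rfl⟩ := e.surjective g
      simpa using congrArg e (h g)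
    · simpa using h (e g)
  refine ⟨?_, D.facts.congr (QuotientGroup.congr _ _ e hc), ?_, ?_, ?_, ?_, C.elemAb, ?_, ?_⟩
  · haveI := ((isQuasisimple_congr e).1 hcomp.2).1
    exact Group.IsPerfect.commutator_eq_top
  · intro a ha
    refine Coprime.mem_normalizer_of_forall fun k hk => ?_
    exact (mem_normalizer_iff.1 (D.norm (show (⟨a, hAH ha⟩ : ↥H) ∈ A.subgroupOf H from ha))
      ⟨k, hKH hk⟩).1 hk
  · rw [← hc]
    exact D.two_center.map _
  · have h1 := congrArg (Subgroup.map H.subtype) D.sup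
    rw [Subgroup.map_sup, fixer_map_subtype hAH hKH, map_inf _ _ _ H.subtype_injective,
      map_subgroupOf_eq_of_le hAH, map_subgroupOf_eq_of_le hKH] at h1
    exact h1
  · rw [← fixer_map_subtype hAH hKH, card_map_of_injective H.subtype_injective, ← D.card]
    exact (Nat.card_congr (subgroupOfEquivOfLe hAH).toEquiv).symm
  · intro P hP hAP g a ha hgP
    refine C.mem_of_mem hP hAP hgP ⟨g⁻¹, ?_⟩
    rwa [show g⁻¹ * (g * a * g⁻¹) * g⁻¹⁻¹ = a by group]
  · exact fun B hB hc' hs => C.bound hB hc' hs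

theorem inf_not_le_centralizer {q : ℕ} (hcore : CoreHyp A K q)
    (hne : ¬ K ≤ centralizer (A : Set G)) : ¬ A ⊓ K ≤ centralizer (K : Set G) := fun hle =>
  hne (le_centralizer_iff.1 (hcore.sup.ge.trans (sup_le hle inf_le_right)))

/-- The centraliser of `A` normalises a block. -/
theorem centralizer_le_normalizer_block {a : G} (ha : a ∈ A) (hKH : K ≤ centralizer ({a} : Set G))
    (hcomp : Cfsg.IsComponent (K.subgroupOf (centralizer ({a} : Set G))))
    (hni : ¬ A ⊓ K ≤ centralizer (K : Set G)) :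
    centralizer (A : Set G) ≤ normalizer (K : Set G) := by
  intro g hg
  set H := centralizer ({a} : Set G)
  have hgH : g ∈ H := mem_centralizer_singleton_iff.2 (mem_centralizer_iff.1 hg a ha).symm
  set K' := K.subgroupOf H
  have hL : Cfsg.IsComponent (K'.map (MulAut.conj (⟨g, hgH⟩ : ↥H)).toMonoidHom) :=
    IsComponent.conj hcomp _
  by_cases hne : K'.map (MulAut.conj (⟨g, hgH⟩ : ↥H)).toMonoidHom = K'
  · refine Coprime.mem_normalizer_of_forall fun k hk => ?_
    have h1 : MulAut.conj (⟨g, hgH⟩ : ↥H) ⟨k, hKH hk⟩ ∈ K' := hne ▸ ⟨⟨k, hKH hk⟩, hk, rfl⟩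
    simpa [K', mem_subgroupOf] using h1
  · exfalso
    refine hni fun y hy => mem_centralizer_iff.2 fun k hk => ?_
    have hgy : g * y * g⁻¹ = y := by rw [← mem_centralizer_iff.1 hg y hy.1, mul_inv_cancel_right]
    have h1 : (⟨y, hKH hy.2⟩ : ↥H) ∈ K'.map (MulAut.conj (⟨g, hgH⟩ : ↥H)).toMonoidHom :=
      ⟨⟨y, hKH hy.2⟩, hy.2, Subtype.ext (by simpa using hgy)⟩
    have h2 : ⁅(⟨k, hKH hk⟩ : ↥H), (⟨y, hKH hy.2⟩ : ↥H)⁆ ∈ (⊥ : Subgroup ↥H) :=
      (IsComponent.commutator_eq_bot hcomp hL (Ne.symm hne)) ▸ commutator_mem_commutator hk h1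
    exact congrArg Subtype.val (commutatorElement_eq_one_iff_mul_comm.1 (mem_bot.1 h2))

/-- The data of a block. -/
theorem blockData (C : Ctx G S A)
    (hloc : ∀ (X : Type u) [Group X] [Finite X] (T : Set X) (A : Subgroup X),
      Local X T A → LocalFacts A)
    (h : CoresTrivial A) (hK : Block A K) : ∃ (Q : Subgroup G) (q : ℕ), BlockData A K Q q := by
  obtain ⟨a, ha, ha1, hKH, hcomp, hne⟩ := hK
  have hAa := C.le_centralizer_of_mem ha
  have hloc1 := hloc _ _ _ (C.localSub (C.centralizer_ne_top ha1) hAa (h a ha ha1))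
  obtain ⟨q, D⟩ := hloc1.data (K.subgroupOf (centralizer ({a} : Set G))) ⟨hcomp, fun hle => hne fun k hk =>
    mem_centralizer_iff.2 fun b hb => congrArg Subtype.val
      (mem_centralizer_iff.1 (hle (show (⟨k, hKH hk⟩ : ↥(centralizer ({a} : Set G))) ∈
        K.subgroupOf (centralizer ({a} : Set G)) from hk)) ⟨b, hAa hb⟩ hb)⟩
  have hcore := coreHyp_of_compData C hAa hKH hcomp D
  have hni := inf_not_le_centralizer hcore hne
  have hnorm := centralizer_le_normalizer_block ha hKH hcomp hni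
  obtain ⟨-, hfacts, Q, hQK, hQ2, hQcard, hQcen, hQA, hQsq, hQom, hQn, hcard, hinf, htorus⟩ :=
    hcore.main hnorm
  have hafix : a ∈ fixer A K :=
    ⟨ha, mem_centralizer_iff.2 fun k hk => mem_centralizer_singleton_iff.1 (hKH hk)⟩
  have hfix : fixer A K ≠ ⊥ := fun e => ha1 (mem_bot.1 (e ▸ hafix))
  refine ⟨Q, q, hfacts, hnorm, hinf, hcore.sup, hcard, hfix, hQK, hQ2, hQcard, hQcen, hQA, hQsq,
    hQom, hQn, htorus, fun f hf hf1 => ?_⟩
  -- `K` is a component of the centraliser of `f`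
  set Hf := centralizer ({f} : Set G) with hHf
  have hAf : A ≤ Hf := C.le_centralizer_of_mem hf.1
  have hKf : K ≤ Hf := fun k hk =>
    mem_centralizer_singleton_iff.2 (mem_centralizer_iff.1 hf.2 k hk)
  have hlocf := hloc _ _ _ (C.localSub (C.centralizer_ne_top hf1) hAf (h f hf.1 hf1))
  set A' := A.subgroupOf Hf with hA'
  set K' := K.subgroupOf Hf with hK'
  set af : ↥Hf := ⟨a, hAf ha⟩ with haf
  set 𝒮 : Set (Subgroup ↥Hf) := {L | Moved A' L} with h𝒮
  set J : Subgroup ↥Hf := sSup 𝒮 with hJ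
  have hJn : normalizer (A' : Set ↥Hf) ≤ normalizer (J : Set ↥Hf) := by
    intro n hn
    refine Coprime.mem_normalizer_of_forall ?_
    have h1 : J ≤ J.comap (MulAut.conj n).toMonoidHom := sSup_le fun L hL x hx =>
      (le_sSup (show L.map (MulAut.conj n).toMonoidHom ∈ 𝒮 from
        ⟨IsComponent.conj hL.1 n, fun hle => hL.2 fun l hl => mem_centralizer_iff.2 fun b hb => by
          have hb' : n * b * n⁻¹ ∈ A' := (mem_normalizer_iff.1 hn b).1 hb
          have h2 := mem_centralizer_iff.1 (hle ⟨l, hl, rfl⟩) _ hb'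
          simp only [MulEquiv.coe_toMonoidHom, MulAut.conj_apply] at h2
          calc b * l = n⁻¹ * (n * b * n⁻¹ * (n * l * n⁻¹)) * n := by group
            _ = n⁻¹ * (n * l * n⁻¹ * (n * b * n⁻¹)) * n := by rw [h2]
            _ = l * b := by group⟩) : L.map (MulAut.conj n).toMonoidHom ≤ J) ⟨x, hx, rfl⟩
    exact fun x hx => h1 hx
  have hMtop : normalizer (A' : Set ↥Hf) ⊔ J = ⊤ :=
    hlocf.decomp _ le_sup_left fun L hL => (le_sSup (show L ∈ 𝒮 from hL)).trans le_sup_right
  haveI hJnormal : J.Normal := normalizer_eq_top_iff.1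
    (top_le_iff.1 (hMtop.ge.trans (sup_le hJn le_normalizer)))
  set N : Subgroup ↥Hf := A' ⊔ J with hN
  haveI hNnormal : N.Normal := normalizer_eq_top_iff.1 (top_le_iff.1 (hMtop.ge.trans (sup_le
    (fun n hn => by
      refine Coprime.mem_normalizer_of_forall fun x hx => ?_
      have h1 : N ≤ N.comap (MulAut.conj n).toMonoidHom := sup_le
        (fun y hy => mem_sup_left ((mem_normalizer_iff.1 hn y).1 hy))
        (fun y hy => mem_sup_right (hJnormal.conj_mem y hy n))
      exact h1 hx)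
    (le_sup_right.trans le_normalizer))))
  let eK : ↥K' ≃* ↥K := subgroupOfEquivOfLe hKf
  have hqK' : Cfsg.IsQuasisimple ↥K' := (isQuasisimple_congr
    ((subgroupOfEquivOfLe hKH).trans eK.symm)).1 hcomp.2
  have hK'N : K' ≤ N := by
    rcases IsQuasisimple.normal_eq_top_or_le_center hqK' (N.comap K'.subtype) with htop | hcen
    · exact fun x hx => (htop.ge (mem_top (⟨x, hx⟩ : ↥K')) : _)
    · refine absurd (fun y hy => mem_centralizer_iff.2 fun k hk => ?_) hni
      have h1 : (⟨⟨y, hKf hy.2⟩, hy.2⟩ : ↥K') ∈ center ↥K' :=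
        hcen (show (⟨y, hKf hy.2⟩ : ↥Hf) ∈ N from mem_sup_left hy.1)
      exact congrArg (fun z : ↥K' => ((z : ↥Hf) : G))
        (mem_center_iff.1 h1 ⟨⟨k, hKf hk⟩, hk⟩)
  have hperf : ⁅K', K'⁆ = K' := by
    haveI := hqK'.1
    rw [← map_subtype_commutator, Group.IsPerfect.commutator_eq_top, ← MonoidHom.range_eq_map,
      range_subtype]
  have hK'J : K' ≤ J := by
    refine hperf.ge.trans ((commutator_mono hK'N hK'N).trans (commutator_le.2 fun x hx y hy => ?_))
    set π := QuotientGroup.mk' J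
    have hmem : ∀ z ∈ N, π z ∈ A'.map π := by
      intro z hz
      obtain ⟨j, hj, b, hb, rfl⟩ := (Coprime.mem_sup_iff
        (show A' ≤ normalizer (J : Set ↥Hf) by rw [normalizer_eq_top]; exact le_top)).1
        (show z ∈ J ⊔ A' by rw [sup_comm]; exact hz)
      exact ⟨b, hb, by rw [map_mul, show π j = 1 from (QuotientGroup.eq_one_iff j).2 hj, one_mul]⟩
    obtain ⟨b, hb, hbx⟩ := hmem x hx
    obtain ⟨c, hc, hcy⟩ := hmem y hy
    rw [← QuotientGroup.eq_one_iff, ← QuotientGroup.mk'_apply, map_commutatorElement, ← hbx, ← hcy,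
      ← map_commutatorElement, show ⁅b, c⁆ = 1 from
        commutatorElement_eq_one_iff_mul_comm.2 (Subtype.ext (C.comm hb hc)), map_one]
  -- components centralised by `a`
  have hK'a : K' ≤ centralizer ({af} : Set ↥Hf) := fun k hk => mem_centralizer_singleton_iff.2
    (Subtype.ext (mem_centralizer_singleton_iff.1 (hKH hk)))
  have hfixed := le_sSup_fixed hperf hK'a (S := 𝒮) (fun L hL => hL.1)
    (fun L hL => by
      obtain ⟨_, DL⟩ := hlocf.data L hL
      exact DL.norm (show af ∈ A' from ha))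
    (fun L hL hLa => by
      obtain ⟨_, DL⟩ := hlocf.data L hL
      haveI : Fact (Nat.Prime 2) := ⟨Nat.prime_two⟩
      haveI := (DL.cent af ha fun hfx => hLa fun l hl => mem_centralizer_singleton_iff.2
        (mem_centralizer_iff.1 hfx.2 l hl)).isNilpotent
      infer_instance) hK'J
  -- inside the centraliser of both
  set W' : Subgroup ↥Hf := centralizer ({af} : Set ↥Hf) with hW'
  set W : Subgroup G := centralizer ({a} : Set G) ⊓ Hf with hW
  have hKW : Cfsg.IsComponent (K.subgroupOf W) :=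
    isComponent_restrict inf_le_left (le_inf hKH hKf) hcomp
  have hWW' : W'.map Hf.subtype = W := by
    ext x
    constructor
    · rintro ⟨y, hy, rfl⟩
      exact ⟨mem_centralizer_singleton_iff.2
        (congrArg Subtype.val (mem_centralizer_singleton_iff.1 hy)), y.2⟩
    · rintro ⟨hxa, hxf⟩
      exact ⟨⟨x, hxf⟩, mem_centralizer_singleton_iff.2
        (Subtype.ext (mem_centralizer_singleton_iff.1 hxa)), rfl⟩
  have hK'comp : Cfsg.IsComponent (K'.subgroupOf W') := by
    let e : ↥W ≃* ↥W' := ((W'.equivMapOfInjective Hf.subtype Hf.subtype_injective).trans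
      (MulEquiv.subgroupCongr hWW')).symm
    have h2 := IsComponent.map_equiv e hKW
    convert h2 using 1
    ext w
    constructor
    · intro hw
      exact ⟨e.symm w, hw, e.apply_symm_apply w⟩
    · rintro ⟨v, hv, rfl⟩
      obtain ⟨w, rfl⟩ := e.symm.surjective v
      rw [show e.toMonoidHom (e.symm w) = w from e.apply_symm_apply w]
      exact hv
  set 𝒯 : Set (Subgroup ↥Hf) := {L ∈ 𝒮 | L ≤ W'} with h𝒯
  have hle2 : K'.subgroupOf W' ≤ sSup ((fun L : Subgroup ↥Hf => L.subgroupOf W') '' 𝒯) := by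
    intro w hw
    have h1 : (w : ↥Hf) ∈ sSup 𝒯 := hfixed hw
    have h2 : sSup 𝒯 ≤ (sSup ((fun L : Subgroup ↥Hf => L.subgroupOf W') '' 𝒯)).map W'.subtype :=
      sSup_le fun L hL => by
      rw [← map_subgroupOf_eq_of_le hL.2]
      exact map_mono (le_sSup ⟨L, hL, rfl⟩)
    obtain ⟨v, hv, hve⟩ := h2 h1
    rwa [← show v = w from Subtype.ext hve]
  obtain ⟨L, hL, hLe⟩ := IsComponent.mem_of_le_sSup hK'comp (by
    rintro _ ⟨L, hL, rfl⟩
    exact IsComponent.subgroupOf hL.1.1 hL.2) hle2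
  have heq : L = K' := by
    rw [← map_subgroupOf_eq_of_le hL.2, ← map_subgroupOf_eq_of_le hK'a]
    exact congrArg (Subgroup.map W'.subtype) hLe
  exact heq ▸ hL.1.1

end Block

end Cfsg.Agent.Goldschmidt.ThreePrime
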