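import Cfsg.Agent.Lib.Goldschmidt.Elem
import Cfsg.Agent.Lib.Aschbacher.Criterion
import Cfsg.Prelude.Def_Sz

/-!
# Strongly closed elementary abelian subgroups in groups of order prime to three: interface (owner: helper29)

* `SuzSections` : every non-abelian simple section is a Suzuki group
* `SzFacts L q` : what is used about `Sz(q)`                                   (`SzFacts.lean`)
* `Local X T A` : core-free local group with an elementary closed set `T`, `A` = members of a 2-group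
* `CompData`, `LocalFacts` : conclusions for `Local`                           (`Inner.lean`, `Data.lean`)
* `Ctx G S A`   : the minimal configuration in a simple group                  (`Setup.lean`)
* `CoresTrivial`: reached unless there is a strongly embedded subgroup        (`Functor.lean`)
* `BlockData`   : components when all cores are trivial                        (`Components.lean`)
* `HasStronglyEmbedded` : the conclusion                                       (`Blocks.lean`, `Main.lean`)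
-/

set_option autoImplicit false
set_option linter.unusedSectionVars false

namespace Cfsg.Agent.Goldschmidt.ThreePrime

open Cfsg Subgroup
open scoped commutatorElement

universe u

/-- Every non-abelian simple section is a Suzuki group. -/
def SuzSections (X : Type u) [Group X] : Prop :=
  ∀ (H : Subgroup X) (N : Subgroup H) [N.Normal], IsSimpleGroup (H ⧸ N) →
    (∃ a b : H ⧸ N, a * b ≠ b * a) → Cfsg.Lie.IsoSuzuki (H ⧸ N)

/-- The centre of a subgroup, inside the ambient group. -/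
abbrev centre {L : Type u} [Group L] (Q : Subgroup L) : Subgroup L :=
  Q ⊓ centralizer (Q : Set L)

/-- The facts about `Sz(q)` that are used. -/
structure SzFacts (L : Type u) [Group L] (q : ℕ) : Prop where
  pow : ∃ k : ℕ, 1 ≤ k ∧ q = 2 ^ (2 * k + 1)
  simple : IsSimpleGroup L
  center : Subgroup.center L = ⊥
  cent : ∀ x : L, orderOf x = 2 → ∃ Q : Sylow 2 L, centralizer ({x} : Set L) = (Q : Subgroup L)
  omega : ∀ Q : Sylow 2 L, ∀ x ∈ Q, (x * x = 1 ↔ x ∈ centre (Q : Subgroup L))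
  card_centre : ∀ Q : Sylow 2 L, Nat.card ↥(centre (Q : Subgroup L)) = q
  card_sylow : ∀ Q : Sylow 2 L, Nat.card ↥(Q : Subgroup L) = q ^ 2
  sq : ∀ Q : Sylow 2 L, ∀ x ∈ Q, x * x ∈ centre (Q : Subgroup L)
  comm : ∀ Q : Sylow 2 L, ∀ x ∈ Q, ∀ y ∈ Q, ⁅x, y⁆ ∈ centre (Q : Subgroup L)
  torus : ∀ Q : Sylow 2 L, ∃ h ∈ normalizer ((Q : Subgroup L) : Set L), orderOf h = q - 1 ∧
    (∀ x ∈ centre (Q : Subgroup L), ∀ y ∈ centre (Q : Subgroup L), x ≠ 1 → y ≠ 1 →
      ∃ k : ℕ, h ^ k * x * (h ^ k)⁻¹ = y) ∧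
    (∀ x ∈ Q, ∀ y ∈ Q, x ∉ centre (Q : Subgroup L) → y ∉ centre (Q : Subgroup L) →
      ∃ k : ℕ, (h ^ k * x * (h ^ k)⁻¹)⁻¹ * y ∈ centre (Q : Subgroup L))
  inner : ∀ α : MulAut L, (∃ k : ℕ, α ^ 2 ^ k = 1) → ∃ s : L, α = MulAut.conj s
  odd_fix : ∀ Q : Sylow 2 L, ∀ α : MulAut L, Odd (orderOf α) →
    (∀ z ∈ centre (Q : Subgroup L), α z = z) → α = 1
  comm_half : ∀ Q : Sylow 2 L, ∀ u ∈ Q, u ∉ centre (Q : Subgroup L) →
    q ≤ 2 * Nat.card ↥{c : L | ∃ r ∈ Q, c = ⁅r, u⁆}

/-- A core-free group with an elementary closed set, `A` being its members in a 2-group. -/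
structure Local (X : Type u) [Group X] [Finite X] (T : Set X) (A : Subgroup X) : Prop where
  core : pPrimeCore 2 X = ⊥
  three : ¬ 3 ∣ Nat.card X
  sec : SuzSections X
  elem : Goldschmidt.Elem T
  subset : (A : Set X) ⊆ T
  two : IsPGroup 2 ↥A
  max : ∀ P : Subgroup X, IsPGroup 2 ↥P → A ≤ P → ∀ x ∈ P, x ∈ T → x ∈ A

/-- A component not centralised by `A`. -/
def Moved {X : Type u} [Group X] (A K : Subgroup X) : Prop :=
  Cfsg.IsComponent K ∧ ¬ K ≤ centralizer (A : Set X)

/-- The members of `A` centralising `K`. -/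
abbrev fixer {X : Type u} [Group X] (A K : Subgroup X) : Subgroup X :=
  A ⊓ centralizer (K : Set X)

/-- A component moved by `A`. -/
structure CompData {X : Type u} [Group X] (A K : Subgroup X) (q : ℕ) : Prop where
  facts : SzFacts (↥K ⧸ Subgroup.center ↥K) q
  norm : A ≤ normalizer (K : Set X)
  two_center : IsPGroup 2 ↥(Subgroup.center ↥K)
  sup : (A ⊓ K) ⊔ fixer A K = A
  card : Nat.card ↥A = q * Nat.card ↥(fixer A K)
  cent : ∀ a ∈ A, a ∉ fixer A K → IsPGroup 2 ↥(K ⊓ centralizer ({a} : Set X))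
  torus : ∃ h ∈ K, h ∈ normalizer (A : Set X) ∧ Odd (orderOf h) ∧ ∃ Z : Subgroup X,
    Z ≤ A ⊓ K ∧ Z ⊓ fixer A K = ⊥ ∧ Z ⊔ fixer A K = A ∧ h ∈ normalizer (Z : Set X) ∧
      ∀ x ∈ Z, ∀ y ∈ Z, x ≠ 1 → y ≠ 1 → ∃ k : ℕ, h ^ k * x * (h ^ k)⁻¹ = y

/-- The conclusions for a local group. -/
structure LocalFacts {X : Type u} [Group X] (A : Subgroup X) : Prop where
  data : ∀ K : Subgroup X, Moved A K → ∃ q : ℕ, CompData A K q
  decomp : ∀ M : Subgroup X, normalizer (A : Set X) ≤ M → (∀ K : Subgroup X, Moved A K → K ≤ M) → M = ⊤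
  balanced : ∀ a ∈ A, ∀ D : Subgroup X, Odd (Nat.card ↥D) → D ≤ centralizer ({a} : Set X) →
    centralizer ({a} : Set X) ≤ normalizer (D : Set X) → D = ⊥

/-- The minimal configuration in a simple group. -/
structure Ctx (G : Type u) [Group G] [Finite G] (S : Sylow 2 G) (A : Subgroup G) : Prop where
  simple : IsSimpleGroup G
  nonab : ∃ a b : G, a * b ≠ b * a
  three : ¬ 3 ∣ Nat.card G
  sec : ∀ H : Subgroup G, H ≠ ⊤ → SuzSections ↥H
  le : A ≤ (S : Subgroup G)
  ne : A ≠ ⊥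
  elemAb : Cfsg.IsElementaryAbelian 2 A
  closed : Cfsg.IsStronglyClosed A (S : Subgroup G)
  irred : ∀ B : Subgroup G, B ≤ A → normalizer (A : Set G) ≤ normalizer (B : Set G) → B = ⊥ ∨ B = A

/-- The conclusion. -/
def HasStronglyEmbedded (G : Type u) [Group G] : Prop :=
  ∃ H : Subgroup G, Cfsg.IsStronglyEmbedded H

/-- All centralisers of involutions of `A` are core-free. -/
def CoresTrivial {G : Type u} [Group G] (A : Subgroup G) : Prop :=
  ∀ a ∈ A, a ≠ 1 → pPrimeCore 2 ↥(centralizer ({a} : Set G)) = ⊥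

/-- A component of the centraliser of a member, not centralised by `A`. -/
def Block {G : Type u} [Group G] (A K : Subgroup G) : Prop :=
  ∃ a ∈ A, a ≠ 1 ∧ K ≤ centralizer ({a} : Set G) ∧
    Cfsg.IsComponent (K.subgroupOf (centralizer ({a} : Set G))) ∧ ¬ K ≤ centralizer (A : Set G)

/-- The shape of a block when the cores are trivial: a simple Suzuki group `K` and a Sylow `Q` of it. -/
structure BlockData {G : Type u} [Group G] (A K Q : Subgroup G) (q : ℕ) : Prop where
  facts : SzFacts ↥K q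
  norm : centralizer (A : Set G) ≤ normalizer (K : Set G)
  inf : (A ⊓ K) ⊓ fixer A K = ⊥
  sup : (A ⊓ K) ⊔ fixer A K = A
  card : Nat.card ↥(A ⊓ K : Subgroup G) = q
  fixer_ne : fixer A K ≠ ⊥
  le : Q ≤ K
  two : IsPGroup 2 ↥Q
  card_sylow : Nat.card ↥Q = q ^ 2
  centre_eq : centre Q = A ⊓ K
  cent : Q ≤ centralizer (A : Set G)
  sq : ∀ x ∈ Q, x * x ∈ A ⊓ K
  omega : ∀ x ∈ Q, x * x = 1 → x ∈ A ⊓ K
  norm_sylow : centralizer (A : Set G) ≤ normalizer (Q : Set G)
  torus : ∃ h ∈ K, h ∈ normalizer (A : Set G) ∧ h ∈ centralizer (fixer A K : Set G) ∧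
    ∀ x ∈ A ⊓ K, ∀ y ∈ A ⊓ K, x ≠ 1 → y ≠ 1 → ∃ k : ℕ, h ^ k * x * (h ^ k)⁻¹ = y
  everywhere : ∀ f ∈ fixer A K, f ≠ 1 →
    Cfsg.IsComponent (K.subgroupOf (centralizer ({f} : Set G)))

end Cfsg.Agent.Goldschmidt.ThreePrime
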