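import Cfsg.Agent.Lib.Goldschmidt.ThreePrime.Setup
import Cfsg.Agent.Lib.Goldschmidt.Linear
import Cfsg.Agent.Lib.Signalizer.SSFT.Main
import Cfsg.Agent.Lib.Components.LocalBalance
import Cfsg.Agent.Lib.OddOrderTheorem.Basic

/-!
# The signalizer step for the configuration `Ctx` (owner: helper63)

* `isSolvableSignalizerFunctor_core` : `a ↦ O(C(a))` is a solvable signalizer functor on `A`
* `four_le_fixer` : a component moved by `A` is centralised by a non-cyclic subgroup of `A`
* `cores_trivial_or_se` : a strongly embedded subgroup exists, or every `O(C(a))` is trivial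
-/

set_option autoImplicit false
set_option linter.unusedSectionVars false
set_option linter.style.haveILetI false

namespace Cfsg.Agent.Goldschmidt.ThreePrime

open Cfsg Subgroup

universe u

variable {G : Type u} [Group G] [Finite G] {S : Sylow 2 G} {A : Subgroup G}

theorem zpowers_two_group {a : G} (h : a * a = 1) : IsPGroup 2 ↥(zpowers a) :=
  ClosedPair.isPGroup_zpowers_of_sq h

/-- Lifting an element centralising the image of a 2-subgroup modulo the core. -/
theorem exists_lift_centralizer {H : Type u} [Group H] [Finite H] {R : Subgroup H}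
    (hR : IsPGroup 2 ↥R) {x : H ⧸ pPrimeCore 2 H}
    (hx : x ∈ centralizer ((R.map (QuotientGroup.mk' (pPrimeCore 2 H)) : Subgroup _) : Set _)) :
    ∃ y ∈ centralizer (R : Set H), QuotientGroup.mk' (pPrimeCore 2 H) y = x := by
  haveI : Fact (Nat.Prime 2) := ⟨Nat.prime_two⟩
  rw [Components.centralizer_map_of_coprime hR _ (Cores.coprime_card_pPrimeCore 2)] at hx
  exact hx

namespace Ctx

variable (C : Ctx G S A)
include C

/-- A conjugate of `O(C(a))`. -/
theorem core_conj_le (g a : G) :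
    (centralizerPPrimeCore 2 a).map (MulAut.conj g).toMonoidHom ≤
      centralizerPPrimeCore 2 (g * a * g⁻¹) := by
  haveI : Fact (Nat.Prime 2) := ⟨Nat.prime_two⟩
  exact Components.centralizerPPrimeCore_map_le (MulAut.conj g) a

/-- `a ↦ O(C(a))` is a solvable signalizer functor on `A`. -/
theorem isSolvableSignalizerFunctor_core
    (hloc : ∀ (X : Type u) [Group X] [Finite X] (T : Set X) (A : Subgroup X),
      Local X T A → LocalFacts A) :
    IsSolvableSignalizerFunctor 2 A (fun a => centralizerPPrimeCore 2 a) := by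
  haveI : Fact (Nat.Prime 2) := ⟨Nat.prime_two⟩
  refine ⟨⟨fun a _ _ => Components.centralizerPPrimeCore_le_centralizer_singleton a,
    fun a _ _ => (Fact.out (p := (2).Prime)).coprime_iff_not_dvd.mp
      (Components.coprime_card_centralizerPPrimeCore (p := 2) a).symm,
    fun a ha _ b hb x hx => ?_, fun a ha ha1 b hb hb1 => ?_⟩,
    fun a _ _ => OddOrderTheorem.solvable
      (Nat.coprime_two_right.1 (Components.coprime_card_centralizerPPrimeCore (p := 2) a))⟩
  · exact (mem_normalizer_iff.1 (Components.centralizer_le_normalizer_centralizerPPrimeCore a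
      (C.le_centralizer_of_mem ha hb)) x).1 hx
  -- balance inside `C(b) / O(C(b))`
  set H := centralizer ({b} : Set G) with hH
  have hAH : A ≤ H := C.le_centralizer_of_mem hb
  have hF := hloc _ _ _ (C.localQuot (C.centralizer_ne_top hb1) hAH)
  set R := pPrimeCore 2 ↥H with hR
  set f := QuotientGroup.mk' R with hf
  set D₀ := centralizerPPrimeCore 2 a ⊓ H with hD₀
  set a' : ↥H := ⟨a, hAH ha⟩
  have hD : (D₀.subgroupOf H).map f = ⊥ := by
    refine hF.balanced (f a') ⟨a', mem_subgroupOf.2 ha, rfl⟩ _ ?_ ?_ ?_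
    · refine (Nat.coprime_two_right.1 (Components.coprime_card_centralizerPPrimeCore (p := 2) a)).of_dvd_nat
        ((Subgroup.card_map_dvd _ _).trans ?_)
      rw [Cores.card_subgroupOf inf_le_right]
      exact Subgroup.card_dvd_of_le inf_le_left
    · rintro _ ⟨d, hd, rfl⟩
      refine mem_centralizer_singleton_iff.2 ?_
      rw [← map_mul, ← map_mul]
      exact congrArg f (Subtype.ext (mem_centralizer_singleton_iff.1
        (Components.centralizerPPrimeCore_le_centralizer_singleton a (mem_subgroupOf.1 hd).1)))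
    · intro x hx
      have ha2 : IsPGroup 2 ↥(zpowers a') := zpowers_two_group (Subtype.ext (C.sq ha))
      obtain ⟨y, hy, rfl⟩ := exists_lift_centralizer ha2 (x := x) (by
        rw [MonoidHom.map_zpowers, zpowers_eq_closure, centralizer_closure]
        exact hx)
      have hy' : (y : G) ∈ centralizer ({a} : Set G) := mem_centralizer_singleton_iff.2
        (congrArg Subtype.val (mem_centralizer_iff.1 hy a' (mem_zpowers a'))).symm
      have hn : ∀ d : ↥H, d ∈ D₀.subgroupOf H ↔ y * d * y⁻¹ ∈ D₀.subgroupOf H := fun d => by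
        rw [mem_subgroupOf, mem_subgroupOf]
        have h1 := mem_normalizer_iff.1
          (Components.centralizer_le_normalizer_centralizerPPrimeCore (p := 2) a hy') (d : G)
        exact ⟨fun h => ⟨h1.1 h.1, (y * d * y⁻¹).2⟩, fun h => ⟨h1.2 h.1, d.2⟩⟩
      exact le_normalizer_map f ⟨y, mem_normalizer_iff.2 hn, rfl⟩
  intro x hx
  have h1 : f ⟨x, hx.2⟩ ∈ (D₀.subgroupOf H).map f := ⟨⟨x, hx.2⟩, mem_subgroupOf.2 hx, rfl⟩
  rw [hD, mem_bot] at h1
  exact ⟨⟨x, hx.2⟩, (QuotientGroup.eq_one_iff _).1 h1, rfl⟩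

/-- The group induced on `A` is irreducible, so an element of it transitive on a hyperplane
complementing a fixed point makes it transitive on `A`. -/
theorem false_of_torus {a : G} (ha : a ∈ A) (ha1 : a ≠ 1) {P : Subgroup G}
    (haP : a ∉ P) (hsup : ∀ x ∈ A, x ∈ P ∨ x * a ∈ P) (k : ℕ) (hk : 1 ≤ k)
    (hcard : Nat.card ↥A = 2 ^ (2 * k + 1) * 2)
    (htr : ∀ p ∈ P, ∀ q ∈ P, p ≠ 1 → q ≠ 1 →
      ∃ g ∈ normalizer (A : Set G), g * a * g⁻¹ = a ∧ g * p * g⁻¹ = q) : False := by
  classical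
  let act : ↥(normalizer (A : Set G)) →* MulAut ↥A := A.normalizerMonoidHom
  have hact : ∀ (g : ↥(normalizer (A : Set G))) (v : ↥A),
      ((act g v : ↥A) : G) = (g : G) * v * (g : G)⁻¹ := fun g v => rfl
  set N := act.range
  have hV : ∀ v : ↥A, v * v = 1 := fun v => Subtype.ext (C.sq v.2)
  have hP4 : 4 ≤ Nat.card ↥(P.subgroupOf A) := by
    have hle : Nat.card ↥A ≤ Nat.card (↥(P.subgroupOf A) × Bool) := by
      refine Nat.card_le_card_of_surjective
        (fun z : ↥(P.subgroupOf A) × Bool => if z.2 then (z.1 : ↥A) * ⟨a, ha⟩ else (z.1 : ↥A))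
        fun v => ?_
      rcases hsup v v.2 with h | h
      · exact ⟨(⟨v, mem_subgroupOf.2 h⟩, false), rfl⟩
      · refine ⟨(⟨v * ⟨a, ha⟩, mem_subgroupOf.2 h⟩, true), Subtype.ext ?_⟩
        simp [mul_assoc, C.sq ha]
    rw [Nat.card_prod, Nat.card_eq_fintype_card (α := Bool), Fintype.card_bool, hcard] at hle
    have : 2 ^ 3 ≤ 2 ^ (2 * k + 1) := Nat.pow_le_pow_right (by norm_num) (by omega)
    omega
  have htrans := Linear.transitive_of_irreducible (V := ↥A) hV N (a := ⟨a, ha⟩)
    (fun e => ha1 (congrArg Subtype.val e)) (P := P.subgroupOf A)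
    (fun h => haP (mem_subgroupOf.1 h)) (eq_top_iff.2 fun v _ => by
      rcases hsup v v.2 with h | h
      · exact mem_sup_left (mem_subgroupOf.2 h)
      · rw [show v = (v * ⟨a, ha⟩) * ⟨a, ha⟩ from by rw [mul_assoc, hV, mul_one]]
        exact mul_mem_sup (mem_subgroupOf.2 h) (mem_zpowers _)) hP4
    (fun p hp q hq hp1 hq1 => by
      obtain ⟨g, hg, hga, hgp⟩ := htr p (mem_subgroupOf.1 hp) q (mem_subgroupOf.1 hq)
        (fun e => hp1 (Subtype.ext e)) (fun e => hq1 (Subtype.ext e))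
      exact ⟨act ⟨g, hg⟩, ⟨_, rfl⟩, Subtype.ext hga, Subtype.ext hgp⟩)
    (fun B hB => by
      have hBA : B.map A.subtype ≤ A := map_subtype_le B
      have hinv : ∀ g ∈ normalizer (A : Set G), ∀ x ∈ B.map A.subtype,
          g * x * g⁻¹ ∈ B.map A.subtype := by
        rintro g hg _ ⟨v, hv, rfl⟩
        exact ⟨act ⟨g, hg⟩ v, hB _ ⟨_, rfl⟩ v hv, rfl⟩
      rcases C.irred _ hBA (fun g hg => mem_normalizer_iff.2 fun x => ⟨hinv g hg x, fun hx => by
          simpa [mul_assoc] using hinv g⁻¹ (inv_mem hg) _ hx⟩) with h | h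
      · exact Or.inl ((map_eq_bot_iff_of_injective _ A.subtype_injective).1 h)
      · refine Or.inr (eq_top_iff.2 fun v _ => ?_)
        obtain ⟨w, hw, hwe⟩ := (h.ge v.2 : (v : G) ∈ B.map A.subtype)
        exact (Subtype.ext hwe : w = v) ▸ hw)
  -- the orbit of `a` has length divisible by three
  set a₀ : ↥A := ⟨a, ha⟩
  have horbit : MulAction.orbit ↥N a₀ = {v : ↥A | v ≠ 1} := by
    ext v
    constructor
    · rintro ⟨g, rfl⟩ e
      exact ha1 (congrArg Subtype.val ((g : MulAut ↥A).injective (e.trans (map_one _).symm) : a₀ = 1))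
    · intro hv
      obtain ⟨g, hg, e⟩ := htrans a₀ v (fun e => ha1 (congrArg Subtype.val e)) hv
      exact ⟨⟨g, hg⟩, e⟩
  have hdvd : Nat.card {v : ↥A | v ≠ 1} ∣ Nat.card G := by
    rw [← horbit]
    refine Dvd.dvd.trans ⟨Nat.card (MulAction.stabilizer ↥N a₀), ?_⟩
      ((Subgroup.card_range_dvd act).trans (card_subgroup_dvd_card (normalizer (A : Set G))))
    rw [Nat.card_congr (MulAction.orbitEquivQuotientStabilizer ↥N a₀)]
    exact Subgroup.card_eq_card_quotient_mul_card_subgroup _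
  have hcount : Nat.card {v : ↥A | v ≠ 1} + 1 = 2 ^ (2 * k + 1) * 2 := by
    rw [← hcard, ← Finite.card_option]
    exact Nat.card_congr (Equiv.optionSubtypeNe (1 : ↥A))
  have h4 : (3 : ℕ) ∣ Nat.card {v : ↥A | v ≠ 1} := by
    have h1 : 2 ^ (2 * k + 1) * 2 = 4 ^ (k + 1) := by
      rw [← pow_succ, show 2 * k + 1 + 1 = 2 * (k + 1) by ring, pow_mul]; norm_num
    have h2 : 4 ^ (k + 1) % 3 = 1 := by
      rw [Nat.pow_mod]; norm_num
    omega
  exact C.three (h4.trans hdvd)

/-- A component moved by `A` in `C(a) / O(C(a))` is centralised by a noncyclic part of `A`. -/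
theorem four_le_fixer {a : G} (ha : a ∈ A) (ha1 : a ≠ 1) {H : Subgroup G} (hAH : A ≤ H)
    (hHa : ∀ y ∈ H, y * a = a * y) {K : Subgroup (↥H ⧸ pPrimeCore 2 ↥H)} {q : ℕ}
    (hK : CompData ((A.subgroupOf H).map (QuotientGroup.mk' (pPrimeCore 2 ↥H))) K q) :
    4 ≤ Nat.card ↥(fixer ((A.subgroupOf H).map (QuotientGroup.mk' (pPrimeCore 2 ↥H))) K) := by
  haveI : Fact (Nat.Prime 2) := ⟨Nat.prime_two⟩
  let f := QuotientGroup.mk' (pPrimeCore 2 ↥H)
  let A' := (A.subgroupOf H).map f
  have hinj : ∀ x : ↥H, (x : G) ∈ A → f x = 1 → x = 1 := fun x hx h1 =>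
    Coprime.eq_one_of_mem_of_mem (Coprime.coprime_of_isPGroup (Cores.coprime_card_pPrimeCore 2)
      (C.two.comap_of_injective H.subtype H.subtype_injective))
      ((QuotientGroup.eq_one_iff x).1 h1) hx
  set a' : ↥H := ⟨a, hAH ha⟩
  have ha' : f a' ∈ center (↥H ⧸ pPrimeCore 2 ↥H) := by
    refine mem_center_iff.2 fun x => ?_
    obtain ⟨y, rfl⟩ := QuotientGroup.mk'_surjective _ x
    rw [← map_mul, ← map_mul]
    exact congrArg f (Subtype.ext (hHa y y.2))
  have ha'ne : f a' ≠ 1 := fun h => ha1 (congrArg Subtype.val (hinj a' ha h))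
  have haF : f a' ∈ fixer A' K := ⟨⟨a', mem_subgroupOf.2 ha, rfl⟩, center_le_centralizer _ ha'⟩
  by_contra hlt
  have hF2 : IsPGroup 2 ↥(fixer A' K) :=
    ((C.two.comap_of_injective H.subtype H.subtype_injective).map f).to_le inf_le_left
  have hFeq : zpowers (f a') = fixer A' K := by
    refine eq_of_le_of_card_ge (zpowers_le.2 haF) ?_
    have hord : orderOf (f a') = 2 := orderOf_eq_prime (by
      rw [← map_pow, show a' ^ 2 = 1 from Subtype.ext (by simpa [pow_two] using C.sq ha), map_one])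
      ha'ne
    rw [Nat.card_zpowers, hord]
    obtain ⟨i, hi⟩ := IsPGroup.iff_card.1 hF2
    rw [hi] at hlt ⊢
    rcases i with _ | _ | i
    · norm_num
    · norm_num
    · exact absurd (show 4 ≤ 2 ^ (i + 2) by rw [pow_add]; have := Nat.one_le_two_pow (n := i); omega)
        hlt
  haveI hFn : (fixer A' K).Normal := hFeq ▸ PGroup.zpowers_normal_of_mem_center ha'
  obtain ⟨k, hk, hq⟩ := hK.facts.pow
  have hcard : Nat.card ↥A = 2 ^ (2 * k + 1) * 2 := by
    have h1 : Nat.card ↥A' = Nat.card ↥A := by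
      let g : ↥(A.subgroupOf H) →* (↥H ⧸ pPrimeCore 2 ↥H) := f.comp (A.subgroupOf H).subtype
      have hg : Function.Injective g := by
        rw [injective_iff_map_eq_one]
        exact fun x hx => Subtype.ext (hinj x (mem_subgroupOf.1 x.2) hx)
      rw [← Nat.card_congr (subgroupOfEquivOfLe hAH).toEquiv,
        Nat.card_congr (MonoidHom.ofInjective hg).toEquiv, MonoidHom.range_comp, range_subtype]
    rw [← h1, hK.card, hq, ← hFeq, Nat.card_zpowers,
      orderOf_eq_prime (p := 2) (by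
        rw [← map_pow, show a' ^ 2 = 1 from Subtype.ext (by simpa [pow_two] using C.sq ha), map_one])
        ha'ne]
  obtain ⟨h, -, hhN, -, Z, hZA, hZF, hZsup, hhZ, htrZ⟩ := hK.torus
  set P : Subgroup G := A ⊓ (Z.comap f).map H.subtype with hP
  refine C.false_of_torus ha ha1 (P := P) ?_ ?_ k hk hcard ?_
  · rintro ⟨-, y, hy, hye⟩
    have : y = a' := Subtype.ext hye
    subst this
    exact ha'ne (mem_bot.1 (hZF ▸ (⟨hy, haF⟩ : f a' ∈ Z ⊓ fixer A' K)))
  · intro x hx
    have hxA : f ⟨x, hAH hx⟩ ∈ Z ⊔ fixer A' K := hZsup.ge ⟨⟨x, hAH hx⟩, mem_subgroupOf.2 hx, rfl⟩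
    obtain ⟨z, hz, e, he, hze⟩ := mem_sup_of_normal_right.1 hxA
    rw [← hFeq] at he
    obtain ⟨i, rfl⟩ := mem_zpowers_iff.1 he
    rcases Int.even_or_odd' i with ⟨j, rfl | rfl⟩
    · left
      refine ⟨hx, ⟨x, hAH hx⟩, ?_, rfl⟩
      rw [← map_zpow, zpow_mul, zpow_ofNat, show a' ^ 2 = 1 from Subtype.ext (by simpa [pow_two] using C.sq ha),
        one_zpow, map_one, mul_one] at hze
      exact (show f ⟨x, hAH hx⟩ ∈ Z from hze ▸ hz)
    · right
      refine ⟨A.mul_mem hx ha, ⟨x, hAH hx⟩ * a', ?_, rfl⟩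
      show f (⟨x, hAH hx⟩ * a') ∈ Z
      rw [← map_zpow, zpow_add, zpow_one, zpow_mul, zpow_ofNat,
        show a' ^ 2 = 1 from Subtype.ext (by simpa [pow_two] using C.sq ha), one_zpow, one_mul] at hze
      rw [map_mul, ← hze, mul_assoc, ← map_mul, show a' * a' = 1 from Subtype.ext (C.sq ha), map_one,
        mul_one]
      exact hz
  · intro p hp r hr hp1 hr1
    obtain ⟨hpA, p', hp', rfl⟩ := hp
    obtain ⟨hrA, r', hr', rfl⟩ := hr
    have hne : ∀ x : ↥H, (x : G) ∈ A → (x : G) ≠ 1 → f x ≠ 1 := fun x hx hx1 e =>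
      hx1 (congrArg Subtype.val (hinj x hx e))
    obtain ⟨j, hj⟩ := htrZ (f p') hp' (f r') hr' (hne _ hpA hp1) (hne _ hrA hr1)
    obtain ⟨z, rfl⟩ := QuotientGroup.mk'_surjective _ h
    obtain ⟨y, hy, hye⟩ := C.normalizer_lift hAH (x := z ^ j) (by rw [map_pow]; exact pow_mem hhN j)
    refine ⟨(y : G), hy, ?_, ?_⟩
    · rw [hHa y y.2, mul_inv_cancel_right]
    · have hmem : ((y * p' * y⁻¹ : ↥H) : G) ∈ A := (mem_normalizer_iff.1 hy _).1 hpA
      have h1 : f ((y * p' * y⁻¹)⁻¹ * r') = 1 := by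
        rw [map_mul, map_inv, map_mul, map_mul, map_inv, hye, map_pow, hj, inv_mul_cancel]
      have h2 := hinj _ (by
        simp only [Subgroup.coe_mul, Subgroup.coe_inv] at hmem ⊢
        exact A.mul_mem (A.inv_mem hmem) hrA) h1
      exact congrArg Subtype.val (inv_mul_eq_one.1 h2)

end Ctx

/-- A strongly embedded subgroup exists, or the cores of the centralisers of members are trivial. -/
theorem cores_trivial_or_se (hC : Aschbacher.CoreFreeCriterion.{u})
    (hloc : ∀ (X : Type u) [Group X] [Finite X] (T : Set X) (A : Subgroup X),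
      Local X T A → LocalFacts A) (C : Ctx G S A) :
    HasStronglyEmbedded G ∨ CoresTrivial A := by
  haveI : Fact (Nat.Prime 2) := ⟨Nat.prime_two⟩
  haveI := C.simple
  have hθ := C.isSolvableSignalizerFunctor_core hloc
  obtain ⟨-, hWodd, hWcent⟩ := Signalizer.solvable_signalizer_functor C.elemAb
    (by simpa using C.eight_le) hθ
  set θ : G → Subgroup G := fun a => centralizerPPrimeCore 2 a with hθdef
  set W := ⨆ a : {a : G // a ∈ A ∧ a ≠ 1}, θ a with hW
  have hle : ∀ a ∈ A, a ≠ 1 → θ a ≤ W := fun a ha ha1 =>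
    le_iSup (fun a : {a : G // a ∈ A ∧ a ≠ 1} => θ a) ⟨a, ha, ha1⟩
  by_cases hW1 : W = ⊥
  · refine Or.inr fun a ha ha1 => ?_
    have h1 : θ a ≤ ⊥ := hW1 ▸ hle a ha ha1
    have h2 : (pPrimeCore 2 ↥(centralizer ({a} : Set G))).map
        (centralizer ({a} : Set G)).subtype ≤ ⊥ := h1
    rwa [le_bot_iff, map_eq_bot_iff_of_injective _ (Subgroup.subtype_injective _)] at h2
  left
  set M := normalizer (W : Set G) with hM
  have hMtop : M ≠ ⊤ := fun e => by
    rcases (normalizer_eq_top_iff.1 e).eq_bot_or_eq_top with h | h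
    · exact hW1 h
    · obtain ⟨a, ha, ha1⟩ := (Subgroup.bot_or_exists_ne_one A).resolve_left C.ne
      refine hWodd (h ▸ ?_)
      rw [Subgroup.card_top, ← orderOf_eq_prime (p := 2) (by rw [pow_two, C.sq ha]) ha1]
      exact orderOf_dvd_natCard a
  -- elements permuting the generators of `W`
  have hnorm : ∀ g : G, W.map (MulAut.conj g).toMonoidHom ≤ W → g ∈ M := fun g hg => by
    have heq : W.map (MulAut.conj g).toMonoidHom = W := eq_of_le_of_card_ge hg
      (le_of_eq (card_map_of_injective (MulAut.conj g).injective).symm)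
    rw [hM, mem_normalizer_iff]
    refine fun x => ⟨fun hx => heq ▸ ⟨x, hx, rfl⟩, fun hx => ?_⟩
    obtain ⟨y, hy, hye⟩ := heq.symm ▸ hx
    exact (mul_left_cancel (mul_right_cancel hye) : y = x) ▸ hy
  have hNA : normalizer (A : Set G) ≤ M := fun g hg => hnorm g (by
    rw [hW, Subgroup.map_iSup]
    refine iSup_le fun ⟨a, ha, ha1⟩ => (C.core_conj_le g a).trans (hle _ ?_ ?_)
    · exact (mem_normalizer_iff.1 hg a).1 ha
    · exact fun h => ha1 (conj_eq_one_iff.1 h))
  have hcentB : ∀ B : Subgroup G, B ≤ A → 4 ≤ Nat.card ↥B → centralizer (B : Set G) ≤ M := by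
    intro B hBA hB4 g hg
    refine hnorm g ?_
    have hBe := Signalizer.elemAb_of_le C.elemAb hBA
    have hWB : W ≤ ⨆ b : {b : G // b ∈ B ∧ b ≠ 1}, θ b :=
      Signalizer.le_of_elements hBe hB4 _ W hWodd
        (hBA.trans (Signalizer.le_normalizer_iSup fun a => Signalizer.invariant_theta hθ.1 a.2.1 a.2.2))
        fun b hb hb1 => (hWcent b (hBA hb) hb1).le.trans
          (le_iSup (fun b : {b : G // b ∈ B ∧ b ≠ 1} => θ b) ⟨b, hb, hb1⟩)
    refine (map_mono hWB).trans ?_
    rw [Subgroup.map_iSup]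
    refine iSup_le fun ⟨b, hb, hb1⟩ => (C.core_conj_le g b).trans (le_trans (le_of_eq ?_) (hle b (hBA hb) hb1))
    rw [show g * b * g⁻¹ = b by rw [← mem_centralizer_iff.1 hg b hb, mul_inv_cancel_right]]
  -- every centraliser of a member lies in `M`
  have hcent : ∀ a ∈ A, a ≠ 1 → centralizer ({a} : Set G) ≤ M := by
    intro a ha ha1
    set H := centralizer ({a} : Set G) with hH
    have hAH : A ≤ H := C.le_centralizer_of_mem ha
    have hF := hloc _ _ _ (C.localQuot (C.centralizer_ne_top ha1) hAH)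
    set f := QuotientGroup.mk' (pPrimeCore 2 ↥H) with hf
    have hRM : pPrimeCore 2 ↥H ≤ M.subgroupOf H := fun r hr =>
      mem_subgroupOf.2 (le_normalizer (hle a ha ha1 ⟨r, hr, rfl⟩))
    have key : (M.subgroupOf H).map f = ⊤ := by
      refine hF.decomp _ (fun x hx => ?_) fun K hK x hxK => ?_
      · obtain ⟨z, rfl⟩ := QuotientGroup.mk'_surjective _ x
        obtain ⟨y, hy, hye⟩ := C.normalizer_lift hAH hx
        exact ⟨y, mem_subgroupOf.2 (hNA hy), hye⟩
      · obtain ⟨q, hq⟩ := hF.data K hK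
        have h4 := C.four_le_fixer ha ha1 hAH (fun y hy => mem_centralizer_singleton_iff.1 hy) hq
        set A' := (A.subgroupOf H).map f
        set B' : Subgroup ↥H := A.subgroupOf H ⊓ (fixer A' K).comap f with hB'
        have himg : B'.map f = fixer A' K := by
          refine le_antisymm ((map_mono inf_le_right).trans (map_comap_le f _)) ?_
          rintro y ⟨⟨w, hw, rfl⟩, hwc⟩
          exact ⟨w, ⟨hw, ⟨⟨w, hw, rfl⟩, hwc⟩⟩, rfl⟩
        have hB'2 : IsPGroup 2 ↥B' :=
          (C.two.comap_of_injective H.subtype H.subtype_injective).to_le inf_le_left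
        obtain ⟨y, hy, rfl⟩ := exists_lift_centralizer hB'2 (x := x)
          (fun z hz => (mem_centralizer_iff.1
            (himg.le hz).2 x hxK).symm)
        refine ⟨y, mem_subgroupOf.2 (hcentB (B'.map H.subtype) ?_ ?_ ?_), rfl⟩
        · rintro _ ⟨w, hw, rfl⟩
          exact mem_subgroupOf.1 hw.1
        · rw [Cores.card_map_subtype]
          exact (h4.trans (le_of_eq (by rw [himg]))).trans
            (Nat.le_of_dvd Nat.card_pos (card_map_dvd B' f))
        · rintro _ ⟨w, hw, rfl⟩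
          exact congrArg Subtype.val (mem_centralizer_iff.1 hy w hw)
    intro x hx
    obtain ⟨m, hm, hme⟩ := (key ▸ mem_top (f ⟨x, hx⟩) : f ⟨x, hx⟩ ∈ (M.subgroupOf H).map f)
    have h1 : m⁻¹ * (⟨x, hx⟩ : ↥H) ∈ M.subgroupOf H := hRM (QuotientGroup.eq.1 hme)
    have h2 := mul_mem hm h1
    rw [mul_inv_cancel_left] at h2
    exact mem_subgroupOf.1 h2
  refine Aschbacher.criterion_strongly_closed hC S A C.ne C.closed fun e => hMtop (top_le_iff.1 ?_)
  rw [← e]
  refine iSup_le fun ⟨t, ht, ht2⟩ => hcent t ht fun h1 => ?_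
  rw [h1, orderOf_one] at ht2
  exact absurd ht2 (by norm_num)

end Cfsg.Agent.Goldschmidt.ThreePrime
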