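import Cfsg.Agent.Lib.Goldschmidt.ThreePrime.Blocks
import Cfsg.Agent.Lib.Goldschmidt.ThreePrime.Components
import Cfsg.Agent.Lib.Goldschmidt.ThreePrime.Data
import Cfsg.Agent.Lib.Goldschmidt.ThreePrime.Functor
import Cfsg.Agent.Lib.Goldschmidt.ThreePrime.Inner
import Cfsg.Agent.Lib.Goldschmidt.ThreePrime.Main
import Cfsg.Agent.Lib.Goldschmidt.ThreePrime.SzFacts

/-!
# The simple groups of order prime to three, from Aschbacher's criterion (owner: helper29)

* `localFacts` : the conclusions for local groups
* `ctxEmbedded` : a minimal configuration has a strongly embedded subgroup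
* `threePrimeClass_of_criterion` : the simple groups of order prime to three are Suzuki groups
-/

set_option autoImplicit false
set_option linter.unusedSectionVars false

namespace Cfsg.Agent.Goldschmidt.ThreePrime

open Cfsg Subgroup

universe u

/-- The conclusions for local groups. -/
theorem localFacts (X : Type u) [Group X] [Finite X] (T : Set X) (A : Subgroup X) (L : Local X T A) :
    LocalFacts A where
  data _ hK := compData L (fun _ _ _ h => szFacts h) hK
  decomp := decomp L (fun _ _ _ h => szFacts h)
  balanced := balanced L (fun _ _ _ h => szFacts h)

/-- A minimal configuration has a strongly embedded subgroup. -/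
theorem ctxEmbedded (hC : Aschbacher.CoreFreeCriterion.{u}) : CtxEmbedded.{u} := fun _ _ _ _ _ C =>
  (cores_trivial_or_se hC localFacts C).elim id fun h =>
    se_of_coresTrivial hC localFacts C h fun _ hK => blockData C localFacts h hK

/-- The simple groups of order prime to three are Suzuki groups. -/
theorem threePrimeClass_of_criterion (hC : Aschbacher.CoreFreeCriterion.{u}) :
    MaxOrders.ThreePrimeClass.{u} :=
  threePrimeClass_of (ctxEmbedded hC)

end Cfsg.Agent.Goldschmidt.ThreePrime
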