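import Cfsg.Agent.Lib.Goldschmidt.ThreePrime.Defs
import Cfsg.Agent.Lib.SFourClosed.Range
import Cfsg.Agent.Lib.Involves.Basic
import Cfsg.Agent.Lib.ZStar.Apply
import Cfsg.Agent.Lib.ZStarPrimePower.Proved
import Cfsg.Agent.Lib.SmallOrders.Basic
import Cfsg.Agent.Lib.Coprime.Basic

/-!
# Basic properties of the configuration `Ctx` (owner: helper29)

* `SuzSections.comap`, `SuzSections.map`, `SuzSections.composition`
* `Ctx.mem_of_mem`, `Ctx.eight_le`, `Ctx.centralizer_ne_top`
* `Ctx.localQuot`, `Ctx.localSub`, `Ctx.normalizer_lift`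
* `Ctx.bound` : an elementary 2-group induced on `A` has order at most the root of `|A : C_A(B)|`
-/

set_option autoImplicit false
set_option linter.unusedSectionVars false
set_option linter.style.haveILetI false

namespace Cfsg.Agent.Goldschmidt.ThreePrime

open Cfsg Subgroup
open scoped commutatorElement

universe u

theorem SuzSections.map {X Y : Type u} [Group X] [Group Y] (h : SuzSections X) (f : X →* Y)
    (hf : Function.Surjective f) : SuzSections Y := by
  intro H N _ hs hna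
  let g : (H.comap f) →* (↥H ⧸ N) := (QuotientGroup.mk' N).comp (f.subgroupComap H)
  have hg : Function.Surjective g :=
    (QuotientGroup.mk'_surjective N).comp (f.subgroupComap_surjective_of_surjective H hf)
  let e : (↥(H.comap f) ⧸ g.ker) ≃* (↥H ⧸ N) := QuotientGroup.quotientKerEquivOfSurjective g hg
  haveI := hs
  obtain ⟨a, b, hab⟩ := hna
  obtain ⟨F, i1, i2, m, hm, hF, ⟨e'⟩⟩ := h (H.comap f) g.ker (MulEquiv.isSimpleGroup e)
    ⟨e.symm a, e.symm b, fun hc => hab (e.symm.injective (by rw [map_mul, map_mul]; exact hc))⟩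
  exact ⟨F, i1, i2, m, hm, hF, ⟨e.symm.trans e'⟩⟩

theorem SuzSections.comap {X Y : Type u} [Group X] [Group Y] (h : SuzSections X) (f : Y →* X)
    (hf : Function.Injective f) : SuzSections Y := by
  intro H N _ hs hna
  let e := H.equivMapOfInjective f hf
  let N' := N.map e.toMonoidHom
  haveI : N'.Normal := Subgroup.Normal.map inferInstance _ e.surjective
  let e2 := QuotientGroup.congr N N' e rfl
  haveI := hs
  obtain ⟨a, b, hab⟩ := hna
  obtain ⟨F, i1, i2, m, hm, hF, ⟨e'⟩⟩ := h (H.map f) N' (MulEquiv.isSimpleGroup e2.symm)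
    ⟨e2 a, e2 b, fun hc => hab (e2.injective (by rw [map_mul, map_mul]; exact hc))⟩
  exact ⟨F, i1, i2, m, hm, hF, ⟨e2.trans e'⟩⟩

theorem SuzSections.composition {X : Type u} [Group X] (h : SuzSections X) :
    Cfsg.IsCompositionKGroupWith Cfsg.IsSuzukiOrPSL2OddPowerThree X := by
  intro H _ N _ hs hn
  refine Or.inl (h H N hs ?_)
  by_contra hc
  push Not at hc
  exact hn ⟨⟨fun a b => hc a b⟩⟩

theorem not_involves_three {X : Type u} [Group X] [Finite X] (h : ¬ 3 ∣ Nat.card X) :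
    ¬ Cfsg.Involves (Equiv.Perm (Fin 3)) X := by
  intro hv
  obtain ⟨K, f, hf⟩ := Involves.exists_hom_of_involves hv
  have h1 := (Subgroup.card_dvd_of_surjective f hf).trans (card_subgroup_dvd_card K)
  rw [Nat.card_perm, Nat.card_eq_fintype_card, Fintype.card_fin] at h1
  exact h (Dvd.dvd.trans (by decide) h1)

namespace Ctx

variable {G : Type u} [Group G] [Finite G] {S : Sylow 2 G} {A : Subgroup G} (C : Ctx G S A)
include C

theorem sq {a : G} (ha : a ∈ A) : a * a = 1 := by
  have := C.elemAb.2 a ha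
  rwa [pow_two] at this

theorem comm {a b : G} (ha : a ∈ A) (hb : b ∈ A) : a * b = b * a :=
  congrArg Subtype.val (C.elemAb.1.is_comm.comm ⟨a, ha⟩ ⟨b, hb⟩)

theorem two : IsPGroup 2 ↥A := fun a => ⟨1, Subtype.ext (by simpa [pow_two] using C.sq a.2)⟩

theorem le_centralizer_of_mem {a : G} (ha : a ∈ A) : A ≤ centralizer ({a} : Set G) :=
  fun _ hb => mem_centralizer_singleton_iff.2 (C.comm hb ha)

theorem elemT : Goldschmidt.Elem (classSet A) :=
  elem_classSet S C.closed fun _ ha => C.sq ha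

theorem subset : (A : Set G) ⊆ classSet A := fun _ ha => mem_classSet_of_mem ha

/-- The members in a 2-group containing `A` lie in `A`. -/
theorem mem_of_mem {P : Subgroup G} (hP : IsPGroup 2 ↥P) (hAP : A ≤ P) {x : G} (hx : x ∈ P)
    (hxT : x ∈ classSet A) : x ∈ A := by
  haveI : Fact (Nat.Prime 2) := ⟨Nat.prime_two⟩
  obtain ⟨Q, hQ⟩ := hP.exists_le_sylow
  obtain ⟨g, hg⟩ := MulAction.exists_smul_eq G Q S
  have hm : ∀ z ∈ P, g * z * g⁻¹ ∈ (S : Subgroup G) := fun z hz => by
    rw [← hg, Sylow.coe_subgroup_smul, Coprime.mem_conj]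
    simpa [mul_assoc] using hQ hz
  have hgA : ∀ z ∈ P, z ∈ classSet A → g * z * g⁻¹ ∈ A := fun z hz hzT =>
    (mem_classSet_iff C.closed (hm z hz)).1 (C.elemT.closed.conj g z hzT)
  let φ : A → A := fun a => ⟨g * a * g⁻¹, hgA a (hAP a.2) (C.subset a.2)⟩
  have hφ : Function.Injective φ := fun a b h => Subtype.ext
    (mul_left_cancel (mul_right_cancel (congrArg Subtype.val h)))
  obtain ⟨a, ha⟩ := (Finite.injective_iff_surjective.1 hφ) ⟨g * x * g⁻¹, hgA x hx hxT⟩
  have : (a : G) = x := mul_left_cancel (mul_right_cancel (congrArg Subtype.val ha))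
  exact this ▸ a.2

theorem sylow_le_normalizer : (S : Subgroup G) ≤ normalizer (A : Set G) := by
  intro s hs
  refine mem_normalizer_iff.2 fun x => ⟨fun hx => C.closed.2 x hx s ?_, fun hx => ?_⟩
  · exact mul_mem (mul_mem hs (C.le hx)) (inv_mem hs)
  · have := C.closed.2 _ hx s⁻¹ (mul_mem (mul_mem (inv_mem hs) (C.le hx)) (by simpa using hs))
    simpa [mul_assoc] using this

theorem center_eq_bot : Subgroup.center G = ⊥ := by
  haveI := C.simple
  exact SmallOrders.center_eq_bot fun h => C.nonab.elim fun a ⟨b, hab⟩ => hab (h.is_comm.comm a b)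

theorem centralizer_ne_top {a : G} (ha : a ≠ 1) : centralizer ({a} : Set G) ≠ ⊤ := fun e => ha (by
  rw [← mem_bot (G := G), ← C.center_eq_bot]
  exact mem_center_iff.2 fun g => mem_centralizer_singleton_iff.1 (e ▸ mem_top g))

theorem normalizer_ne_top : normalizer (A : Set G) ≠ ⊤ := by
  intro e
  haveI := C.simple
  rcases (normalizer_eq_top_iff.1 e).eq_bot_or_eq_top with h | h
  · exact C.ne h
  · obtain ⟨a, b, hab⟩ := C.nonab
    exact hab (C.comm (h ▸ mem_top a) (h ▸ mem_top b))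

theorem core_eq_bot : pPrimeCore 2 G = ⊥ := by
  haveI : Fact (Nat.Prime 2) := ⟨Nat.prime_two⟩
  haveI := C.simple
  refine (Cores.pPrimeCore_normal 2 G).eq_bot_or_eq_top.resolve_right fun h => C.ne ?_
  rw [eq_bot_iff]
  intro a ha
  refine mem_bot.2 (Coprime.eq_one_of_mem_of_mem (Coprime.coprime_of_isPGroup (p := 2) ?_ C.two)
    (show a ∈ (⊤ : Subgroup G) from mem_top a) ha)
  rw [← h]
  exact Cores.coprime_card_pPrimeCore 2

/-! ### The action on `A` -/

/-- The image of a normal 2-subgroup of the group induced on `A` is trivial. -/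
theorem pCore_range_eq_bot :
    pCore 2 ↥(MulAut.conjNormal (H := A.subgroupOf (normalizer (A : Set G)))).range = ⊥ := by
  haveI : Fact (Nat.Prime 2) := ⟨Nat.prime_two⟩
  set N := normalizer (A : Set G) with hN
  set φ : ↥N →* MulAut ↥(A.subgroupOf N) := MulAut.conjNormal with hφ
  set O := pCore 2 ↥φ.range
  haveI hOn : O.Normal := Cores.pCore_normal 2 _
  rw [eq_bot_iff]
  intro q hq
  letI : MulAction ↥φ.range ↥(A.subgroupOf N) := MulAction.compHom _ φ.range.subtype
  have hsmul : ∀ (r : ↥φ.range) (v : ↥(A.subgroupOf N)), r • v = (r : MulAut _) v := fun _ _ => rfl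
  -- the fixed points of `O`
  let B : Subgroup ↥(A.subgroupOf N) :=
    { carrier := {v | ∀ r ∈ O, (r : MulAut ↥(A.subgroupOf N)) v = v}
      one_mem' := fun r _ => map_one _
      mul_mem' := fun {a b} ha hb r hr => by rw [map_mul, ha r hr, hb r hr]
      inv_mem' := fun {a} ha r hr => by rw [map_inv, ha r hr] }
  have hAN : A ≤ N := le_normalizer
  have hBne : B ≠ ⊥ := by
    intro hB
    have hp := Cores.isPGroup_pCore 2 ↥φ.range
    have hd : 2 ∣ Nat.card ↥(A.subgroupOf N) := by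
      rw [Nat.card_congr (subgroupOfEquivOfLe hAN).toEquiv]
      obtain ⟨k, hk⟩ := C.two.exists_card_eq
      rcases k with _ | k
      · exact absurd (Subgroup.card_eq_one.1 (by simpa using hk)) C.ne
      · exact hk ▸ dvd_pow_self 2 k.succ_ne_zero
    obtain ⟨v, hv, hv1⟩ := hp.exists_fixed_point_of_prime_dvd_card_of_fixed_point
      (α := ↥(A.subgroupOf N)) hd (a := (1 : ↥(A.subgroupOf N)))
      (fun r => show ((r : ↥φ.range) : MulAut ↥(A.subgroupOf N)) (1 : ↥(A.subgroupOf N)) = 1 from map_one _)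
    exact hv1 ((mem_bot.1 (hB ▸ (show v ∈ B from fun r hr => hv ⟨r, hr⟩))).symm)
  have hBtop : ∀ v : ↥(A.subgroupOf N), v ∈ B := by
    set B' : Subgroup G := (B.map (A.subgroupOf N).subtype).map N.subtype with hB'
    have hB'A : B' ≤ A := by
      rintro _ ⟨_, ⟨v, -, rfl⟩, rfl⟩
      exact v.2
    have hinv : normalizer (A : Set G) ≤ normalizer (B' : Set G) := by
      have key : ∀ n : ↥N, ∀ x ∈ B', (n : G) * x * (n : G)⁻¹ ∈ B' := by
        rintro n _ ⟨_, ⟨v, hv, rfl⟩, rfl⟩
        refine ⟨_, ⟨φ n v, fun r hr => ?_, rfl⟩, ?_⟩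
        · set m : ↥φ.range := ⟨φ n, n, rfl⟩
          have h1 := hv _ (hOn.conj_mem r hr m⁻¹)
          simp only [inv_inv, Subgroup.coe_mul, InvMemClass.coe_inv, MulAut.mul_apply] at h1
          have h2 := congrArg (φ n) h1
          simpa [m, MulAut.apply_inv_self] using h2
        · show (((φ n v : ↥(A.subgroupOf N)) : ↥N) : G) = _
          rw [hφ, MulAut.conjNormal_apply]
          rfl
      intro n hn
      refine mem_normalizer_iff.2 fun x => ⟨key ⟨n, hn⟩ x, fun hx => ?_⟩
      have := key ⟨n⁻¹, inv_mem hn⟩ _ hx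
      simpa [mul_assoc] using this
    rcases C.irred B' hB'A hinv with h | h
    · exact absurd ((map_eq_bot_iff_of_injective _ (A.subgroupOf N).subtype_injective).1
        ((map_eq_bot_iff_of_injective _ N.subtype_injective).1 h)) hBne
    · intro v
      have hv : ((v : ↥N) : G) ∈ B' := h.symm ▸ v.2
      obtain ⟨_, ⟨w, hw, rfl⟩, hwe⟩ := hv
      have : w = v := Subtype.ext (Subtype.ext hwe)
      exact this ▸ hw
  exact mem_bot.2 (Subtype.ext (MulEquiv.ext fun v => hBtop v q hq))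

/-- The kernel of the action. -/
theorem ker_conjNormal :
    (MulAut.conjNormal (H := A.subgroupOf (normalizer (A : Set G)))).ker =
      (centralizer (A : Set G)).subgroupOf (normalizer (A : Set G)) := by
  ext n
  rw [MonoidHom.mem_ker, mem_subgroupOf, mem_centralizer_iff]
  constructor
  · intro h a ha
    have h1 := congrArg Subtype.val (congrArg Subtype.val (DFunLike.congr_fun h
      (⟨⟨a, le_normalizer ha⟩, mem_subgroupOf.2 ha⟩ : ↥(A.subgroupOf (normalizer (A : Set G))))))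
    rw [MulAut.conjNormal_apply] at h1
    exact (mul_inv_eq_iff_eq_mul.1 h1).symm
  · intro h
    refine MulEquiv.ext fun v => Subtype.ext (Subtype.ext ?_)
    rw [MulAut.conjNormal_apply]
    show (n : G) * ((v : ↥(normalizer (A : Set G))) : G) * (n : G)⁻¹ = _
    rw [← h _ (mem_subgroupOf.1 v.2), mul_inv_cancel_right]
    rfl

/-- An elementary 2-group induced on `A` moves at least its square. -/
theorem bound {B : Subgroup G} (hB : B ≤ normalizer (A : Set G))
    (hc : ∀ r ∈ B, ∀ s ∈ B, ⁅r, s⁆ ∈ centralizer (A : Set G))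
    (hs : ∀ r ∈ B, r * r ∈ centralizer (A : Set G)) :
    (centralizer (A : Set G)).relIndex B ^ 2 ≤ (centralizer (B : Set G)).relIndex A := by
  set N := normalizer (A : Set G) with hN
  set φ : ↥N →* MulAut ↥(A.subgroupOf N) := MulAut.conjNormal with hφ
  have hker : φ.ker = (centralizer (A : Set G)).subgroupOf N := C.ker_conjNormal
  have hAN : A ≤ N := le_normalizer
  have hsec : SuzSections ↥φ.range :=
    (C.sec N C.normalizer_ne_top).map φ.rangeRestrict φ.rangeRestrict_surjective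
  have h3 : ¬ 3 ∣ Nat.card ↥φ.range := fun h => C.three (h.trans
    ((Subgroup.card_dvd_of_surjective φ.rangeRestrict φ.rangeRestrict_surjective).trans
      (card_subgroup_dvd_card N)))
  haveI : Finite (MulAut ↥(A.subgroupOf N)) :=
    Finite.of_injective (fun f : MulAut ↥(A.subgroupOf N) => (f : _ → _)) DFunLike.coe_injective
  have key := SFourClosed.bound_of_hom φ (fun v w => Subtype.ext (Subtype.ext (C.comm v.2 w.2)))
    (fun v => Subtype.ext (Subtype.ext (C.sq v.2))) C.pCore_range_eq_bot (not_involves_three h3)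
    hsec.composition (B.subgroupOf N)
    (fun r hr s hs' => by
      have h : ⁅r, s⁆ ∈ φ.ker := by rw [hker]; exact hc r hr s hs'
      rw [MonoidHom.mem_ker, commutatorElement_def, map_mul, map_mul, map_mul, map_inv, map_inv,
        mul_inv_eq_one, mul_inv_eq_iff_eq_mul] at h
      exact h)
    (fun r hr => by
      have h : r * r ∈ φ.ker := by rw [hker]; exact hs r hr
      rwa [MonoidHom.mem_ker, map_mul] at h)
  rw [hker, Subgroup.relIndex_subgroupOf hB] at key
  refine key.trans ?_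
  have h4 : ((centralizer (B : Set G)).subgroupOf N).subgroupOf (A.subgroupOf N) ≤
      SFourClosed.fixSub φ (B.subgroupOf N) := by
    intro v hv r hr
    refine Subtype.ext (Subtype.ext ?_)
    rw [hφ, MulAut.conjNormal_apply]
    show (r : G) * ((v : ↥N) : G) * (r : G)⁻¹ = ((v : ↥N) : G)
    have hh : (r : G) * ((v : ↥N) : G) = ((v : ↥N) : G) * (r : G) := mem_centralizer_iff.1 hv (r : G) hr
    rw [hh, mul_inv_cancel_right]
  refine (Subgroup.index_antitone h4).trans (le_of_eq ?_)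
  exact Subgroup.relIndex_subgroupOf hAN

theorem eight_le : 8 ≤ Nat.card ↥A := by
  haveI : Fact (Nat.Prime 2) := ⟨Nat.prime_two⟩
  classical
  by_contra hlt
  obtain ⟨k, hk⟩ := C.two.exists_card_eq
  have hk3 : k < 3 := by
    by_contra h
    exact hlt (hk ▸ (show 2 ^ 3 ≤ 2 ^ k from Nat.pow_le_pow_right (by norm_num) (by omega)))
  set N := normalizer (A : Set G) with hN
  set V := A.subgroupOf N
  set φ : ↥N →* MulAut ↥V := MulAut.conjNormal with hφ
  have hAN : A ≤ N := le_normalizer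
  have hV : Nat.card ↥V = 2 ^ k := by rw [Nat.card_congr (subgroupOfEquivOfLe hAN).toEquiv, hk]
  haveI : Finite (MulAut ↥V) := Finite.of_injective (fun f : MulAut ↥V => (f : _ → _)) DFunLike.coe_injective
  -- the induced group embeds into the permutations of at most three points
  let ψ : MulAut ↥V →* Equiv.Perm {v : ↥V // v ≠ 1} :=
    { toFun := fun f => Equiv.Perm.subtypePerm (p := fun v : ↥V => v ≠ 1) f.toEquiv fun v => by simp
      map_one' := by ext; rfl
      map_mul' := fun f g => by ext; rfl }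
  have hψ : Function.Injective ψ := fun f g h => MulEquiv.ext fun v => by
    by_cases hv : v = 1
    · rw [hv, map_one, map_one]
    · exact congrArg Subtype.val (Equiv.congr_fun h ⟨v, hv⟩)
  have hpts : Nat.card {v : ↥V // v ≠ 1} ≤ 3 := by
    have h1 : Nat.card {v : ↥V // v ≠ 1} = Nat.card ↥V - 1 := by
      have := Set.ncard_compl ({1} : Set ↥V)
      rw [Set.ncard_singleton, ← Nat.card_coe_set_eq] at this
      exact this
    have : 2 ^ k ≤ 2 ^ 2 := Nat.pow_le_pow_right (by norm_num) (by omega)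
    omega
  have hdvd : Nat.card ↥φ.range ∣ 6 := by
    have h1 : Nat.card ↥φ.range ∣ Nat.card (Equiv.Perm {v : ↥V // v ≠ 1}) :=
      (Nat.card_congr (φ.range.equivMapOfInjective ψ hψ).toEquiv) ▸ card_subgroup_dvd_card _
    rw [Nat.card_perm] at h1
    exact h1.trans (Nat.factorial_dvd_factorial hpts)
  have h3 : ¬ 3 ∣ Nat.card ↥φ.range := fun h => C.three (h.trans
    ((Subgroup.card_dvd_of_surjective φ.rangeRestrict φ.rangeRestrict_surjective).trans
      (card_subgroup_dvd_card N)))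
  have h2 : Nat.card ↥φ.range ∣ 2 := by
    have hco : (Nat.card ↥φ.range).Coprime 3 := (Nat.prime_three.coprime_iff_not_dvd.2 h3).symm
    exact hco.dvd_of_dvd_mul_right (show Nat.card ↥φ.range ∣ 2 * 3 from hdvd)
  have htriv : φ.range = ⊥ := by
    have hp : IsPGroup 2 ↥φ.range := by
      rcases (Nat.dvd_prime Nat.prime_two).1 h2 with h | h
      · exact IsPGroup.of_card (n := 0) (by simpa using h)
      · exact IsPGroup.of_card (n := 1) (by simpa using h)
    have htop : pCore 2 ↥φ.range = ⊤ := Cores.pCore_eq_top_iff.2 hp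
    rw [C.pCore_range_eq_bot] at htop
    refine eq_bot_iff.2 fun x hx => mem_bot.2 ?_
    have h1 : (⟨x, hx⟩ : ↥φ.range) ∈ (⊤ : Subgroup ↥φ.range) := mem_top _
    rw [← htop] at h1
    exact congrArg Subtype.val (mem_bot.1 h1)
  have hcent : N ≤ centralizer (A : Set G) := fun n hn => by
    have : (⟨n, hn⟩ : ↥N) ∈ φ.ker :=
      MonoidHom.mem_ker.2 (mem_bot.1 (htriv ▸ (⟨⟨n, hn⟩, rfl⟩ : φ ⟨n, hn⟩ ∈ φ.range)))
    rw [C.ker_conjNormal] at this
    exact this
  obtain ⟨a, ha, ha1⟩ := (Subgroup.bot_or_exists_ne_one A).resolve_left C.ne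
  have hline : zpowers a = A := by
    refine (C.irred (zpowers a) (zpowers_le.2 ha) fun n hn => ?_).resolve_left (by simpa using ha1)
    refine centralizer_le_normalizer _ (centralizer_le ?_ (hcent hn))
    exact fun x hx => zpowers_le.2 ha hx
  have ha2 : orderOf a = 2 := orderOf_eq_prime (by rw [pow_two, C.sq ha]) ha1
  have hiso := ZStar.isolated_of_sylow S ha2 (C.le ha) fun g hg => by
    have h1 := C.closed.2 a ha g hg
    rw [← hline] at h1
    rcases Subgroup.mem_zpowers_iff.1 h1 with ⟨j, hj⟩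
    rcases Int.even_or_odd j with ⟨i, hi⟩ | ⟨i, hi⟩
    · exfalso
      rw [hi, ← two_mul, zpow_mul, zpow_ofNat, pow_two, C.sq ha, one_zpow] at hj
      exact ha1 (by simpa using hj.symm)
    · rw [hi, zpow_add, zpow_mul, zpow_ofNat, pow_two, C.sq ha, one_zpow, one_mul, zpow_one] at hj
      exact hj.symm
  have hz := ZStar.isolated_mem_center ZStarPrimePower.uniqueInvolutionZStar_proved hiso C.core_eq_bot
  rw [C.center_eq_bot, mem_bot] at hz
  exact ha1 hz

/-! ### Local groups -/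

theorem three_of_le (H : Subgroup G) : ¬ 3 ∣ Nat.card ↥H :=
  fun h => C.three (h.trans (card_subgroup_dvd_card H))

/-- The quotient of a proper subgroup containing `A` by its core is a local group. -/
theorem localQuot {H : Subgroup G} (hH : H ≠ ⊤) (hAH : A ≤ H) :
    Local (↥H ⧸ pPrimeCore 2 ↥H)
      (QuotientGroup.mk' (pPrimeCore 2 ↥H) '' (H.subtype ⁻¹' classSet A))
      ((A.subgroupOf H).map (QuotientGroup.mk' (pPrimeCore 2 ↥H))) := by
  haveI : Fact (Nat.Prime 2) := ⟨Nat.prime_two⟩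
  set R := pPrimeCore 2 ↥H
  set f := QuotientGroup.mk' R
  have hf : Function.Surjective f := QuotientGroup.mk'_surjective R
  refine ⟨Cores.pPrimeCore_quotient_self 2, fun h => C.three_of_le H (h.trans (card_quotient_dvd_card R)),
    (C.sec H hH).map f hf, (C.elemT.preimage H.subtype_injective).image R, ?_,
    (C.two.comap_of_injective H.subtype H.subtype_injective).map f, ?_⟩
  · rintro _ ⟨a, ha, rfl⟩
    exact ⟨a, C.subset ha, rfl⟩
  intro P hP hAP x hxP hxT
  obtain ⟨y, hy, rfl⟩ := hxT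
  set Q := P.comap f
  have hA'Q : A.subgroupOf H ≤ Q := fun a ha => hAP ⟨a, ha, rfl⟩
  have hyQ : y ∈ Q := hxP
  have hpow : IsPGroup 2 ↥((zpowers y).subgroupOf Q) :=
    ((C.elemT.preimage H.subtype_injective).isPGroup_zpowers hy).comap_of_injective Q.subtype Q.subtype_injective
  obtain ⟨R₀, hR₀⟩ := ((C.two.comap_of_injective H.subtype H.subtype_injective).comap_of_injective
    Q.subtype Q.subtype_injective).exists_le_sylow
  obtain ⟨R₁, hR₁⟩ := hpow.exists_le_sylow
  obtain ⟨k, hk⟩ := MulAction.exists_smul_eq ↥Q R₁ R₀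
  let g : ↥Q →* ↥P := f.subgroupComap P
  have hg : Function.Surjective g := f.subgroupComap_surjective_of_surjective P hf
  have himg : ((R₀.mapSurjective hg : Sylow 2 ↥P) : Subgroup ↥P) = ⊤ :=
    ((R₀.mapSurjective hg).is_maximal' (Q := ⊤) (hP.of_equiv Subgroup.topEquiv.symm) le_top).symm
  obtain ⟨r, hr, hrk⟩ : ∃ r ∈ (R₀ : Subgroup ↥Q), g r = g k := by
    have : g k ∈ ((R₀.mapSurjective hg : Sylow 2 ↥P) : Subgroup ↥P) := himg ▸ mem_top _
    exact this
  set yQ : ↥Q := ⟨y, hyQ⟩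
  have hyR : k * yQ * k⁻¹ ∈ (R₀ : Subgroup ↥Q) := by
    rw [← hk, Sylow.coe_subgroup_smul, Coprime.mem_conj]
    simpa [mul_assoc] using hR₁ (show yQ ∈ (zpowers y).subgroupOf Q from mem_zpowers y)
  set k' := r⁻¹ * k with hk'
  have hyR' : k' * yQ * k'⁻¹ ∈ (R₀ : Subgroup ↥Q) := by
    rw [show k' * yQ * k'⁻¹ = r⁻¹ * (k * yQ * k⁻¹) * r by rw [hk']; group]
    exact mul_mem (mul_mem (inv_mem hr) hyR) hr
  have hfk : f (k' : ↥H) = 1 := by
    have h1 : g k' = 1 := by rw [hk', map_mul, map_inv, hrk, inv_mul_cancel]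
    exact congrArg Subtype.val h1
  set z : ↥H := (k' : ↥H) * y * (k' : ↥H)⁻¹
  have hzA : (z : G) ∈ A := by
    refine C.mem_of_mem ((R₀.isPGroup'.map Q.subtype).map H.subtype) ?_ ⟨z, ⟨_, hyR', rfl⟩, rfl⟩
      (C.elemT.closed.conj _ _ hy)
    intro a ha
    exact ⟨⟨a, hAH ha⟩, ⟨⟨⟨a, hAH ha⟩, hA'Q ha⟩, hR₀ ha, rfl⟩, rfl⟩
  refine ⟨z, hzA, ?_⟩
  show f ((k' : ↥H) * y * (k' : ↥H)⁻¹) = f y
  rw [map_mul, map_mul, map_inv, hfk, one_mul, inv_one, mul_one]

/-- A proper subgroup with trivial core containing `A` is a local group. -/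
theorem localSub {H : Subgroup G} (hH : H ≠ ⊤) (hAH : A ≤ H) (hcore : pPrimeCore 2 ↥H = ⊥) :
    Local ↥H (H.subtype ⁻¹' classSet A) (A.subgroupOf H) := by
  refine ⟨hcore, C.three_of_le H, C.sec H hH, C.elemT.preimage H.subtype_injective,
    fun a ha => C.subset ha, C.two.comap_of_injective H.subtype H.subtype_injective,
    fun P hP hAP x hx hxT => ?_⟩
  refine C.mem_of_mem (hP.map H.subtype) (fun a ha => ?_) ⟨x, hx, rfl⟩ hxT
  exact ⟨⟨a, hAH ha⟩, hAP (mem_subgroupOf.2 ha), rfl⟩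

/-- The normaliser of the image of `A` modulo the core is the image of the normaliser of `A`. -/
theorem normalizer_lift {H : Subgroup G} (hAH : A ≤ H) {x : ↥H}
    (hx : QuotientGroup.mk' (pPrimeCore 2 ↥H) x ∈
      normalizer (((A.subgroupOf H).map (QuotientGroup.mk' (pPrimeCore 2 ↥H)) : Subgroup _) : Set _)) :
    ∃ y : ↥H, (y : G) ∈ normalizer (A : Set G) ∧
      QuotientGroup.mk' (pPrimeCore 2 ↥H) y = QuotientGroup.mk' (pPrimeCore 2 ↥H) x := by
  haveI : Fact (Nat.Prime 2) := ⟨Nat.prime_two⟩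
  set R := pPrimeCore 2 ↥H with hR
  set f := QuotientGroup.mk' R
  set A' := A.subgroupOf H
  set Q := (A'.map f).comap f
  have hA'p : IsPGroup 2 ↥A' := C.two.comap_of_injective H.subtype H.subtype_injective
  have hle : A' ≤ Q := le_comap_map _ _
  obtain ⟨R₀, hR₀⟩ := (hA'p.comap_of_injective Q.subtype Q.subtype_injective).exists_le_sylow
  -- a 2-subgroup of `Q` containing `A'` is `A'`
  have hmax : ∀ r ∈ (R₀ : Subgroup ↥Q), (r : ↥H) ∈ A' := by
    intro r hr
    obtain ⟨a, ha, hae⟩ := r.2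
    have hmem : (a⁻¹ * (r : ↥H) : ↥H) ∈ R := (QuotientGroup.eq).1 hae
    have h1 : (⟨a, hle ha⟩ : ↥Q)⁻¹ * r ∈ (R₀ : Subgroup ↥Q) := mul_mem (inv_mem (hR₀ ha)) hr
    have h2 : (a⁻¹ * (r : ↥H) : ↥H) = 1 := Coprime.eq_one_of_mem_of_mem
      (Coprime.coprime_of_isPGroup (Cores.coprime_card_pPrimeCore 2) (R₀.isPGroup'.map Q.subtype)) hmem
      ⟨_, h1, rfl⟩
    rw [inv_mul_eq_one] at h2
    exact h2 ▸ ha
  -- the conjugate of `A'` by `x`
  set A₁ := A'.map (MulAut.conj x).toMonoidHom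
  have hA₁ : A₁ ≤ Q := by
    rintro _ ⟨a, ha, rfl⟩
    show f ((MulAut.conj x) a) ∈ A'.map f
    rw [MulAut.conj_apply, map_mul, map_mul, map_inv]
    exact (mem_normalizer_iff.1 hx _).1 ⟨a, ha, rfl⟩
  obtain ⟨R₁, hR₁⟩ := ((hA'p.map (MulAut.conj x).toMonoidHom).comap_of_injective Q.subtype
    Q.subtype_injective).exists_le_sylow
  obtain ⟨k, hk⟩ := MulAction.exists_smul_eq ↥Q R₁ R₀
  obtain ⟨a₀, ha₀, ha₀e⟩ := k.2
  set y : ↥H := a₀⁻¹ * (k : ↥H) * x with hy
  have key : ∀ a ∈ A', y * a * y⁻¹ ∈ A' := fun a ha => by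
    have h1 : k * (⟨x * a * x⁻¹, hA₁ ⟨a, ha, rfl⟩⟩ : ↥Q) * k⁻¹ ∈ (R₀ : Subgroup ↥Q) := by
      rw [← hk, Sylow.coe_subgroup_smul, Coprime.mem_conj]
      simpa [mul_assoc] using hR₁ (show (⟨x * a * x⁻¹, hA₁ ⟨a, ha, rfl⟩⟩ : ↥Q) ∈ A₁.subgroupOf Q
        from ⟨a, ha, rfl⟩)
    have h2 := hmax _ h1
    rw [show y * a * y⁻¹ = a₀⁻¹ * ((k : ↥H) * (x * a * x⁻¹) * (k : ↥H)⁻¹) * a₀ by rw [hy]; group]
    exact mul_mem (mul_mem (inv_mem ha₀) h2) ha₀
  refine ⟨y, ?_, ?_⟩
  · have hmap : ∀ a ∈ A, (y : G) * a * (y : G)⁻¹ ∈ A := fun a ha =>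
      key ⟨a, hAH ha⟩ (mem_subgroupOf.2 ha)
    let φ : A → A := fun a => ⟨_, hmap a a.2⟩
    have hφ : Function.Injective φ := fun a b h => Subtype.ext
      (mul_left_cancel (mul_right_cancel (congrArg Subtype.val h)))
    refine mem_normalizer_iff.2 fun z => ⟨hmap z, fun hz => ?_⟩
    obtain ⟨a, ha⟩ := (Finite.injective_iff_surjective.1 hφ) ⟨_, hz⟩
    have : (a : G) = z := mul_left_cancel (mul_right_cancel (congrArg Subtype.val ha))
    exact this ▸ a.2
  · rw [hy, map_mul, map_mul, map_inv, ha₀e, inv_mul_cancel, one_mul]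

end Ctx

end Cfsg.Agent.Goldschmidt.ThreePrime
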