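import Cfsg.Prelude.Def_Balance
import Cfsg.Agent.Lib.Suzuki.Aut
import Cfsg.Agent.Lib.Suzuki.Centralizers
import Cfsg.Agent.Lib.Suzuki.Solubilizer
import Cfsg.Agent.Lib.SThreeFree.Inner
import Cfsg.Agent.Lib.Coprime.Basic

/-!
# Local facts on the Suzuki groups used by the signalizer step (owner: helper63)

* `SzLocal L` : centralisers of involutions are 2-groups with an odd element regular on their
  involutions, the count of these, automorphisms
* `szLocal` : a group isomorphic to a Suzuki group has these properties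
-/

set_option autoImplicit false
set_option linter.unusedSectionVars false
set_option linter.style.haveILetI false
set_option linter.unnecessarySeqFocus false

namespace Cfsg.Agent.Goldschmidt

open Subgroup

/-- The facts on `Sz(q)` used by the signalizer step. -/
structure SzLocal (L : Type*) [Group L] : Prop where
  center_eq_bot : center L = ⊥
  inner : ∀ α : MulAut L, α * α = 1 → α ≠ 1 → ∃ u : L, orderOf u = 2 ∧ α = MulAut.conj u
  cent_two : ∀ v : L, orderOf v = 2 → IsPGroup 2 ↥(centralizer ({v} : Set L))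
  torus : ∀ v : L, orderOf v = 2 → ∃ h : L, Odd (orderOf h) ∧
    (∀ x ∈ centralizer ({v} : Set L), h * x * h⁻¹ ∈ centralizer ({v} : Set L)) ∧
    ∀ x ∈ centralizer ({v} : Set L), orderOf x = 2 → ∀ y ∈ centralizer ({v} : Set L), orderOf y = 2 →
      ∃ k : ℕ, h ^ k * x * (h ^ k)⁻¹ = y
  fixed : ∀ v : L, orderOf v = 2 → ∀ α : MulAut L, Odd (orderOf α) →
    (∀ x ∈ centralizer ({v} : Set L), α x = x) → α = 1
  count : ∀ v : L, orderOf v = 2 → ∃ m : ℕ, 1 ≤ m ∧
    Nat.card {x : L // x ∈ centralizer ({v} : Set L) ∧ x * x = 1} = 2 ^ (2 * m + 1)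

variable {F : Type} [Field F] [Fintype F] {m : ℕ}
variable (hm : 1 ≤ m) (hF : Fintype.card F = 2 ^ (2 * m + 1))

include hm in
/-- An automorphism of odd order fixing the unipotent subgroup pointwise is trivial. -/
theorem sz_fixed {β : MulAut (Cfsg.Sz F m)} (hodd : Odd (orderOf β))
    (hfix : ∀ x ∈ Suzuki.uSub hF, β x = x) : β = 1 := by
  haveI := Suzuki.charTwo hF
  haveI := Suzuki.isSimpleGroup_sz (F := F) hm hF
  obtain ⟨g, τ, hβ⟩ := Suzuki.aut_decompose hm hF β
  have hg' : ∀ a b, g⁻¹ * Suzuki.tSz hF a b * g⁻¹⁻¹ = Suzuki.tSz hF (τ a) (τ b) := fun a b => by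
    have h1 := hfix _ (Suzuki.tSz_mem_uSub hF a b)
    rw [hβ, MulAut.mul_apply, MulAut.conj_apply, Suzuki.fieldAut_tSz] at h1
    rw [← h1]
    group
  have hfx : g⁻¹ • suzukiPointInfinity F = suzukiPointInfinity F := by
    refine Suzuki.uSub_fix_eq hF (a := τ 1) (b := τ 0) (fun e => ?_)
      (Suzuki.smul_mem_ovoid _ Suzuki.infinity_mem) ?_
    · exact one_ne_zero (τ.injective (e.1.trans (map_zero τ).symm))
    · rw [← hg', mul_smul, mul_smul, inv_smul_smul, Suzuki.tSz_smul_infinity]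
  obtain ⟨x, y, u, hxy⟩ := Suzuki.exists_tSz_dSz_of_fix hm hF hfx
  have hfst : ∀ a, (u : F) * a = τ a := fun a => by
    have := hg' a 0
    rw [hxy, mul_inv_eq_iff_eq_mul,
      show Suzuki.tSz hF a 0 = Suzuki.tSz hF a 0 * Suzuki.dSz hF 1 by rw [Suzuki.dSz_one, mul_one],
      show Suzuki.tSz hF (τ a) (τ 0) = Suzuki.tSz hF (τ a) (τ 0) * Suzuki.dSz hF 1 by
        rw [Suzuki.dSz_one, mul_one],
      Suzuki.tSz_dSz_mul, Suzuki.tSz_dSz_mul, one_mul, mul_one] at this
    have := (Suzuki.tSz_inj hF (mul_right_cancel this)).1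
    simp only [Units.val_one, one_mul] at this
    grind
  have hu1 : (u : F) = 1 := by have := hfst 1; simpa using this
  have hτ : ∀ a, τ a = a := fun a => by rw [← hfst, hu1, one_mul]
  have hτ1 : τ = 1 := RingEquiv.ext hτ
  have hc : g ∈ centralizer ({Suzuki.tSz hF (0 : F) 1} : Set (Cfsg.Sz F m)) := by
    rw [mem_centralizer_singleton_iff]
    have h1 := hg' 0 1
    rw [hτ, hτ] at h1
    calc g * Suzuki.tSz hF 0 1 = g * (g⁻¹ * Suzuki.tSz hF 0 1 * g⁻¹⁻¹) := by rw [h1]
      _ = Suzuki.tSz hF 0 1 * g := by group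
  have hgU := Suzuki.centralizer_tSz_le hm hF (fun e => one_ne_zero e.2) hc
  have hβg : β = MulAut.conj g := by
    refine hβ.trans ?_
    have h1 : Suzuki.fieldAut hm hF τ = 1 := by
      rw [hτ1]
      exact map_one (Suzuki.fieldAutHom hm hF)
    rw [h1, mul_one]
  obtain ⟨k, hk⟩ := Suzuki.isPGroup_uSub hF ⟨g, hgU⟩
  have hk' : g ^ 2 ^ k = 1 := congrArg Subtype.val hk
  have h2 : orderOf β ∣ 2 ^ k := orderOf_dvd_of_pow_eq_one (by rw [hβg, ← map_pow, hk', map_one])
  exact orderOf_eq_one_iff.1 (Nat.eq_one_of_dvd_coprimes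
    ((Nat.coprime_two_right.2 hodd).pow_right k) dvd_rfl h2)

include hm hF in
/-- The Suzuki groups have the local properties. -/
theorem szLocal_of_equiv {L : Type*} [Group L] [Finite L] (e : L ≃* Cfsg.Sz F m) : SzLocal L := by
  classical
  haveI := Suzuki.charTwo hF
  haveI : Fact (Nat.Prime 2) := ⟨Nat.prime_two⟩
  haveI := Suzuki.isSimpleGroup_sz (F := F) hm hF
  have hZS : center (Cfsg.Sz F m) = ⊥ := by
    rcases (inferInstance : (center (Cfsg.Sz F m)).Normal).eq_bot_or_eq_top with h | h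
    · exact h
    exfalso
    obtain ⟨k, hk⟩ := Suzuki.exists_th_ne hm hF
    have hcomm : Commute (Suzuki.tSz hF k (0 : F)) (Suzuki.tSz hF 1 0) :=
      (mem_center_iff.1 (h.ge (mem_top (Suzuki.tSz hF 1 0))) _)
    have hbr := (commutatorElement_eq_one_iff_commute).2 hcomm
    rw [Suzuki.commutator_tSz, ← Suzuki.tSz_zero hF] at hbr
    have hz := (Suzuki.tSz_inj hF hbr).2
    exact hk (by simp at hz; grind)
  have hZ : center L = ⊥ := by
    refine (Subgroup.eq_bot_iff_forall _).2 fun z hz => e.injective ?_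
    rw [map_one, ← mem_bot, ← hZS, mem_center_iff]
    intro g
    rw [← e.apply_symm_apply g, ← map_mul, ← map_mul, mem_center_iff.1 hz]
  -- normal form of an involution
  have hnorm : ∀ v : L, orderOf v = 2 → ∃ (φ : L ≃* Cfsg.Sz F m) (b : F), b ≠ 0 ∧
      φ v = Suzuki.tSz hF 0 b ∧
      ∀ x, x ∈ centralizer ({v} : Set L) ↔ φ x ∈ Suzuki.uSub hF := by
    intro v hv
    have hv2 : IsPGroup 2 ↥(zpowers (e v)) := IsPGroup.of_card (n := 1) (by
      rw [Nat.card_zpowers, e.orderOf_eq, hv, pow_one])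
    obtain ⟨P, hP⟩ := hv2.exists_le_sylow
    obtain ⟨g, hg⟩ := MulAction.exists_smul_eq (Cfsg.Sz F m) P (Suzuki.uSylow hm hF)
    set φ : L ≃* Cfsg.Sz F m := e.trans (MulAut.conj g) with hφ
    have hmem : φ v ∈ Suzuki.uSub hF := by
      have h3 : ((g • P : Sylow 2 (Cfsg.Sz F m)) : Subgroup (Cfsg.Sz F m)) = Suzuki.uSub hF := by
        rw [hg]; rfl
      rw [← h3, Sylow.coe_subgroup_smul]
      exact Subgroup.smul_mem_pointwise_smul _ _ _ (hP (mem_zpowers _))
    obtain ⟨a, b, hab⟩ := (Suzuki.mem_uSub hF).1 hmem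
    obtain ⟨rfl, hb⟩ := Suzuki.orderOf_tSz_two hm hF (a := a) (b := b) (by rw [← hab, φ.orderOf_eq, hv])
    refine ⟨φ, b, hb, hab, fun x => ⟨fun hx => ?_, fun hx => ?_⟩⟩
    · refine Suzuki.centralizer_tSz_le hm hF (a := (0 : F)) (b := b) (fun h => hb h.2) ?_
      rw [mem_centralizer_singleton_iff, ← hab, ← map_mul, ← map_mul,
        mem_centralizer_singleton_iff.1 hx]
    · obtain ⟨c, d, hcd⟩ := (Suzuki.mem_uSub hF).1 hx
      refine mem_centralizer_singleton_iff.2 (φ.injective ?_)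
      rw [map_mul, map_mul, hab, hcd, Suzuki.tSz_mul, Suzuki.tSz_mul]
      congr 1 <;> simp <;> ring
  refine ⟨hZ, fun α hα hα1 => ?_, fun v hv => ?_, fun v hv => ?_, fun v hv α hodd hfix => ?_,
    fun v hv => ?_⟩
  · have hE : Cfsg.IsElementaryAbelian 2 (zpowers α) := by
      refine ⟨inferInstance, ?_⟩
      rintro _ ⟨i, rfl⟩
      rw [← zpow_natCast, ← zpow_mul, mul_comm, zpow_mul, zpow_natCast, pow_two, hα, one_zpow]
    exact (SThreeFree.sz_inner hm hF e hZ _ hE).2 α (mem_zpowers α) hα1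
  · obtain ⟨φ, b, hb, hv', hC⟩ := hnorm v hv
    refine ((Suzuki.isPGroup_uSub hF).map φ.symm.toMonoidHom).to_le fun x hx => ?_
    exact ⟨φ x, (hC x).1 hx, φ.symm_apply_apply x⟩
  · obtain ⟨φ, b, hb, hv', hC⟩ := hnorm v hv
    obtain ⟨ω, hω⟩ := IsCyclic.exists_generator (α := Fˣ)
    set h := φ.symm (Suzuki.dSz hF ω) with hh
    have hpow : ∀ k : ℕ, φ (h ^ k) = Suzuki.dSz hF (ω ^ k) := fun k => by
      rw [map_pow, hh, φ.apply_symm_apply]
      induction k with
      | zero => rw [pow_zero, pow_zero, Suzuki.dSz_one]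
      | succ k ih => rw [pow_succ, ih, Suzuki.dSz_mul, pow_succ]
    have hconj : ∀ (k : ℕ) (x : L) (c d : F), φ x = Suzuki.tSz hF c d →
        φ (h ^ k * x * (h ^ k)⁻¹) =
          Suzuki.tSz hF ((ω ^ k : Fˣ) * c) (Suzuki.th m ((ω ^ k : Fˣ) : F) * (ω ^ k : Fˣ) * d) := by
      intro k x c d hx
      rw [map_mul, map_mul, map_inv, hpow, hx, Suzuki.dSz_conj_tSz, mul_inv_cancel_right]
    refine ⟨h, ?_, fun x hx => ?_, fun x hx hx2 y hy hy2 => ?_⟩
    · have h1 : h ^ (Fintype.card F - 1) = 1 := φ.injective (by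
        rw [hpow, map_one, ← Fintype.card_units, pow_card_eq_one, Suzuki.dSz_one])
      refine (Nat.Even.sub_odd ?_ ?_ odd_one).of_dvd_nat (orderOf_dvd_of_pow_eq_one h1)
      · exact Nat.one_le_iff_ne_zero.2 Fintype.card_ne_zero
      · rw [hF]; exact (Nat.even_pow.2 ⟨even_two, by omega⟩)
    · obtain ⟨c, d, hcd⟩ := (Suzuki.mem_uSub hF).1 ((hC x).1 hx)
      have h1 := hconj 1 x c d hcd
      rw [pow_one] at h1
      exact (hC _).2 (h1 ▸ Suzuki.tSz_mem_uSub hF _ _)
    · obtain ⟨c, d, hcd⟩ := (Suzuki.mem_uSub hF).1 ((hC x).1 hx)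
      obtain ⟨c', d', hcd'⟩ := (Suzuki.mem_uSub hF).1 ((hC y).1 hy)
      obtain ⟨rfl, hd⟩ := Suzuki.orderOf_tSz_two hm hF (a := c) (b := d) (by rw [← hcd, φ.orderOf_eq, hx2])
      obtain ⟨rfl, hd'⟩ := Suzuki.orderOf_tSz_two hm hF (a := c') (b := d')
        (by rw [← hcd', φ.orderOf_eq, hy2])
      obtain ⟨t, ht⟩ := (Suzuki.thSucc_bijective hF).2 (d' / d)
      have ht0 : t ≠ 0 := fun e0 => by
        subst e0
        simp at ht
        exact (div_ne_zero hd' hd) (by simpa using ht.symm)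
      obtain ⟨k, hk⟩ := (mem_powers_iff_mem_zpowers).2 (hω (Units.mk0 t ht0))
      refine ⟨k, φ.injective ?_⟩
      rw [hconj k x 0 d hcd, hcd', mul_zero, show (ω ^ k : Fˣ) = Units.mk0 t ht0 from hk,
        Units.val_mk0]
      congr 1
      simp only at ht
      rw [ht]
      field_simp
  · obtain ⟨φ, b, hb, hv', hC⟩ := hnorm v hv
    have h1 := sz_fixed hm hF (β := MulAut.congr φ α) ?_ fun x hx => ?_
    · exact (MulAut.congr φ).injective (h1.trans (map_one _).symm)
    · rwa [MulEquiv.orderOf_eq]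
    · show φ (α (φ.symm x)) = x
      rw [hfix _ ((hC _).2 (by rwa [φ.apply_symm_apply])), φ.apply_symm_apply]
  · obtain ⟨φ, b, hb, hv', hC⟩ := hnorm v hv
    refine ⟨m, hm, ?_⟩
    rw [← hF, ← Nat.card_eq_fintype_card]
    refine (Nat.card_congr (Equiv.ofBijective (fun d : F =>
      (⟨φ.symm (Suzuki.tSz hF 0 d), (hC _).2 (by rw [φ.apply_symm_apply]; exact Suzuki.tSz_mem_uSub hF _ _),
        φ.injective (by rw [map_mul, map_one, φ.apply_symm_apply, Suzuki.tSz_mul, Suzuki.tSz_eq_one_iff]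
                        constructor <;> simp <;> grind)⟩ :
        {x : L // x ∈ centralizer ({v} : Set L) ∧ x * x = 1})) ⟨fun d d' hd => ?_, fun ⟨x, hx, hx2⟩ => ?_⟩)).symm
    · exact (Suzuki.tSz_inj hF (φ.symm.injective (congrArg Subtype.val hd))).2
    · obtain ⟨c, d, hcd⟩ := (Suzuki.mem_uSub hF).1 ((hC x).1 hx)
      refine ⟨d, Subtype.ext (φ.injective ?_)⟩
      show φ (φ.symm _) = φ x
      rw [φ.apply_symm_apply, hcd]
      have h3 := congrArg φ hx2
      rw [map_mul, map_one, hcd, Suzuki.tSz_mul, Suzuki.tSz_eq_one_iff] at h3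
      have hc : Suzuki.th m c * c = 0 := by grind
      rcases mul_eq_zero.mp hc with h' | h'
      · rw [Suzuki.th_eq_zero.mp h']
      · rw [h']

/-- A group isomorphic to a Suzuki group has the local properties. -/
theorem szLocal {L : Type*} [Group L] [Finite L] (h : Cfsg.Lie.IsoSuzuki L) : SzLocal L := by
  obtain ⟨F, _, _, m, hm, hF, ⟨e⟩⟩ := h
  exact szLocal_of_equiv hm hF (e.trans (Suzuki.lieEquiv hm hF).symm)

/-- A Suzuki group is locally balanced. -/
theorem SzLocal.locallyBalanced {L : Type*} [Group L] [Finite L] (hS : SzLocal L) :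
    Cfsg.IsLocallyBalanced L := by
  intro H hH x hx
  haveI : Fact (Nat.Prime 2) := ⟨Nat.prime_two⟩
  haveI : Finite (MulAut L) :=
    Finite.of_injective (fun f : MulAut L => (f : L → L)) DFunLike.coe_injective
  obtain ⟨u, hu, hxu⟩ := hS.inner (x : MulAut L)
    (by rw [← Subgroup.coe_mul, ← pow_two, ← hx, pow_orderOf_eq_one, Subgroup.coe_one])
    (fun e => by rw [show x = 1 from Subtype.ext e, orderOf_one] at hx; omega)
  have hinj : ∀ a b : L, MulAut.conj a = MulAut.conj b → a = b := fun a b hab => by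
    have h1 : b⁻¹ * a ∈ center L := mem_center_iff.2 fun g => by
      have h2 := DFunLike.congr_fun hab g
      simp only [MulAut.conj_apply] at h2
      calc g * (b⁻¹ * a) = b⁻¹ * (b * g * b⁻¹) * a := by group
        _ = b⁻¹ * (a * g * a⁻¹) * a := by rw [h2]
        _ = b⁻¹ * a * g := by group
    rw [hS.center_eq_bot, mem_bot] at h1
    exact (inv_mul_eq_one.1 h1).symm
  set C := centralizer ({x} : Set H) with hC
  refine (Subgroup.eq_bot_iff_forall _).2 ?_
  rintro _ ⟨d, hd, rfl⟩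
  set D := Cfsg.pPrimeCore 2 C with hD
  have hodd : Odd (Nat.card D) := Nat.coprime_two_right.1 (Cores.coprime_card_pPrimeCore 2)
  have hdodd : Odd (orderOf ((d : H) : MulAut L)) := by
    rw [orderOf_submonoid, orderOf_submonoid]
    exact hodd.of_dvd_nat (Subgroup.orderOf_dvd_natCard D hd)
  have hkey := hS.fixed u hu _ hdodd fun q hq => ?_
  · exact Subtype.ext hkey
  set dd : MulAut L := ((d : H) : MulAut L) with hdd
  have hdu : dd u = u := by
    refine hinj _ _ ?_
    have h1 : (d : H) * x = x * d := mem_centralizer_singleton_iff.1 d.2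
    have h2 := congrArg (fun z : H => (z : MulAut L)) h1
    simp only [Subgroup.coe_mul, hxu] at h2
    calc MulAut.conj (dd u) = dd * MulAut.conj u * dd⁻¹ := by
          refine MulEquiv.ext fun z => ?_; simp
      _ = MulAut.conj u := by rw [show dd * MulAut.conj u = MulAut.conj u * dd from h2]; group
  -- the inner automorphism by `q` as a member of `C`
  have hqC : (⟨MulAut.conj q, hH ⟨q, rfl⟩⟩ : H) ∈ C := mem_centralizer_singleton_iff.2 (Subtype.ext (by
    show MulAut.conj q * (x : MulAut L) = (x : MulAut L) * MulAut.conj q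
    rw [hxu, ← map_mul, ← map_mul, mem_centralizer_singleton_iff.1 hq]))
  set qq : C := ⟨_, hqC⟩
  have hcD : d * qq * d⁻¹ * qq⁻¹ ∈ D := by
    have h1 : qq * d⁻¹ * qq⁻¹ ∈ D := (Cores.pPrimeCore_normal 2 ↥C).conj_mem _ (D.inv_mem hd) qq
    rw [show d * qq * d⁻¹ * qq⁻¹ = d * (qq * d⁻¹ * qq⁻¹) by group]
    exact D.mul_mem hd h1
  have hval : (((d * qq * d⁻¹ * qq⁻¹ : C) : H) : MulAut L) = MulAut.conj (dd q * q⁻¹) := by
    refine MulEquiv.ext fun z => ?_
    simp [qq, hdd]
  have hmem : dd q * q⁻¹ ∈ centralizer ({u} : Set L) := by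
    refine mul_mem (mem_centralizer_singleton_iff.2 ?_) (inv_mem hq)
    conv_lhs => rw [← hdu]
    conv_rhs => rw [← hdu]
    rw [← map_mul, ← map_mul, mem_centralizer_singleton_iff.1 hq]
  obtain ⟨k, hk⟩ := hS.cent_two u hu ⟨_, hmem⟩
  have hk' : (dd q * q⁻¹) ^ 2 ^ k = 1 := congrArg Subtype.val hk
  have h2 : orderOf (d * qq * d⁻¹ * qq⁻¹ : C) ∣ 2 ^ k := by
    rw [← orderOf_submonoid (d * qq * d⁻¹ * qq⁻¹ : C), ← orderOf_submonoid ((d * qq * d⁻¹ * qq⁻¹ : C) : H),
      hval]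
    exact orderOf_dvd_of_pow_eq_one (by rw [← map_pow, hk', map_one])
  have h3 : (d * qq * d⁻¹ * qq⁻¹ : C) = 1 := orderOf_eq_one_iff.1 (Nat.eq_one_of_dvd_coprimes
    ((Nat.coprime_two_right.2 (hodd.of_dvd_nat (Subgroup.orderOf_dvd_natCard D hcD))).pow_right k)
    dvd_rfl h2)
  rw [h3] at hval
  have h4 : dd q * q⁻¹ = 1 := hinj _ _ (by rw [map_one]; exact hval.symm)
  exact mul_inv_eq_one.1 h4

end Cfsg.Agent.Goldschmidt
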